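import Cfsg.Agent.Recog.X8.ModD

/-! Words for the three quotients. -/

set_option autoImplicit false
set_option maxRecDepth 100000

namespace CF.X8
open CF.Comp CF.Dce CF.J4

noncomputable def YW : List (List ℕ) := [[],
  [(nat_lit 0)],
  [(nat_lit 0),
  (nat_lit 1),
  (nat_lit 1),
  (nat_lit 3),
  (nat_lit 2),
  (nat_lit 0),
  (nat_lit 3),
  (nat_lit 1),
  (nat_lit 2),
  (nat_lit 0)],
  [(nat_lit 1), (nat_lit 3), (nat_lit 1), (nat_lit 1)],
  [(nat_lit 3), (nat_lit 1), (nat_lit 1), (nat_lit 0), (nat_lit 1)],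
  [(nat_lit 3)]]
noncomputable def RS : List ℕ := [(nat_lit 0x408030140803010),
  (nat_lit 0xc040102c0401020),
  (nat_lit 0x3719c74951a2f458),
  (nat_lit 0x203080c203080c0),
  (nat_lit 0x203080c00203080c),
  (nat_lit 0x3010c04001020408)]
noncomputable def SQ : List (List ℕ × List ℕ) := [([], [(nat_lit 1), (nat_lit 0)]),
  ([(nat_lit 0), (nat_lit 2), (nat_lit 1), (nat_lit 3)], [(nat_lit 3), (nat_lit 4), (nat_lit 2), (nat_lit 5)]),
  ([], [(nat_lit 0), (nat_lit 1), (nat_lit 3), (nat_lit 4), (nat_lit 2)]),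
  ([(nat_lit 1), (nat_lit 2), (nat_lit 4)], [(nat_lit 0), (nat_lit 2), (nat_lit 1), (nat_lit 5), (nat_lit 4), (nat_lit 2)])]
noncomputable def YS : List (List ℕ) := [[(nat_lit 1),
  (nat_lit 1),
  (nat_lit 5),
  (nat_lit 1),
  (nat_lit 2),
  (nat_lit 2),
  (nat_lit 1),
  (nat_lit 1),
  (nat_lit 5),
  (nat_lit 1)],
  [(nat_lit 1), (nat_lit 3), (nat_lit 2), (nat_lit 2), (nat_lit 3), (nat_lit 2), (nat_lit 3)],
  [(nat_lit 1),
  (nat_lit 2),
  (nat_lit 0),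
  (nat_lit 5),
  (nat_lit 3),
  (nat_lit 2),
  (nat_lit 2),
  (nat_lit 5),
  (nat_lit 3),
  (nat_lit 2)],
  [(nat_lit 1), (nat_lit 4), (nat_lit 2), (nat_lit 4), (nat_lit 0), (nat_lit 2), (nat_lit 3), (nat_lit 2)],
  [(nat_lit 4), (nat_lit 1), (nat_lit 2), (nat_lit 2), (nat_lit 2), (nat_lit 3), (nat_lit 2), (nat_lit 4)],
  [(nat_lit 2),
  (nat_lit 1),
  (nat_lit 3),
  (nat_lit 0),
  (nat_lit 1),
  (nat_lit 5),
  (nat_lit 1),
  (nat_lit 2),
  (nat_lit 2),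
  (nat_lit 2)]]
noncomputable def YE : List ℕ := [(nat_lit 0x8040201008040201),
  (nat_lit 0x41da410d1808601),
  (nat_lit 0x41da410d1808601),
  (nat_lit 0xe49cb46cfca80302),
  (nat_lit 0x64dc947cf4ac0103),
  (nat_lit 0xb2464f4db83630d8),
  (nat_lit 0xb2464f4db83630d8),
  (nat_lit 0x89472e199173ec98),
  (nat_lit 0x89472e199173ec98),
  (nat_lit 0xb86445cfb2613a25),
  (nat_lit 0xb86445cfb2613a25),
  (nat_lit 0x43ea494f2800285),
  (nat_lit 0x43ea494f2800285)]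
noncomputable def BK : List (List ℕ) := [[(nat_lit 1), (nat_lit 4), (nat_lit 1), (nat_lit 11), (nat_lit 4), (nat_lit 11)],
  [(nat_lit 4),
  (nat_lit 1),
  (nat_lit 9),
  (nat_lit 3),
  (nat_lit 1),
  (nat_lit 7),
  (nat_lit 11),
  (nat_lit 3),
  (nat_lit 1),
  (nat_lit 11),
  (nat_lit 3),
  (nat_lit 1),
  (nat_lit 9),
  (nat_lit 4)],
  [(nat_lit 4), (nat_lit 9), (nat_lit 11), (nat_lit 3), (nat_lit 1), (nat_lit 11), (nat_lit 3), (nat_lit 1)],
  [(nat_lit 3),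
  (nat_lit 1),
  (nat_lit 11),
  (nat_lit 4),
  (nat_lit 1),
  (nat_lit 7),
  (nat_lit 1),
  (nat_lit 3),
  (nat_lit 1),
  (nat_lit 11),
  (nat_lit 4)],
  [(nat_lit 3), (nat_lit 5), (nat_lit 11), (nat_lit 3), (nat_lit 1), (nat_lit 3), (nat_lit 11), (nat_lit 4)],
  [(nat_lit 5), (nat_lit 11), (nat_lit 9), (nat_lit 3), (nat_lit 1), (nat_lit 3), (nat_lit 9), (nat_lit 11)]]
noncomputable def SI : List ℕ := [(nat_lit 0xc08010300c080103),
  (nat_lit 0x80400c0803023020),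
  (nat_lit 0x80401b362a153927),
  (nat_lit 0x2010c0810308040),
  (nat_lit 0x408030140803010),
  (nat_lit 0xa273a8dc2a378acd)]

end CF.X8
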