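import Cfsg.Agent.Recog.X8.C2C
import Cfsg.Agent.Recog.X8.C2T

/-! Checks for the relations. -/

set_option autoImplicit false
set_option maxRecDepth 100000

namespace CF.X8
open CF.Comp CF.Dce CF.J4

/-- a test -/
noncomputable def hld (d : ℕ) (S : List ℕ) (f : List ℕ × ℕ × Bool) : Bool :=
  force (wt d S f.1) fun x => Nat.beq (pw (mm 24) (mo 24) x f.2.1) (mo 24) == f.2.2

/-- an orbit under conjugation -/
noncomputable def orbM (gc : List ℕ) (o : ℕ × List (ℕ × ℕ × ℕ)) : ℕ :=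
  List.rec (motive := fun _ => ℕ) (Nat.shiftLeft 1 o.1) (fun e _ M => force M fun M => force (nth (mo 24) gc e.2.1)
    fun g => Bool.rec M (Nat.lor M (Nat.shiftLeft 1 e.2.2))
      (tb M e.1 && Nat.beq (mm 24 (tt e.1) g) (mm 24 g (tt e.2.2)))) o.2

/-- all candidates lie in the orbits -/
noncomputable def ndOK (F : List (List ℕ × ℕ × Bool))
    (nd : List ℕ × List (List ℕ) × List (ℕ × List (ℕ × ℕ × ℕ))) : Bool :=
  forceL (lmap wi nd.2.1) fun gc => lall (fun g => lall (fun x => cmB g (tt x)) (133 :: nd.1)) gc &&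
    force (lors (lmap (orbM gc) nd.2.2)) fun M => lall (fun j => tb M j || lany (fun f => !hld 133 (j :: nd.1) f) F) Tp

/-- one more generator -/
def LvOK (A : List ℕ) (V : ℕ × List (List ℕ × ℕ × Bool) × List (List ℕ × List (List ℕ) × List (ℕ × List (ℕ × ℕ × ℕ))))
    (nxt : List (List ℕ)) : Prop :=
  cmB (tt V.1) (tt 133) = true ∧ lall (hld 2268 (V.1 :: A)) V.2.1 = true ∧
    ∀ nd ∈ V.2.2, ndOK V.2.1 nd = true ∧ ∀ o ∈ nd.2.2, o.1 :: nd.1 ∈ nxt

/-- generators -/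
def SA : List ℕ := [1037, 1578, 74, 135, 216, 820, 685, 133, 2268]

/-- their images -/
def SB : List ℕ := [689, 429, 265, 1079, 1012, 1571, 1009, 1008, 2268, 133]

theorem v2 : LvOK (SA.drop 7) V2 (V3.2.2.map Prod.fst) := by unfold LvOK; decide +kernel
theorem v3 : LvOK (SA.drop 6) V3 (V4.2.2.map Prod.fst) := by unfold LvOK; decide +kernel
theorem v4 : LvOK (SA.drop 5) V4 (V5.2.2.map Prod.fst) := by unfold LvOK; decide +kernel
theorem v5 : LvOK (SA.drop 4) V5 (V6.2.2.map Prod.fst) := by unfold LvOK; decide +kernel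
theorem v6 : LvOK (SA.drop 3) V6 (V7.2.2.map Prod.fst) := by unfold LvOK; decide +kernel
theorem v7 : LvOK (SA.drop 2) V7 (V8.2.2.map Prod.fst) := by unfold LvOK; decide +kernel
theorem v8 : LvOK (SA.drop 1) V8 [SB.drop 1] := by unfold LvOK; decide +kernel

/-- an element that exchanges two arms of the diagram -/
def hw : List ℕ := [685, 302, 820, 685, 216, 302, 820, 685, 216, 820, 74, 133, 302, 216, 820, 685]

theorem x1 : ∀ p ∈ [(685, 133), (133, 685), (216, 216), (135, 135), (74, 74), (820, 302)],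
    mm 24 (wi hw) (tt p.1) = mm 24 (tt p.2) (wi hw) := by decide +kernel

theorem x2 : force (tt 133) (fun e => allFrom (fun j => force (tt j) fun x =>
    lany (fun i => !cmB x (tt i)) [1008, 1571, 1012, 1079] || cmB x e || force (mm 24 e x) (fun y =>
      !Nat.beq (pw (mm 24) (mo 24) y 3) (mo 24)) || inL [689, 824, 827, 867] j) 0 2269) = true := by decide +kernel

theorem x3 : wi [133, 824, 133] = tt 689 ∧ wi [133, 867, 133] = tt 827 ∧ wi [265, 827, 265] = tt 689 ∧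
    wi [1578, 302, 1578] = tt 390 ∧ wt 0 [133, 685, 820, 216, 135, 74, 390]
      [2, 1, 3, 6, 2, 3, 2, 6, 3, 1, 2, 1, 3, 2, 1, 6, 2, 3, 1, 6, 2, 3, 1, 2, 6, 1] = tt 2268 ∧ tt 2268 = az ∧
    cmB (tt 689) (tt 133) = false ∧ wt 133 SB [7, 1, 3, 1, 5, 0, 2, 1, 0] =
      wt 133 SB [1, 3, 1, 5, 0, 2, 1, 0, 8, 6, 5, 6, 2, 1, 3, 1, 2] ∧
    wt 2268 SA [7, 5, 4, 5, 1, 0, 2, 0, 1] = tt 1457 := by decide +kernel

/-- the relations of the new generator -/
def RU : List (List ℕ) := [[0, 0], [0, 7, 0, 7], [0, 6, 0, 6], [0, 5, 0, 5], [0, 4, 0, 4], [0, 3, 0, 3],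
  [0, 9, 0, 9, 0, 9], [0, 1, 0, 1, 0, 1], [0, 2, 0, 2, 0, 2], [0, 8, 0, 8]]

/-- the letters of the presentation -/
noncomputable def lt2 (i : ℕ) : ℕ := nth 0 [16, 15, 17, 5, 4, 3, 2, 0, 18, 6] i

/-- the codes of the generators -/
noncomputable def gc (i : ℕ) : ℕ := pf (nth [] GW i)

theorem x4 : (∀ w ∈ RU, wt 133 SB w = mo 24 ∧ lets 10 w = true) ∧ (∀ i < 9, i ≠ 7 → gc (lt2 (i + 1)) = tt (nth 2268 SA i)) ∧
    gc 1 = tt 302 ∧ (∀ w ∈ GW, okw 6 w = true) ∧ (∀ i < 16, okw 5 (nth [] GW i) = true) ∧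
    ∀ l < 15, lets 18 (nth [] HW l) = true ∧ 16 ∉ nth [] HW l ∧
      evW (mm 24) (mo 24) gc (nth [] HW l) = nth (mo 24) TB l := by decide +kernel

theorem x5 : ∀ r ∈ RY ++ RZ, r = [33, 3, 33, 3] ∨ (∃ w ∈ RU, 8 ∉ w ∧ r = w.map fun i => 2 * lt2 i + 1) ∨
    (∀ x ∈ r, x % 2 = 1 ∧ x ≠ 33) ∧ evW (mm 24) (mo 24) (fun x => gc (x / 2)) r = mo 24 := by decide +kernel

theorem y1 : force (mkl (lmap (fun j => Nat.mod (tt j) 133969) (rng 2269))) (fun M => forceL (lmap (jc 10) O10)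
    fun C => lall (fun o => force (jc 10 o) fun w => allFrom (fun j => force (tt j) fun x => force (mm 24 x w) fun y =>
      !Nat.beq y (mm 24 w x) || !tb M (Nat.mod y 133969) || inL C x) 0 2269) [33, 226, 513]) = true := by
  decide +kernel

/-- the conjugates whose extraspecial group may contain a given element -/
noncomputable def dl (W c : ℕ) (fin : ℕ → ℕ → ℕ → ℕ → Bool) : Bool := force (jc 10 c) fun w =>
  allFrom (fun j => force (tt j) fun x => force (mm 24 x w) fun y => !Nat.beq y (mm 24 w x) ||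
    force (fld 24 W j) fun v => force (Nat.mod v 4096) fun a => fin j x y a || force (tt a) fun p => Nat.beq p y ||
      force (tt (Nat.div v 4096)) fun q => cmB p x && cmB q x &&
        force (mm 24 (mm 24 w (mm 24 p q)) (mm 24 w (mm 24 q p))) fun s => force (mm 24 s s) fun s =>
          !Nat.beq s (mo 24) && !Nat.beq s x) 0 2269

theorem y2 : dl WA 2 (fun j _ y a => Nat.beq j 2268 || Nat.beq (tt a) (mm 24 az y)) = true := by decide +kernel

theorem y3 : dl WB 481 (fun j x _ a => Nat.blt j 1008 || Nat.beq x (jc 10 a)) = true := by decide +kernel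

theorem y4 : ∀ a ∈ O10, MB.testBit (a ^^^ 2) = true → ∀ b ∈ O10, MB.testBit (b ^^^ 2) = true → ∀ c ∈ O10,
    MB.testBit (c ^^^ 2) = true → ∃ i < 2, ∃ j < 2, ∃ k < 2, ∃ l < 2, force (i * (448 ^^^ a) ^^^ j * (512 ^^^ b) ^^^
      k * (520 ^^^ c) ^^^ l * 2) (fun v => !Nat.beq v 0 && !tb MB v) = true := by decide +kernel

end CF.X8
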