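import Cfsg.Agent.Recog.X8.ModD
import Cfsg.Agent.Recog.X8.Chk

/-! Data for the searches. -/

set_option autoImplicit false
set_option maxRecDepth 100000

namespace CF.X8
open CF.Comp CF.Dce CF.J4

noncomputable def TW6 : List (List ℕ) := [[(nat_lit 2), (nat_lit 3), (nat_lit 2), (nat_lit 1), (nat_lit 3), (nat_lit 1), (nat_lit 2)],
  [(nat_lit 0), (nat_lit 2), (nat_lit 3), (nat_lit 0), (nat_lit 2), (nat_lit 0), (nat_lit 2)],
  [(nat_lit 0), (nat_lit 1), (nat_lit 0), (nat_lit 0), (nat_lit 1), (nat_lit 2), (nat_lit 2)],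
  [(nat_lit 2), (nat_lit 0), (nat_lit 2), (nat_lit 2), (nat_lit 3), (nat_lit 2)],
  [(nat_lit 1), (nat_lit 1), (nat_lit 3), (nat_lit 1)],
  [(nat_lit 3)]]
noncomputable def TW7 : List (List ℕ) := [(nat_lit 4)] :: TW6
noncomputable def TW9 : List (List ℕ) := [(nat_lit 5), (nat_lit 1), (nat_lit 1), (nat_lit 0), (nat_lit 1), (nat_lit 3), (nat_lit 5)] :: [(nat_lit 0), (nat_lit 0), (nat_lit 1), (nat_lit 5), (nat_lit 1), (nat_lit 1), (nat_lit 0)] :: TW7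
noncomputable def qsp : ℕ := (nat_lit 0x111e111e111eeee1111e111e111eeee1111e111e111eeee1eee1eee1eee1111e)
noncomputable def W4 : ℕ := (nat_lit 0x80800008000008004040000400000400202000020000020010100001000001)
noncomputable def rep : List ℕ := [(nat_lit 0x2010c0810308040), (nat_lit 0x201201008048040), (nat_lit 0xb458e35149863619)]
noncomputable def CT : List (ℕ × List ℕ × ℕ) := [((nat_lit 0x2010c0810308040), [], (nat_lit 0)),
  ((nat_lit 0x40c0103c0803020), [(nat_lit 1), (nat_lit 1)], (nat_lit 0)),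
  ((nat_lit 0x302040c00302040c), [(nat_lit 1)], (nat_lit 0)),
  ((nat_lit 0x362d61d3cb86b46c), [(nat_lit 0), (nat_lit 2), (nat_lit 0), (nat_lit 2)], (nat_lit 0)),
  ((nat_lit 0xb46c4dcbd3b2362d), [(nat_lit 1), (nat_lit 3), (nat_lit 2), (nat_lit 1), (nat_lit 0)], (nat_lit 0)),
  ((nat_lit 0x80400c0810300201), [(nat_lit 2), (nat_lit 3), (nat_lit 1)], (nat_lit 1)),
  ((nat_lit 0x201201008048040), [], (nat_lit 1)),
  ((nat_lit 0x362d4dcbd3b2b46c), [(nat_lit 2), (nat_lit 0), (nat_lit 1)], (nat_lit 1)),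
  ((nat_lit 0xb46c61d3cb86362d), [(nat_lit 2), (nat_lit 3), (nat_lit 2), (nat_lit 1), (nat_lit 3), (nat_lit 1), (nat_lit 2)], (nat_lit 0)),
  ((nat_lit 0xb2616cd81b36864d), [(nat_lit 0), (nat_lit 2), (nat_lit 1), (nat_lit 1), (nat_lit 3), (nat_lit 0), (nat_lit 2), (nat_lit 0)], (nat_lit 0)),
  ((nat_lit 0x864d2d1bd8b4b261), [(nat_lit 0), (nat_lit 1), (nat_lit 2), (nat_lit 1), (nat_lit 3), (nat_lit 1), (nat_lit 0), (nat_lit 2)], (nat_lit 0)),
  ((nat_lit 0x1a35e3928a459874), [(nat_lit 0), (nat_lit 2)], (nat_lit 0)),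
  ((nat_lit 0x9874cf8a92711a35), [(nat_lit 2), (nat_lit 2), (nat_lit 3), (nat_lit 1), (nat_lit 2)], (nat_lit 0)),
  ((nat_lit 0xac58a25149c72e19), [(nat_lit 2), (nat_lit 0), (nat_lit 3), (nat_lit 2), (nat_lit 2), (nat_lit 2)], (nat_lit 0)),
  ((nat_lit 0x2e198e4951f3ac58), [(nat_lit 1), (nat_lit 2), (nat_lit 0), (nat_lit 2)], (nat_lit 1)),
  ((nat_lit 0x1a35cf8a92719874), [(nat_lit 0), (nat_lit 2)], (nat_lit 1)),
  ((nat_lit 0x9874e3928a451a35), [(nat_lit 2), (nat_lit 3), (nat_lit 2), (nat_lit 1), (nat_lit 2), (nat_lit 2)], (nat_lit 0)),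
  ((nat_lit 0xac588e4951f32e19), [(nat_lit 0), (nat_lit 0), (nat_lit 1), (nat_lit 3), (nat_lit 2), (nat_lit 0)], (nat_lit 0)),
  ((nat_lit 0x2e19a25149c7ac58), [(nat_lit 0), (nat_lit 1), (nat_lit 0), (nat_lit 2), (nat_lit 0)], (nat_lit 0)),
  ((nat_lit 0x9372c98729177ce8), [(nat_lit 0), (nat_lit 3), (nat_lit 2), (nat_lit 1), (nat_lit 0)], (nat_lit 0)),
  ((nat_lit 0x173ee894e1934ec9), [(nat_lit 0), (nat_lit 2), (nat_lit 1), (nat_lit 0)], (nat_lit 0)),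
  ((nat_lit 0x251fa45cf2a1ca85), [(nat_lit 0), (nat_lit 0), (nat_lit 2), (nat_lit 1), (nat_lit 0)], (nat_lit 0)),
  ((nat_lit 0xa153854f3a25f8a4), [(nat_lit 1), (nat_lit 3), (nat_lit 1), (nat_lit 0), (nat_lit 2)], (nat_lit 0)),
  ((nat_lit 0x3d2b4bc668d4d2b1), [(nat_lit 2), (nat_lit 0), (nat_lit 2), (nat_lit 0), (nat_lit 1)], (nat_lit 0)),
  ((nat_lit 0x8d4b2b1663d2d4bc), [(nat_lit 3), (nat_lit 1), (nat_lit 0), (nat_lit 2)], (nat_lit 0)),
  ((nat_lit 0x8b46261db36264dc), [(nat_lit 0), (nat_lit 3), (nat_lit 2), (nat_lit 2), (nat_lit 2), (nat_lit 1)], (nat_lit 0)),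
  ((nat_lit 0x3b2646cdb86462d1), [(nat_lit 1), (nat_lit 0), (nat_lit 2)], (nat_lit 0)),
  ((nat_lit 0x408030140803010), [(nat_lit 1), (nat_lit 2), (nat_lit 0), (nat_lit 5)], (nat_lit 2)),
  ((nat_lit 0x3010c04001020408), [(nat_lit 2), (nat_lit 0), (nat_lit 5)], (nat_lit 2)),
  ((nat_lit 0x203080c203080c0), [(nat_lit 1), (nat_lit 1), (nat_lit 2), (nat_lit 0), (nat_lit 5)], (nat_lit 2)),
  ((nat_lit 0x361bcb4d61b2b4d8), [(nat_lit 0), (nat_lit 1), (nat_lit 5)], (nat_lit 2)),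
  ((nat_lit 0xb458e35149863619), [], (nat_lit 2)),
  ((nat_lit 0x3619cf4951b2b458), [(nat_lit 1), (nat_lit 1), (nat_lit 2), (nat_lit 0), (nat_lit 3), (nat_lit 5), (nat_lit 1)], (nat_lit 1)),
  ((nat_lit 0x235a2928a048074), [(nat_lit 1), (nat_lit 0), (nat_lit 1), (nat_lit 3), (nat_lit 5), (nat_lit 1)], (nat_lit 1)),
  ((nat_lit 0x80748e8a92300235), [(nat_lit 1), (nat_lit 0), (nat_lit 0), (nat_lit 1), (nat_lit 5), (nat_lit 1)], (nat_lit 1)),
  ((nat_lit 0xb458cf4951b23619), [(nat_lit 1), (nat_lit 1), (nat_lit 5), (nat_lit 1), (nat_lit 0), (nat_lit 2)], (nat_lit 0)),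
  ((nat_lit 0x3619e3514986b458), [(nat_lit 5), (nat_lit 1), (nat_lit 0), (nat_lit 1), (nat_lit 2), (nat_lit 5)], (nat_lit 0)),
  ((nat_lit 0x2358e8a92308074), [(nat_lit 5), (nat_lit 1), (nat_lit 0), (nat_lit 1), (nat_lit 0), (nat_lit 0), (nat_lit 5)], (nat_lit 0)),
  ((nat_lit 0x8074a2928a040235), [(nat_lit 2), (nat_lit 0), (nat_lit 5), (nat_lit 1), (nat_lit 5), (nat_lit 1)], (nat_lit 1)),
  ((nat_lit 0x2e2d20d3cbc7ac6c), [(nat_lit 1), (nat_lit 1), (nat_lit 4), (nat_lit 5), (nat_lit 1)], (nat_lit 1)),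
  ((nat_lit 0xac6c0ccbd3f32e2d), [(nat_lit 1), (nat_lit 1), (nat_lit 5), (nat_lit 1)], (nat_lit 1)),
  ((nat_lit 0x9840611008451a01), [(nat_lit 2), (nat_lit 1), (nat_lit 5), (nat_lit 1), (nat_lit 5)], (nat_lit 1)),
  ((nat_lit 0x1a014d0810719840), [(nat_lit 1), (nat_lit 1), (nat_lit 0), (nat_lit 5), (nat_lit 1), (nat_lit 0), (nat_lit 5), (nat_lit 1), (nat_lit 5)], (nat_lit 0)),
  ((nat_lit 0x2e2d0ccbd3f3ac6c), [(nat_lit 0), (nat_lit 2), (nat_lit 5), (nat_lit 1), (nat_lit 0), (nat_lit 1), (nat_lit 2), (nat_lit 5)], (nat_lit 0)),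
  ((nat_lit 0xac6c20d3cbc72e2d), [(nat_lit 2), (nat_lit 0), (nat_lit 1), (nat_lit 5)], (nat_lit 1)),
  ((nat_lit 0x98404d0810711a01), [(nat_lit 1), (nat_lit 0), (nat_lit 1), (nat_lit 5), (nat_lit 1)], (nat_lit 1)),
  ((nat_lit 0x1a01611008459840), [(nat_lit 2), (nat_lit 3), (nat_lit 1), (nat_lit 5)], (nat_lit 1)),
  ((nat_lit 0x86492f1958b4b251), [(nat_lit 2), (nat_lit 4), (nat_lit 2), (nat_lit 5)], (nat_lit 0)),
  ((nat_lit 0xb251ec5819368649), [(nat_lit 0), (nat_lit 1), (nat_lit 5), (nat_lit 1), (nat_lit 1)], (nat_lit 0)),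
  ((nat_lit 0x362f49cfe3b2b4ec), [(nat_lit 0), (nat_lit 1), (nat_lit 5)], (nat_lit 0)),
  ((nat_lit 0x2378a8ea23080f4), [(nat_lit 2), (nat_lit 2), (nat_lit 2), (nat_lit 1), (nat_lit 0), (nat_lit 5)], (nat_lit 0)),
  ((nat_lit 0x36294fc953b2b45c), [(nat_lit 1), (nat_lit 1), (nat_lit 0), (nat_lit 1), (nat_lit 5)], (nat_lit 0)),
  ((nat_lit 0xb45ce153c9863629), [(nat_lit 1), (nat_lit 1), (nat_lit 2), (nat_lit 4), (nat_lit 2), (nat_lit 5)], (nat_lit 0)),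
  ((nat_lit 0x864f291fe8b4b2e1), [(nat_lit 5), (nat_lit 1), (nat_lit 2), (nat_lit 2)], (nat_lit 0)),
  ((nat_lit 0x43a878572803094), [(nat_lit 2), (nat_lit 1), (nat_lit 1), (nat_lit 3), (nat_lit 0), (nat_lit 5)], (nat_lit 0)),
  ((nat_lit 0xb253e85c293686c9), [(nat_lit 1), (nat_lit 1)], (nat_lit 2)),
  ((nat_lit 0x361fc94fe1b2b4e8), [(nat_lit 1), (nat_lit 2), (nat_lit 0), (nat_lit 3), (nat_lit 5), (nat_lit 1)], (nat_lit 1)),
  ((nat_lit 0x43e8587f28030a4), [(nat_lit 5), (nat_lit 1), (nat_lit 2), (nat_lit 0), (nat_lit 5), (nat_lit 1), (nat_lit 2)], (nat_lit 0)),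
  ((nat_lit 0x8072a4943a040285), [(nat_lit 0), (nat_lit 1), (nat_lit 2), (nat_lit 0), (nat_lit 5), (nat_lit 1)], (nat_lit 1)),
  ((nat_lit 0xa16101cb0825f820), [(nat_lit 1), (nat_lit 5), (nat_lit 1)], (nat_lit 1)),
  ((nat_lit 0x252d20d8c0a1ca01), [(nat_lit 1), (nat_lit 4), (nat_lit 5), (nat_lit 1)], (nat_lit 1)),
  ((nat_lit 0x170c6c10d3934e4d), [(nat_lit 1), (nat_lit 3), (nat_lit 5), (nat_lit 1)], (nat_lit 1)),
  ((nat_lit 0x93404d031b177c6c), [(nat_lit 0), (nat_lit 1), (nat_lit 5), (nat_lit 1)], (nat_lit 1)),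
  ((nat_lit 0x3016c646b10204b8), [(nat_lit 1), (nat_lit 2), (nat_lit 2), (nat_lit 2), (nat_lit 1), (nat_lit 0), (nat_lit 5)], (nat_lit 0)),
  ((nat_lit 0xb46863d14b86361d), [(nat_lit 1), (nat_lit 0), (nat_lit 1), (nat_lit 5), (nat_lit 1), (nat_lit 1)], (nat_lit 0)),
  ((nat_lit 0x361dcd4bd1b2b468), [(nat_lit 1), (nat_lit 0), (nat_lit 1), (nat_lit 5)], (nat_lit 0)),
  ((nat_lit 0xb26368dc2b3686cd), [(nat_lit 1), (nat_lit 2), (nat_lit 4), (nat_lit 2), (nat_lit 5)], (nat_lit 0)),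
  ((nat_lit 0x302646c6b30204bc), [(nat_lit 0), (nat_lit 1), (nat_lit 5), (nat_lit 1), (nat_lit 0), (nat_lit 1), (nat_lit 5)], (nat_lit 0)),
  ((nat_lit 0x80462616b80402b1), [(nat_lit 0), (nat_lit 0), (nat_lit 2), (nat_lit 0), (nat_lit 5)], (nat_lit 1)),
  ((nat_lit 0x864b2b1d68b4b2d1), [(nat_lit 1)], (nat_lit 2)),
  ((nat_lit 0x362b4bcd63b2b4dc), [(nat_lit 2), (nat_lit 0), (nat_lit 3), (nat_lit 5), (nat_lit 1)], (nat_lit 1)),
  ((nat_lit 0x8d4d2d10d3d2d40c), [(nat_lit 5), (nat_lit 1)], (nat_lit 1)),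
  ((nat_lit 0x3d2d4dc0d8d4d201), [(nat_lit 4), (nat_lit 5), (nat_lit 1)], (nat_lit 1)),
  ((nat_lit 0x3b2040cb08646261), [(nat_lit 3), (nat_lit 5), (nat_lit 1)], (nat_lit 1)),
  ((nat_lit 0x8b40201b0362646c), [(nat_lit 3), (nat_lit 4), (nat_lit 5), (nat_lit 1)], (nat_lit 1))]
noncomputable def PR6 : List (List ℕ × ℕ × List (ℕ × List (List ℕ × ℕ))) := [([(nat_lit 0x40c03020040c0302),
  (nat_lit 0x804001031030040c),
  (nat_lit 0x804039272a151b36),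
  (nat_lit 0x2010c0810308040),
  (nat_lit 0x408030140803010),
  (nat_lit 0xa273a8dc2a378acd)], (nat_lit 0x111e111e111eeee1111e111e111eeee1111e111e111eeee1eee1eee1eee1111e), [((nat_lit 52), [([(nat_lit 0), (nat_lit 1), (nat_lit 0), (nat_lit 2), (nat_lit 0)], (nat_lit 0x8040163d251f2e19))]),
  ((nat_lit 89), [([(nat_lit 0), (nat_lit 0), (nat_lit 1), (nat_lit 3), (nat_lit 0), (nat_lit 1)], (nat_lit 0x20100c0840c00201))]),
  ((nat_lit 109), [([(nat_lit 1), (nat_lit 2), (nat_lit 0), (nat_lit 3), (nat_lit 5), (nat_lit 1)], (nat_lit 0xf446a3c762f31d19))]),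
  ((nat_lit 130), [([(nat_lit 1), (nat_lit 2), (nat_lit 2), (nat_lit 4), (nat_lit 1), (nat_lit 1)], (nat_lit 0x2032030080c80c0))]),
  ((nat_lit 182), [([(nat_lit 0), (nat_lit 5), (nat_lit 1), (nat_lit 3), (nat_lit 2), (nat_lit 2)], (nat_lit 0xa8dcd1a21d2a478a)),
  ([(nat_lit 1), (nat_lit 1)], (nat_lit 0x804001031030040c))]),
  ((nat_lit 219), [([(nat_lit 5), (nat_lit 1), (nat_lit 3), (nat_lit 0), (nat_lit 2)], (nat_lit 0xdc743594297101cf))]),
  ((nat_lit 239), [([(nat_lit 1), (nat_lit 1), (nat_lit 2), (nat_lit 2), (nat_lit 1)], (nat_lit 0x8040201002010804))])]),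
  ([(nat_lit 0x804020100c080201),
  (nat_lit 0x804001031030040c),
  (nat_lit 0x804039272a151b36),
  (nat_lit 0x80403010080c0201),
  (nat_lit 0xc0402010080c0201),
  (nat_lit 0xb340536308047172)], (nat_lit 0x111e111e111eeee1111e111e111eeee1111e111e111eeee1eee1eee1eee1111e), [((nat_lit 11), [([(nat_lit 4), (nat_lit 2), (nat_lit 0), (nat_lit 4)], (nat_lit 0x80401b3e1d2a392f))]),
  ((nat_lit 19), [([(nat_lit 0), (nat_lit 2), (nat_lit 1), (nat_lit 0), (nat_lit 1)], (nat_lit 0x80401a353e291d3b))]),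
  ((nat_lit 24), [([(nat_lit 2), (nat_lit 2), (nat_lit 3), (nat_lit 1), (nat_lit 2)], (nat_lit 0x8040392e362b3f25))]),
  ((nat_lit 67), [([(nat_lit 4), (nat_lit 0), (nat_lit 5), (nat_lit 3)], (nat_lit 0xf34030630c087172))]),
  ((nat_lit 72), [([(nat_lit 0), (nat_lit 2), (nat_lit 1), (nat_lit 2), (nat_lit 5)], (nat_lit 0xa340616208047353))]),
  ((nat_lit 80), [([(nat_lit 0), (nat_lit 1), (nat_lit 3), (nat_lit 1), (nat_lit 1)], (nat_lit 0x8040201004080102))]),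
  ((nat_lit 91), [([(nat_lit 0), (nat_lit 3), (nat_lit 2), (nat_lit 0), (nat_lit 0)], (nat_lit 0x8040172a2f36253b))])]),
  ([(nat_lit 0x804020100c080201),
  (nat_lit 0x804001031030040c),
  (nat_lit 0x804039272a151b36),
  (nat_lit 0x80403010080c0201),
  (nat_lit 0xc0402010080c0201),
  (nat_lit 0xb340536308047172)], (nat_lit 0xeee1eee1eee1111eeee1eee1eee1111e111e111e111eeee1eee1eee1eee1111e), [((nat_lit 11), [([(nat_lit 0), (nat_lit 0), (nat_lit 1), (nat_lit 2), (nat_lit 2)], (nat_lit 0x804030200302040c))]),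
  ((nat_lit 19), [([(nat_lit 0)], (nat_lit 0x80402010040c0201))]),
  ((nat_lit 24), [([(nat_lit 0), (nat_lit 1), (nat_lit 0), (nat_lit 2), (nat_lit 0), (nat_lit 3)], (nat_lit 0x80402b3d253a2e19)),
  ([(nat_lit 1), (nat_lit 2), (nat_lit 1), (nat_lit 4), (nat_lit 2)], (nat_lit 0xc0403019013a083d))]),
  ((nat_lit 67), [([(nat_lit 5), (nat_lit 3)], (nat_lit 0xb3403063080c7172))]),
  ((nat_lit 72), [([(nat_lit 3), (nat_lit 2), (nat_lit 2), (nat_lit 4)], (nat_lit 0xc040020108043010))]),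
  ((nat_lit 80), [([(nat_lit 1), (nat_lit 0), (nat_lit 1), (nat_lit 4), (nat_lit 1)], (nat_lit 0xc040301008040103))]),
  ((nat_lit 91), [([(nat_lit 0), (nat_lit 4), (nat_lit 2), (nat_lit 3), (nat_lit 0)], (nat_lit 0xc0402d3a3f19352b))])])]
noncomputable def PR4 : List (List ℕ × ℕ × List (ℕ × List (List ℕ × ℕ))) := [([(nat_lit 0x40c03020040c0302),
  (nat_lit 0x804001031030040c),
  (nat_lit 0x804039272a151b36),
  (nat_lit 0x2010c0810308040),
  (nat_lit 0x408030140803010)], (nat_lit 0x111e111e111eeee1111e111e111eeee1111e111e111eeee1eee1eee1eee1111e), [((nat_lit 182), [([(nat_lit 0), (nat_lit 0), (nat_lit 1), (nat_lit 2), (nat_lit 0), (nat_lit 3), (nat_lit 2), (nat_lit 0)], (nat_lit 0x3d2bbc68c68dd2b1))])]),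
  ([(nat_lit 0x804020100c080201),
  (nat_lit 0x804001031030040c),
  (nat_lit 0x804039272a151b36),
  (nat_lit 0x80403010080c0201),
  (nat_lit 0x80402010080c0201)], (nat_lit 0xeee1eee1eee1111eeee1eee1eee1111e111e111e111eeee1eee1eee1eee1111e), [((nat_lit 24), [([(nat_lit 1), (nat_lit 2), (nat_lit 3), (nat_lit 1), (nat_lit 0)], (nat_lit 0x80402a3f271e1b2d))])]),
  ([(nat_lit 0x804020100c080201),
  (nat_lit 0x804001031030040c),
  (nat_lit 0x804039272a151b36),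
  (nat_lit 0x80403010080c0201),
  (nat_lit 0x80402010080c0201)], (nat_lit 0xeee1eee1eee1111e111e111e111eeee1eee1eee1eee1111eeee1eee1eee1111e), [((nat_lit 24), [([(nat_lit 1), (nat_lit 3), (nat_lit 2), (nat_lit 1), (nat_lit 0)], (nat_lit 0x80401e372f15261b))])]),
  ([(nat_lit 0x804020100c080201),
  (nat_lit 0x804001031030040c),
  (nat_lit 0x804039272a151b36),
  (nat_lit 0x80403010080c0201),
  (nat_lit 0x80402010080c0201)], (nat_lit 0x111e111e111eeee1eee1eee1eee1111eeee1eee1eee1111eeee1eee1eee1111e), [((nat_lit 24), [([(nat_lit 1), (nat_lit 1), (nat_lit 3), (nat_lit 2), (nat_lit 0), (nat_lit 1)], (nat_lit 0x8040162f371d3e1b))])]),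
  ([(nat_lit 0x804020100c080201),
  (nat_lit 0x804001031030040c),
  (nat_lit 0x804039272a151b36),
  (nat_lit 0x80403010080c0201),
  (nat_lit 0x80402010080c0201)], (nat_lit 0x111e111e111eeee1111e111e111eeee1111e111e111eeee1eee1eee1eee1111e), [((nat_lit 11), [([(nat_lit 2), (nat_lit 0)], (nat_lit 0x80401b36153f3927))]),
  ((nat_lit 19), [([(nat_lit 0), (nat_lit 2), (nat_lit 1), (nat_lit 0), (nat_lit 3), (nat_lit 1)], (nat_lit 0x80402f353e293b1d))]),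
  ((nat_lit 24), [([(nat_lit 3), (nat_lit 1), (nat_lit 2), (nat_lit 1), (nat_lit 0)], (nat_lit 0x80401d273f16351b))])])]
noncomputable def PR5 : List (List ℕ × ℕ × List (ℕ × List (List ℕ × ℕ))) := [([(nat_lit 0x804020100c080201),
  (nat_lit 0x804001031030040c),
  (nat_lit 0x804039272a151b36),
  (nat_lit 0x80403010080c0201),
  (nat_lit 0xc0402010080c0201)], (nat_lit 0xeee1eee1eee1111eeee1eee1eee1111e111e111e111eeee1eee1eee1eee1111e), [((nat_lit 24), [([(nat_lit 1), (nat_lit 3), (nat_lit 2), (nat_lit 1), (nat_lit 0)], (nat_lit 0x80401e372f15261b))])]),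
  ([(nat_lit 0x804020100c080201),
  (nat_lit 0x804001031030040c),
  (nat_lit 0x804039272a151b36),
  (nat_lit 0x80403010080c0201),
  (nat_lit 0xc0402010080c0201)], (nat_lit 0x111e111e111eeee1111e111e111eeee1111e111e111eeee1eee1eee1eee1111e), [((nat_lit 11), [([(nat_lit 3), (nat_lit 2), (nat_lit 0), (nat_lit 3)], (nat_lit 0x8040352e1d3a293f))]),
  ((nat_lit 19), [([(nat_lit 0)], (nat_lit 0x80402010040c0201))]),
  ((nat_lit 24), [([(nat_lit 0), (nat_lit 2), (nat_lit 0), (nat_lit 2)], (nat_lit 0x804039273f2a1b36))])])]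

/-- the Sylow subgroup -/
noncomputable def TL (t : List ℕ) (W : List (List ℕ)) : List ℕ := pcL (mm 8) (mo 8) 1 (lmap (pe t) W)

/-- in the table with the given label -/
noncomputable def inC (k x : ℕ) : Bool := lany (fun e => Bool.rec false (Nat.beq e.2.2 k) (Nat.beq e.1 x)) CT

/-- in the table -/
noncomputable def inA (x : ℕ) : Bool := lany (fun e => Nat.beq e.1 x) CT

end CF.X8
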