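import Cfsg.Agent.Recog.X8.Srch

/-! Data for the list of modules. -/

set_option autoImplicit false
set_option maxRecDepth 100000

namespace CF.X8
open CF.Comp CF.Dce CF.J4

noncomputable def SP : List ℕ := [(nat_lit 0x40c03020040c0302),
  (nat_lit 0x804001031030040c),
  (nat_lit 0x804039272a151b36),
  (nat_lit 0x2010c0810308040),
  (nat_lit 0x408030140803010),
  (nat_lit 0xa273a8dc2a378acd)]
noncomputable def S3g : List ℕ := [(nat_lit 0x8040020120100804),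
  (nat_lit 0x8040201008040302),
  (nat_lit 0x804020100c080201),
  (nat_lit 0x8040302008040201),
  (nat_lit 0xc080201008040201)]
noncomputable def S3i : List ℕ := [(nat_lit 0x8040080402012010),
  (nat_lit 0x8040201008040103),
  (nat_lit 0x80402010040c0201),
  (nat_lit 0x8040103008040201),
  (nat_lit 0x40c0201008040201)]
noncomputable def L81 : List ℕ := [(nat_lit 0x40c0010310300804),
  (nat_lit 0x40c001032010040c),
  (nat_lit 0x40c0010330200c08),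
  (nat_lit 0x40c002011030040c),
  (nat_lit 0x40c0020120100c08),
  (nat_lit 0x40c0020130200804),
  (nat_lit 0x40c0030210300c08),
  (nat_lit 0x40c0030220100804),
  (nat_lit 0x40c003023020040c),
  (nat_lit 0x40c0040c01032010),
  (nat_lit 0x40c0040c02011030),
  (nat_lit 0x40c0040c03023020),
  (nat_lit 0x40c0080401031030),
  (nat_lit 0x40c0080402013020),
  (nat_lit 0x40c0080403022010),
  (nat_lit 0x40c00c0801033020),
  (nat_lit 0x40c00c0802012010),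
  (nat_lit 0x40c00c0803021030),
  (nat_lit 0x40c01030040c0201),
  (nat_lit 0x40c0103008040103),
  (nat_lit 0x40c010300c080302),
  (nat_lit 0x40c02010040c0103),
  (nat_lit 0x40c0201008040302),
  (nat_lit 0x40c020100c080201),
  (nat_lit 0x40c03020040c0302),
  (nat_lit 0x40c0302008040201),
  (nat_lit 0x40c030200c080103),
  (nat_lit 0x804001031030040c),
  (nat_lit 0x8040010320100c08),
  (nat_lit 0x8040010330200804),
  (nat_lit 0x8040020110300c08),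
  (nat_lit 0x8040020120100804),
  (nat_lit 0x804002013020040c),
  (nat_lit 0x8040030210300804),
  (nat_lit 0x804003022010040c),
  (nat_lit 0x8040030230200c08),
  (nat_lit 0x8040040c01031030),
  (nat_lit 0x8040040c02013020),
  (nat_lit 0x8040040c03022010),
  (nat_lit 0x8040080401033020),
  (nat_lit 0x8040080402012010),
  (nat_lit 0x8040080403021030),
  (nat_lit 0x80400c0801032010),
  (nat_lit 0x80400c0802011030),
  (nat_lit 0x80400c0803023020),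
  (nat_lit 0x80401030040c0103),
  (nat_lit 0x8040103008040302),
  (nat_lit 0x804010300c080201),
  (nat_lit 0x80402010040c0302),
  (nat_lit 0x8040201008040201),
  (nat_lit 0x804020100c080103),
  (nat_lit 0x80403020040c0201),
  (nat_lit 0x8040302008040103),
  (nat_lit 0x804030200c080302),
  (nat_lit 0xc080010310300c08),
  (nat_lit 0xc080010320100804),
  (nat_lit 0xc08001033020040c),
  (nat_lit 0xc080020110300804),
  (nat_lit 0xc08002012010040c),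
  (nat_lit 0xc080020130200c08),
  (nat_lit 0xc08003021030040c),
  (nat_lit 0xc080030220100c08),
  (nat_lit 0xc080030230200804),
  (nat_lit 0xc080040c01033020),
  (nat_lit 0xc080040c02012010),
  (nat_lit 0xc080040c03021030),
  (nat_lit 0xc080080401032010),
  (nat_lit 0xc080080402011030),
  (nat_lit 0xc080080403023020),
  (nat_lit 0xc0800c0801031030),
  (nat_lit 0xc0800c0802013020),
  (nat_lit 0xc0800c0803022010),
  (nat_lit 0xc0801030040c0302),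
  (nat_lit 0xc080103008040201),
  (nat_lit 0xc08010300c080103),
  (nat_lit 0xc0802010040c0201),
  (nat_lit 0xc080201008040103),
  (nat_lit 0xc08020100c080302),
  (nat_lit 0xc0803020040c0103),
  (nat_lit 0xc080302008040302),
  (nat_lit 0xc08030200c080201)]
noncomputable def rel2 : List (List ℕ) := [[(nat_lit 0), (nat_lit 0), (nat_lit 0)],
  [(nat_lit 1), (nat_lit 1), (nat_lit 1)],
  [(nat_lit 0),
  (nat_lit 1),
  (nat_lit 0),
  (nat_lit 1),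
  (nat_lit 1),
  (nat_lit 0),
  (nat_lit 0),
  (nat_lit 1),
  (nat_lit 0),
  (nat_lit 0),
  (nat_lit 1),
  (nat_lit 1)]]
noncomputable def zw : List ℕ := [(nat_lit 0), (nat_lit 1), (nat_lit 0), (nat_lit 1), (nat_lit 0), (nat_lit 1)]
noncomputable def T1 : List (List ℕ × ℕ × ℕ) := [([(nat_lit 0x40c001031030040c)], (nat_lit 0x8040201008040201), (nat_lit 0x8040201008040201)),
  ([(nat_lit 0x40c0010320100c08)], (nat_lit 0x40c001022030080c), (nat_lit 0xc080080c02031020)),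
  ([(nat_lit 0x40c0010330200804)], (nat_lit 0x40c001021020080c), (nat_lit 0xc080040802031020)),
  ([(nat_lit 0x40c0020110300c08)], (nat_lit 0x40c0010230100c04), (nat_lit 0xc0800c0403011020)),
  ([(nat_lit 0x40c0020120100804)], (nat_lit 0x40c0010220300c04), (nat_lit 0xc080080c03011020)),
  ([(nat_lit 0x40c002013020040c)], (nat_lit 0x40c0010210200c04), (nat_lit 0xc080040803011020)),
  ([(nat_lit 0x40c0030210300804)], (nat_lit 0x40c0010230100408), (nat_lit 0xc0800c0401021020)),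
  ([(nat_lit 0x40c003022010040c)], (nat_lit 0x40c0010220300408), (nat_lit 0xc080080c01021020)),
  ([(nat_lit 0x40c0030230200c08)], (nat_lit 0x40c0010210200408), (nat_lit 0xc080040801021020)),
  ([(nat_lit 0x40c0040c01031030)], (nat_lit 0x40c00102080c3010), (nat_lit 0xc0800301080c1020)),
  ([(nat_lit 0x40c0040c02013020)], (nat_lit 0x40c00102080c1020), (nat_lit 0xc0800102080c1020)),
  ([(nat_lit 0x40c0040c03022010)], (nat_lit 0x40c00102080c2030), (nat_lit 0xc0800203080c1020)),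
  ([(nat_lit 0x40c0080401033020)], (nat_lit 0x40c001020c041020), (nat_lit 0xc08001020c041020)),
  ([(nat_lit 0x40c0080402012010)], (nat_lit 0x40c001020c042030), (nat_lit 0xc08002030c041020)),
  ([(nat_lit 0x40c0080403021030)], (nat_lit 0x40c001020c043010), (nat_lit 0xc08003010c041020)),
  ([(nat_lit 0x40c00c0801032010)], (nat_lit 0x40c0010204082030), (nat_lit 0xc080020304081020)),
  ([(nat_lit 0x40c00c0802011030)], (nat_lit 0x40c0010204083010), (nat_lit 0xc080030104081020)),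
  ([(nat_lit 0x40c00c0803023020)], (nat_lit 0x40c0010204081020), (nat_lit 0xc080010204081020)),
  ([(nat_lit 0x804001031030040c)], (nat_lit 0x8040201008040201), (nat_lit 0x8040201008040201)),
  ([(nat_lit 0x8040010320100c08)], (nat_lit 0x408001022030080c), (nat_lit 0x4080080c02031020)),
  ([(nat_lit 0x8040010330200804)], (nat_lit 0x408001021020080c), (nat_lit 0x4080040802031020)),
  ([(nat_lit 0x8040020110300c08)], (nat_lit 0x4080010230100c04), (nat_lit 0x40800c0403011020)),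
  ([(nat_lit 0x8040020120100804)], (nat_lit 0x4080010220300c04), (nat_lit 0x4080080c03011020)),
  ([(nat_lit 0x804002013020040c)], (nat_lit 0x4080010210200c04), (nat_lit 0x4080040803011020)),
  ([(nat_lit 0x8040030210300804)], (nat_lit 0x4080010230100408), (nat_lit 0x40800c0401021020)),
  ([(nat_lit 0x804003022010040c)], (nat_lit 0x4080010220300408), (nat_lit 0x4080080c01021020)),
  ([(nat_lit 0x8040030230200c08)], (nat_lit 0x4080010210200408), (nat_lit 0x4080040801021020)),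
  ([(nat_lit 0x8040040c01031030)], (nat_lit 0x40800102080c3010), (nat_lit 0x40800301080c1020)),
  ([(nat_lit 0x8040040c02013020)], (nat_lit 0x40800102080c1020), (nat_lit 0x40800102080c1020)),
  ([(nat_lit 0x8040040c03022010)], (nat_lit 0x40800102080c2030), (nat_lit 0x40800203080c1020)),
  ([(nat_lit 0x8040080401033020)], (nat_lit 0x408001020c041020), (nat_lit 0x408001020c041020)),
  ([(nat_lit 0x8040080402012010)], (nat_lit 0x408001020c042030), (nat_lit 0x408002030c041020)),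
  ([(nat_lit 0x8040080403021030)], (nat_lit 0x408001020c043010), (nat_lit 0x408003010c041020)),
  ([(nat_lit 0x80400c0801032010)], (nat_lit 0x4080010204082030), (nat_lit 0x4080020304081020)),
  ([(nat_lit 0x80400c0802011030)], (nat_lit 0x4080010204083010), (nat_lit 0x4080030104081020)),
  ([(nat_lit 0x80400c0803023020)], (nat_lit 0x4080010204081020), (nat_lit 0x4080010204081020)),
  ([(nat_lit 0xc08001031030040c)], (nat_lit 0x408001023010080c), (nat_lit 0x40800c0402031020)),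
  ([(nat_lit 0xc080010320100c08)], (nat_lit 0x408001022030080c), (nat_lit 0x4080080c02031020)),
  ([(nat_lit 0xc080010330200804)], (nat_lit 0x408001021020080c), (nat_lit 0x4080040802031020)),
  ([(nat_lit 0xc080020110300c08)], (nat_lit 0x4080010230100c04), (nat_lit 0x40800c0403011020)),
  ([(nat_lit 0xc080020120100804)], (nat_lit 0x4080010220300c04), (nat_lit 0x4080080c03011020)),
  ([(nat_lit 0xc08002013020040c)], (nat_lit 0x4080010210200c04), (nat_lit 0x4080040803011020)),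
  ([(nat_lit 0xc080030210300804)], (nat_lit 0x4080010230100408), (nat_lit 0x40800c0401021020)),
  ([(nat_lit 0xc08003022010040c)], (nat_lit 0x4080010220300408), (nat_lit 0x4080080c01021020)),
  ([(nat_lit 0xc080030230200c08)], (nat_lit 0x4080010210200408), (nat_lit 0x4080040801021020)),
  ([(nat_lit 0xc080040c01031030)], (nat_lit 0x40800102080c3010), (nat_lit 0x40800301080c1020)),
  ([(nat_lit 0xc080040c02013020)], (nat_lit 0x40800102080c1020), (nat_lit 0x40800102080c1020)),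
  ([(nat_lit 0xc080040c03022010)], (nat_lit 0x40800102080c2030), (nat_lit 0x40800203080c1020)),
  ([(nat_lit 0xc080080401033020)], (nat_lit 0x408001020c041020), (nat_lit 0x408001020c041020)),
  ([(nat_lit 0xc080080402012010)], (nat_lit 0x408001020c042030), (nat_lit 0x408002030c041020)),
  ([(nat_lit 0xc080080403021030)], (nat_lit 0x408001020c043010), (nat_lit 0x408003010c041020)),
  ([(nat_lit 0xc0800c0801032010)], (nat_lit 0x4080010204082030), (nat_lit 0x4080020304081020)),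
  ([(nat_lit 0xc0800c0802011030)], (nat_lit 0x4080010204083010), (nat_lit 0x4080030104081020)),
  ([(nat_lit 0xc0800c0803023020)], (nat_lit 0x4080010204081020), (nat_lit 0x4080010204081020))]
noncomputable def T2 : List (List ℕ × ℕ × ℕ) := [([(nat_lit 0x40c020100c080201), (nat_lit 0x40c001031030040c)], (nat_lit 0x8040201008040201), (nat_lit 0x8040201008040201)),
  ([(nat_lit 0x804020100c080201), (nat_lit 0x40c001031030040c)], (nat_lit 0x8040201008040201), (nat_lit 0x8040201008040201)),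
  ([(nat_lit 0x8040302008040201), (nat_lit 0x40c001031030040c)], (nat_lit 0x40c0040c01031030), (nat_lit 0xc080030230200c08)),
  ([(nat_lit 0x40c0302008040201), (nat_lit 0x40c001031030040c)], (nat_lit 0xc080040c01031030), (nat_lit 0x40c0030230200c08)),
  ([(nat_lit 0x40c02010040c0201), (nat_lit 0x40c001031030040c)], (nat_lit 0x804010200c040203), (nat_lit 0x804010200c040203)),
  ([(nat_lit 0x40c030200c080201), (nat_lit 0x40c001031030040c)], (nat_lit 0x8040201008040201), (nat_lit 0x8040201008040201)),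
  ([(nat_lit 0x40c0103008040201), (nat_lit 0x40c001031030040c)], (nat_lit 0x8040040803012030), (nat_lit 0x8040020310200c04)),
  ([(nat_lit 0x80402010040c0201), (nat_lit 0x40c001031030040c)], (nat_lit 0xc0803010080c0102), (nat_lit 0x40c03010080c0102)),
  ([(nat_lit 0x804030200c080201), (nat_lit 0x40c001031030040c)], (nat_lit 0x8040201008040201), (nat_lit 0x8040201008040201)),
  ([(nat_lit 0x8040103008040201), (nat_lit 0x40c001031030040c)], (nat_lit 0xc080080c01023010), (nat_lit 0x40c0030120300408)),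
  ([(nat_lit 0x80401030040c0201), (nat_lit 0x40c001031030040c)], (nat_lit 0xc080203004080301), (nat_lit 0x40c0203004080301)),
  ([(nat_lit 0xc0801030040c0201), (nat_lit 0x40c001031030040c)], (nat_lit 0x8040201008040201), (nat_lit 0x8040201008040201)),
  ([(nat_lit 0xc080103008040201), (nat_lit 0x40c001031030040c)], (nat_lit 0x8040201008040201), (nat_lit 0x8040201008040201)),
  ([(nat_lit 0xc08020100c080201), (nat_lit 0x40c001031030040c)], (nat_lit 0xc08001023010080c), (nat_lit 0x40c00c0402031020)),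
  ([(nat_lit 0xc080302008040201), (nat_lit 0x40c001031030040c)], (nat_lit 0xc08010200c040203), (nat_lit 0x40c010200c040203)),
  ([(nat_lit 0xc0802010040c0201), (nat_lit 0x40c001031030040c)], (nat_lit 0xc08001031030040c), (nat_lit 0x40c00c0803023020)),
  ([(nat_lit 0xc08030200c080201), (nat_lit 0x40c001031030040c)], (nat_lit 0x40c0203004080301), (nat_lit 0xc080203004080301)),
  ([(nat_lit 0x40c03020040c0302), (nat_lit 0x40c001031030040c)], (nat_lit 0x8040201008040201), (nat_lit 0x8040201008040201)),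
  ([(nat_lit 0x40c01030040c0302), (nat_lit 0x40c001031030040c)], (nat_lit 0x40c0030120300408), (nat_lit 0xc080080c01023010)),
  ([(nat_lit 0x40c0201008040302), (nat_lit 0x40c001031030040c)], (nat_lit 0x40c0020120100804), (nat_lit 0xc080080402012010)),
  ([(nat_lit 0x40c0201008040103), (nat_lit 0x40c001031030040c)], (nat_lit 0x40c001023010080c), (nat_lit 0xc0800c0402031020)),
  ([(nat_lit 0x8040201008040302), (nat_lit 0x40c001031030040c)], (nat_lit 0x804001031030040c), (nat_lit 0x80400c0803023020)),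
  ([(nat_lit 0x8040201008040103), (nat_lit 0x40c001031030040c)], (nat_lit 0x40c0020310200c04), (nat_lit 0xc080040803012030)),
  ([(nat_lit 0xc080201008040302), (nat_lit 0x40c001031030040c)], (nat_lit 0xc0800c0402031020), (nat_lit 0x40c001023010080c)),
  ([(nat_lit 0xc080201008040103), (nat_lit 0x40c001031030040c)], (nat_lit 0xc080080402012010), (nat_lit 0x40c0020120100804)),
  ([(nat_lit 0x8040302008040302), (nat_lit 0x40c001031030040c)], (nat_lit 0x80400c0803023020), (nat_lit 0x804001031030040c)),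
  ([(nat_lit 0x804020100c080302), (nat_lit 0x40c001031030040c)], (nat_lit 0x40c0020120100804), (nat_lit 0xc080080402012010)),
  ([(nat_lit 0xc08020100c080302), (nat_lit 0x40c001031030040c)], (nat_lit 0x40c0030120300408), (nat_lit 0xc080080c01023010)),
  ([(nat_lit 0xc080302008040302), (nat_lit 0x40c001031030040c)], (nat_lit 0x40c00c0402031020), (nat_lit 0xc08001023010080c)),
  ([(nat_lit 0x40c02010040c0103), (nat_lit 0x40c001031030040c)], (nat_lit 0xc080020310200c04), (nat_lit 0x40c0040803012030)),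
  ([(nat_lit 0x40c030200c080103), (nat_lit 0x40c001031030040c)], (nat_lit 0xc080020120100804), (nat_lit 0x40c0080402012010)),
  ([(nat_lit 0x40c0103008040103), (nat_lit 0x40c001031030040c)], (nat_lit 0x40c0040803012030), (nat_lit 0xc080020310200c04)),
  ([(nat_lit 0x40c03020040c0103), (nat_lit 0x40c001031030040c)], (nat_lit 0x40c0040803012030), (nat_lit 0xc080020310200c04)),
  ([(nat_lit 0x40c010300c080103), (nat_lit 0x40c001031030040c)], (nat_lit 0x40c03010080c0102), (nat_lit 0xc0803010080c0102)),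
  ([(nat_lit 0x80402010040c0103), (nat_lit 0x40c001031030040c)], (nat_lit 0x804001023010080c), (nat_lit 0x80400c0402031020)),
  ([(nat_lit 0x804030200c080103), (nat_lit 0x40c001031030040c)], (nat_lit 0x8040201008040201), (nat_lit 0x8040201008040201)),
  ([(nat_lit 0x8040103008040103), (nat_lit 0x40c001031030040c)], (nat_lit 0x8040040803012030), (nat_lit 0x8040020310200c04)),
  ([(nat_lit 0x40c020100c080302), (nat_lit 0x40c001031030040c)], (nat_lit 0x40c001031030040c), (nat_lit 0xc0800c0803023020)),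
  ([(nat_lit 0x40c0302008040302), (nat_lit 0x40c001031030040c)], (nat_lit 0xc0800c0803023020), (nat_lit 0x40c001031030040c)),
  ([(nat_lit 0x80403020040c0103), (nat_lit 0x40c001031030040c)], (nat_lit 0xc080030120300408), (nat_lit 0x40c0080c01023010)),
  ([(nat_lit 0x804010300c080103), (nat_lit 0x40c001031030040c)], (nat_lit 0x40c0080c01023010), (nat_lit 0xc080030120300408)),
  ([(nat_lit 0x80403020040c0302), (nat_lit 0x40c001031030040c)], (nat_lit 0xc0800c0803023020), (nat_lit 0x40c001031030040c)),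
  ([(nat_lit 0x804010300c080302), (nat_lit 0x40c001031030040c)], (nat_lit 0x40c001031030040c), (nat_lit 0xc0800c0803023020)),
  ([(nat_lit 0xc0802010040c0103), (nat_lit 0x40c001031030040c)], (nat_lit 0x8040020120100804), (nat_lit 0x8040080402012010)),
  ([(nat_lit 0xc08030200c080103), (nat_lit 0x40c001031030040c)], (nat_lit 0x8040201008040201), (nat_lit 0x8040201008040201)),
  ([(nat_lit 0xc080103008040103), (nat_lit 0x40c001031030040c)], (nat_lit 0x8040080402012010), (nat_lit 0x8040020120100804)),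
  ([(nat_lit 0x80401030040c0302), (nat_lit 0x40c001031030040c)], (nat_lit 0x804010200c040203), (nat_lit 0x804010200c040203)),
  ([(nat_lit 0xc0803020040c0103), (nat_lit 0x40c001031030040c)], (nat_lit 0x8040030120300408), (nat_lit 0x8040080c01023010)),
  ([(nat_lit 0xc08010300c080103), (nat_lit 0x40c001031030040c)], (nat_lit 0xc080080c01023010), (nat_lit 0x40c0030120300408)),
  ([(nat_lit 0xc0803020040c0302), (nat_lit 0x40c001031030040c)], (nat_lit 0xc080040c01031030), (nat_lit 0x40c0030230200c08)),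
  ([(nat_lit 0xc08010300c080302), (nat_lit 0x40c001031030040c)], (nat_lit 0xc08001031030040c), (nat_lit 0x40c00c0803023020)),
  ([(nat_lit 0xc0801030040c0302), (nat_lit 0x40c001031030040c)], (nat_lit 0x804010200c040203), (nat_lit 0x804010200c040203)),
  ([(nat_lit 0x40c01030040c0201), (nat_lit 0x40c001031030040c)], (nat_lit 0x8040203004080301), (nat_lit 0x8040203004080301)),
  ([(nat_lit 0x40c010300c080302), (nat_lit 0x40c001031030040c)], (nat_lit 0xc0800c0803023020), (nat_lit 0x40c001031030040c)),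
  ([(nat_lit 0x40c020100c080201), (nat_lit 0x804001031030040c)], (nat_lit 0x8040201008040201), (nat_lit 0x8040201008040201)),
  ([(nat_lit 0x804020100c080201), (nat_lit 0x804001031030040c)], (nat_lit 0x8040201008040201), (nat_lit 0x8040201008040201)),
  ([(nat_lit 0x8040302008040201), (nat_lit 0x804001031030040c)], (nat_lit 0x40c0040c01031030), (nat_lit 0xc080030230200c08)),
  ([(nat_lit 0x40c0302008040201), (nat_lit 0x804001031030040c)], (nat_lit 0x40c0040c01031030), (nat_lit 0xc080030230200c08)),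
  ([(nat_lit 0x40c02010040c0201), (nat_lit 0x804001031030040c)], (nat_lit 0x40c010200c040203), (nat_lit 0xc08010200c040203)),
  ([(nat_lit 0x40c030200c080201), (nat_lit 0x804001031030040c)], (nat_lit 0x8040201008040201), (nat_lit 0x8040201008040201)),
  ([(nat_lit 0x40c0103008040201), (nat_lit 0x804001031030040c)], (nat_lit 0x40c00c0402031020), (nat_lit 0xc08001023010080c)),
  ([(nat_lit 0x80402010040c0201), (nat_lit 0x804001031030040c)], (nat_lit 0xc08010200c040203), (nat_lit 0x40c010200c040203)),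
  ([(nat_lit 0x804030200c080201), (nat_lit 0x804001031030040c)], (nat_lit 0x8040201008040201), (nat_lit 0x8040201008040201)),
  ([(nat_lit 0x8040103008040201), (nat_lit 0x804001031030040c)], (nat_lit 0xc0800c0402031020), (nat_lit 0x40c001023010080c)),
  ([(nat_lit 0x80401030040c0201), (nat_lit 0x804001031030040c)], (nat_lit 0x4080203004080301), (nat_lit 0x4080203004080301)),
  ([(nat_lit 0xc0801030040c0201), (nat_lit 0x804001031030040c)], (nat_lit 0x40803010080c0102), (nat_lit 0x40803010080c0102)),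
  ([(nat_lit 0xc080103008040201), (nat_lit 0x804001031030040c)], (nat_lit 0x80c00c0402031020), (nat_lit 0x80c001023010080c)),
  ([(nat_lit 0xc08020100c080201), (nat_lit 0x804001031030040c)], (nat_lit 0x4080201008040201), (nat_lit 0x4080201008040201)),
  ([(nat_lit 0xc080302008040201), (nat_lit 0x804001031030040c)], (nat_lit 0x40800c0803023020), (nat_lit 0x408001031030040c)),
  ([(nat_lit 0xc0802010040c0201), (nat_lit 0x804001031030040c)], (nat_lit 0x80c03010080c0102), (nat_lit 0x80c03010080c0102)),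
  ([(nat_lit 0xc08030200c080201), (nat_lit 0x804001031030040c)], (nat_lit 0xc040201008040201), (nat_lit 0xc040201008040201)),
  ([(nat_lit 0x40c03020040c0302), (nat_lit 0x804001031030040c)], (nat_lit 0x8040201008040201), (nat_lit 0x8040201008040201)),
  ([(nat_lit 0x40c01030040c0302), (nat_lit 0x804001031030040c)], (nat_lit 0x40c001023010080c), (nat_lit 0xc0800c0402031020)),
  ([(nat_lit 0x40c0201008040302), (nat_lit 0x804001031030040c)], (nat_lit 0xc080020120100804), (nat_lit 0x40c0080402012010)),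
  ([(nat_lit 0x40c0201008040103), (nat_lit 0x804001031030040c)], (nat_lit 0x8040020310200c04), (nat_lit 0x8040040803012030)),
  ([(nat_lit 0x8040201008040302), (nat_lit 0x804001031030040c)], (nat_lit 0x8040030230200c08), (nat_lit 0x8040040c01031030)),
  ([(nat_lit 0x8040201008040103), (nat_lit 0x804001031030040c)], (nat_lit 0x408001023010080c), (nat_lit 0x40800c0402031020)),
  ([(nat_lit 0xc080201008040302), (nat_lit 0x804001031030040c)], (nat_lit 0x80c0020120100804), (nat_lit 0x80c0080402012010)),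
  ([(nat_lit 0xc080201008040103), (nat_lit 0x804001031030040c)], (nat_lit 0x4080020310200c04), (nat_lit 0x4080040803012030)),
  ([(nat_lit 0x8040302008040302), (nat_lit 0x804001031030040c)], (nat_lit 0xc080080402012010), (nat_lit 0x40c0020120100804)),
  ([(nat_lit 0x804020100c080302), (nat_lit 0x804001031030040c)], (nat_lit 0x4080020120100804), (nat_lit 0x4080080402012010)),
  ([(nat_lit 0xc08020100c080302), (nat_lit 0x804001031030040c)], (nat_lit 0x80c001031030040c), (nat_lit 0x80c00c0803023020)),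
  ([(nat_lit 0xc080302008040302), (nat_lit 0x804001031030040c)], (nat_lit 0x80c00c0803023020), (nat_lit 0x80c001031030040c)),
  ([(nat_lit 0x40c02010040c0103), (nat_lit 0x804001031030040c)], (nat_lit 0xc080020310200c04), (nat_lit 0x40c0040803012030)),
  ([(nat_lit 0x40c030200c080103), (nat_lit 0x804001031030040c)], (nat_lit 0xc080020120100804), (nat_lit 0x40c0080402012010)),
  ([(nat_lit 0x40c0103008040103), (nat_lit 0x804001031030040c)], (nat_lit 0x80400c0402031020), (nat_lit 0x804001023010080c)),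
  ([(nat_lit 0x40c03020040c0103), (nat_lit 0x804001031030040c)], (nat_lit 0x40c0040803012030), (nat_lit 0xc080020310200c04)),
  ([(nat_lit 0x40c010300c080103), (nat_lit 0x804001031030040c)], (nat_lit 0xc0803010080c0102), (nat_lit 0x40c03010080c0102)),
  ([(nat_lit 0x80402010040c0103), (nat_lit 0x804001031030040c)], (nat_lit 0x804001023010080c), (nat_lit 0x80400c0402031020)),
  ([(nat_lit 0x804030200c080103), (nat_lit 0x804001031030040c)], (nat_lit 0x8040201008040201), (nat_lit 0x8040201008040201)),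
  ([(nat_lit 0x8040103008040103), (nat_lit 0x804001031030040c)], (nat_lit 0xc040080c01023010), (nat_lit 0xc040030120300408)),
  ([(nat_lit 0x40c020100c080302), (nat_lit 0x804001031030040c)], (nat_lit 0x40c001031030040c), (nat_lit 0xc0800c0803023020)),
  ([(nat_lit 0x40c0302008040302), (nat_lit 0x804001031030040c)], (nat_lit 0x8040080402012010), (nat_lit 0x8040020120100804)),
  ([(nat_lit 0x80403020040c0103), (nat_lit 0x804001031030040c)], (nat_lit 0xc080030120300408), (nat_lit 0x40c0080c01023010)),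
  ([(nat_lit 0x804010300c080103), (nat_lit 0x804001031030040c)], (nat_lit 0x40c0040803012030), (nat_lit 0xc080020310200c04)),
  ([(nat_lit 0x80403020040c0302), (nat_lit 0x804001031030040c)], (nat_lit 0xc0800c0803023020), (nat_lit 0x40c001031030040c)),
  ([(nat_lit 0x804010300c080302), (nat_lit 0x804001031030040c)], (nat_lit 0xc040020120100804), (nat_lit 0xc040080402012010)),
  ([(nat_lit 0xc0802010040c0103), (nat_lit 0x804001031030040c)], (nat_lit 0xc040020310200c04), (nat_lit 0xc040040803012030)),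
  ([(nat_lit 0xc08030200c080103), (nat_lit 0x804001031030040c)], (nat_lit 0x80c0030230200c08), (nat_lit 0x80c0040c01031030)),
  ([(nat_lit 0xc080103008040103), (nat_lit 0x804001031030040c)], (nat_lit 0x80c0040803012030), (nat_lit 0x80c0020310200c04)),
  ([(nat_lit 0x80401030040c0302), (nat_lit 0x804001031030040c)], (nat_lit 0x408010200c040203), (nat_lit 0x408010200c040203)),
  ([(nat_lit 0xc0803020040c0103), (nat_lit 0x804001031030040c)], (nat_lit 0x80c00c0402031020), (nat_lit 0x80c001023010080c)),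
  ([(nat_lit 0xc08010300c080103), (nat_lit 0x804001031030040c)], (nat_lit 0x80c03010080c0102), (nat_lit 0x80c03010080c0102)),
  ([(nat_lit 0xc0803020040c0302), (nat_lit 0x804001031030040c)], (nat_lit 0x408030200c080302), (nat_lit 0x40801030040c0103)),
  ([(nat_lit 0xc08010300c080302), (nat_lit 0x804001031030040c)], (nat_lit 0xc040040c01031030), (nat_lit 0xc040030230200c08)),
  ([(nat_lit 0xc0801030040c0302), (nat_lit 0x804001031030040c)], (nat_lit 0x408001023010080c), (nat_lit 0x40800c0402031020)),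
  ([(nat_lit 0x40c01030040c0201), (nat_lit 0x804001031030040c)], (nat_lit 0x40c0203004080301), (nat_lit 0xc080203004080301)),
  ([(nat_lit 0x40c010300c080302), (nat_lit 0x804001031030040c)], (nat_lit 0x80400c0803023020), (nat_lit 0x804001031030040c))]
noncomputable def RR2 : List (List ℕ) := [[(nat_lit 0x40c020100c080201), (nat_lit 0x40c001031030040c)],
  [(nat_lit 0x804020100c080201), (nat_lit 0x40c001031030040c)],
  [(nat_lit 0x40c030200c080201), (nat_lit 0x40c001031030040c)],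
  [(nat_lit 0x804030200c080201), (nat_lit 0x40c001031030040c)],
  [(nat_lit 0xc0801030040c0201), (nat_lit 0x40c001031030040c)],
  [(nat_lit 0xc080103008040201), (nat_lit 0x40c001031030040c)],
  [(nat_lit 0x40c03020040c0302), (nat_lit 0x40c001031030040c)],
  [(nat_lit 0x804030200c080103), (nat_lit 0x40c001031030040c)],
  [(nat_lit 0xc08030200c080103), (nat_lit 0x40c001031030040c)],
  [(nat_lit 0x40c020100c080201), (nat_lit 0x804001031030040c)],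
  [(nat_lit 0x804020100c080201), (nat_lit 0x804001031030040c)],
  [(nat_lit 0x40c030200c080201), (nat_lit 0x804001031030040c)],
  [(nat_lit 0x804030200c080201), (nat_lit 0x804001031030040c)],
  [(nat_lit 0x40c03020040c0302), (nat_lit 0x804001031030040c)],
  [(nat_lit 0x804030200c080103), (nat_lit 0x804001031030040c)]]
noncomputable def RR3 : List (List ℕ) := [[(nat_lit 0x40c020100c080201), (nat_lit 0x804001031030040c), (nat_lit 0x804039272a151b36)],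
  [(nat_lit 0x804020100c080201), (nat_lit 0x804001031030040c), (nat_lit 0x804039272a151b36)],
  [(nat_lit 0x40c030200c080201), (nat_lit 0x804001031030040c), (nat_lit 0x80401b36153f1e39)],
  [(nat_lit 0x804030200c080201), (nat_lit 0x804001031030040c), (nat_lit 0x80401b36153f1e39)],
  [(nat_lit 0x40c03020040c0302), (nat_lit 0x804001031030040c), (nat_lit 0x804039272a151b36)],
  [(nat_lit 0x804030200c080103), (nat_lit 0x804001031030040c), (nat_lit 0x8040362d1e392a15)]]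
noncomputable def RR4 : List (List ℕ) := [[(nat_lit 0x804020100c080201),
  (nat_lit 0x804001031030040c),
  (nat_lit 0x804039272a151b36),
  (nat_lit 0x80403010080c0201)],
  [(nat_lit 0x40c03020040c0302),
  (nat_lit 0x804001031030040c),
  (nat_lit 0x804039272a151b36),
  (nat_lit 0x2010c0810308040)]]
noncomputable def RR5 : List (List ℕ) := [[(nat_lit 0x804020100c080201),
  (nat_lit 0x804001031030040c),
  (nat_lit 0x804039272a151b36),
  (nat_lit 0x80403010080c0201),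
  (nat_lit 0x80402010080c0201)],
  [(nat_lit 0x804020100c080201),
  (nat_lit 0x804001031030040c),
  (nat_lit 0x804039272a151b36),
  (nat_lit 0x80403010080c0201),
  (nat_lit 0xc0402010080c0201)],
  [(nat_lit 0x40c03020040c0302),
  (nat_lit 0x804001031030040c),
  (nat_lit 0x804039272a151b36),
  (nat_lit 0x2010c0810308040),
  (nat_lit 0x408030140803010)]]
noncomputable def RR6 : List (List ℕ) := [[(nat_lit 0x804020100c080201),
  (nat_lit 0x804001031030040c),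
  (nat_lit 0x804039272a151b36),
  (nat_lit 0x80403010080c0201),
  (nat_lit 0x80402010080c0201),
  (nat_lit 0x8040132308043132)],
  [(nat_lit 0x804020100c080201),
  (nat_lit 0x804001031030040c),
  (nat_lit 0x804039272a151b36),
  (nat_lit 0x80403010080c0201),
  (nat_lit 0x80402010080c0201),
  (nat_lit 0x8040536308047172)],
  [(nat_lit 0x804020100c080201),
  (nat_lit 0x804001031030040c),
  (nat_lit 0x804039272a151b36),
  (nat_lit 0x80403010080c0201),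
  (nat_lit 0x80402010080c0201),
  (nat_lit 0xb340132308043132)],
  [(nat_lit 0x804020100c080201),
  (nat_lit 0x804001031030040c),
  (nat_lit 0x804039272a151b36),
  (nat_lit 0x80403010080c0201),
  (nat_lit 0xc0402010080c0201),
  (nat_lit 0xb340536308047172)],
  [(nat_lit 0x40c03020040c0302),
  (nat_lit 0x804001031030040c),
  (nat_lit 0x804039272a151b36),
  (nat_lit 0x2010c0810308040),
  (nat_lit 0x408030140803010),
  (nat_lit 0xa273a8dc2a378acd)]]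
noncomputable def tw2 : List (List ℕ × List ℕ) := [([(nat_lit 0), (nat_lit 0), (nat_lit 1), (nat_lit 0), (nat_lit 1), (nat_lit 1)], [(nat_lit 0), (nat_lit 1), (nat_lit 0), (nat_lit 1), (nat_lit 0)]),
  ([(nat_lit 1)], [(nat_lit 0), (nat_lit 0), (nat_lit 1), (nat_lit 0), (nat_lit 1), (nat_lit 1)])]
noncomputable def DD2 : List SD := [⟨[(nat_lit 0x40c020100c080201), (nat_lit 0x40c001031030040c)], [[[(nat_lit 0)]],
  [[(nat_lit 1)]],
  [[(nat_lit 1), (nat_lit 1), (nat_lit 1)], [(nat_lit 1)], [(nat_lit 1), (nat_lit 1), (nat_lit 0)]],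
  [[(nat_lit 0), (nat_lit 0), (nat_lit 1)],
  [(nat_lit 0), (nat_lit 1), (nat_lit 0)],
  [(nat_lit 1)],
  [(nat_lit 0), (nat_lit 0), (nat_lit 1)]]], (nat_lit 0x3020040c0201c040), (nat_lit 0x30140c030200804), [⟨(nat_lit 1), (nat_lit 0), (nat_lit 0), [(nat_lit 2)], [(nat_lit 0)]⟩,
  ⟨(nat_lit 0), (nat_lit 0), (nat_lit 1), [], []⟩,
  ⟨(nat_lit 1), (nat_lit 0), (nat_lit 0), [(nat_lit 3)], [(nat_lit 0), (nat_lit 27), (nat_lit 45), (nat_lit 54)]⟩,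
  ⟨(nat_lit 0), (nat_lit 2), (nat_lit 0), [], []⟩,
  ⟨(nat_lit 0), (nat_lit 2), (nat_lit 1), [], []⟩,
  ⟨(nat_lit 0), (nat_lit 3), (nat_lit 1), [], []⟩,
  ⟨(nat_lit 0), (nat_lit 4), (nat_lit 1), [], []⟩,
  ⟨(nat_lit 0), (nat_lit 5), (nat_lit 1), [], []⟩], [[(nat_lit 2), (nat_lit 2), (nat_lit 2), (nat_lit 2)]], []⟩,
  ⟨[(nat_lit 0x804020100c080201), (nat_lit 0x40c001031030040c)], [[[(nat_lit 0)]],
  [[(nat_lit 1)]],
  [[(nat_lit 1), (nat_lit 0), (nat_lit 1)],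
  [(nat_lit 1), (nat_lit 0), (nat_lit 0)],
  [(nat_lit 0), (nat_lit 1), (nat_lit 0)],
  [(nat_lit 1), (nat_lit 1)]],
  [[(nat_lit 1), (nat_lit 0), (nat_lit 0)],
  [(nat_lit 0), (nat_lit 1), (nat_lit 0)],
  [(nat_lit 1), (nat_lit 0)]]], (nat_lit 0x3020040c0201c040), (nat_lit 0x30140c030200804), [⟨(nat_lit 1), (nat_lit 0), (nat_lit 0), [(nat_lit 2)], [(nat_lit 0)]⟩,
  ⟨(nat_lit 0), (nat_lit 0), (nat_lit 1), [], []⟩,
  ⟨(nat_lit 1), (nat_lit 0), (nat_lit 0), [(nat_lit 3)], [(nat_lit 0), (nat_lit 27), (nat_lit 45), (nat_lit 54)]⟩,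
  ⟨(nat_lit 0), (nat_lit 2), (nat_lit 0), [], []⟩,
  ⟨(nat_lit 0), (nat_lit 2), (nat_lit 1), [], []⟩,
  ⟨(nat_lit 0), (nat_lit 3), (nat_lit 1), [], []⟩,
  ⟨(nat_lit 0), (nat_lit 4), (nat_lit 1), [], []⟩,
  ⟨(nat_lit 0), (nat_lit 5), (nat_lit 1), [], []⟩], [[(nat_lit 2), (nat_lit 2), (nat_lit 2), (nat_lit 2)]], []⟩,
  ⟨[(nat_lit 0x40c030200c080201), (nat_lit 0x40c001031030040c)], [[[(nat_lit 0)]],
  [[(nat_lit 1)]],
  [[(nat_lit 1), (nat_lit 1), (nat_lit 0)], [(nat_lit 0)], [(nat_lit 0), (nat_lit 0), (nat_lit 1)]],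
  [[(nat_lit 1), (nat_lit 1)], [(nat_lit 1), (nat_lit 0), (nat_lit 1)]]], (nat_lit 0x3020040c0201c040), (nat_lit 0x30140c030200804), [⟨(nat_lit 1), (nat_lit 0), (nat_lit 0), [(nat_lit 2)], [(nat_lit 0)]⟩,
  ⟨(nat_lit 0), (nat_lit 0), (nat_lit 1), [], []⟩,
  ⟨(nat_lit 1), (nat_lit 0), (nat_lit 0), [(nat_lit 3)], [(nat_lit 0), (nat_lit 30), (nat_lit 39), (nat_lit 57)]⟩,
  ⟨(nat_lit 0), (nat_lit 2), (nat_lit 0), [], []⟩,
  ⟨(nat_lit 0), (nat_lit 2), (nat_lit 1), [], []⟩,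
  ⟨(nat_lit 0), (nat_lit 3), (nat_lit 1), [], []⟩,
  ⟨(nat_lit 0), (nat_lit 4), (nat_lit 1), [], []⟩,
  ⟨(nat_lit 0), (nat_lit 5), (nat_lit 1), [], []⟩], [[(nat_lit 2), (nat_lit 2), (nat_lit 2), (nat_lit 2)]], []⟩,
  ⟨[(nat_lit 0x804030200c080201), (nat_lit 0x40c001031030040c)], [[[(nat_lit 0)]],
  [[(nat_lit 1)]],
  [[(nat_lit 0), (nat_lit 0), (nat_lit 1)],
  [(nat_lit 0), (nat_lit 1), (nat_lit 0)],
  [(nat_lit 1), (nat_lit 1)],
  [(nat_lit 1), (nat_lit 1), (nat_lit 0)]],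
  [[(nat_lit 0), (nat_lit 0), (nat_lit 1)],
  [(nat_lit 1), (nat_lit 0)],
  [(nat_lit 0), (nat_lit 1), (nat_lit 0)]]], (nat_lit 0x3020040c0201c040), (nat_lit 0x30140c030200804), [⟨(nat_lit 1), (nat_lit 0), (nat_lit 0), [(nat_lit 2)], [(nat_lit 0)]⟩,
  ⟨(nat_lit 0), (nat_lit 0), (nat_lit 1), [], []⟩,
  ⟨(nat_lit 1), (nat_lit 0), (nat_lit 0), [(nat_lit 3)], [(nat_lit 0), (nat_lit 30), (nat_lit 39), (nat_lit 57)]⟩,
  ⟨(nat_lit 0), (nat_lit 2), (nat_lit 0), [], []⟩,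
  ⟨(nat_lit 0), (nat_lit 2), (nat_lit 1), [], []⟩,
  ⟨(nat_lit 0), (nat_lit 3), (nat_lit 1), [], []⟩,
  ⟨(nat_lit 0), (nat_lit 4), (nat_lit 1), [], []⟩,
  ⟨(nat_lit 0), (nat_lit 5), (nat_lit 1), [], []⟩], [[(nat_lit 2), (nat_lit 2), (nat_lit 2), (nat_lit 2)]], []⟩,
  ⟨[(nat_lit 0xc0801030040c0201), (nat_lit 0x40c001031030040c)], [[[(nat_lit 0)]],
  [[(nat_lit 1)]],
  [[(nat_lit 0), (nat_lit 0), (nat_lit 0)],
  [(nat_lit 0), (nat_lit 0), (nat_lit 1)],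
  [(nat_lit 1), (nat_lit 1)]],
  [[(nat_lit 1), (nat_lit 0), (nat_lit 0)], [(nat_lit 1), (nat_lit 0)]]], (nat_lit 0x1020080c0301c040), (nat_lit 0x301408020300c04), [⟨(nat_lit 1), (nat_lit 0), (nat_lit 0), [(nat_lit 2)], [(nat_lit 0)]⟩,
  ⟨(nat_lit 0), (nat_lit 0), (nat_lit 1), [], []⟩,
  ⟨(nat_lit 1), (nat_lit 0), (nat_lit 0), [(nat_lit 3)], [(nat_lit 0), (nat_lit 21), (nat_lit 42), (nat_lit 63)]⟩,
  ⟨(nat_lit 0), (nat_lit 2), (nat_lit 0), [], []⟩,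
  ⟨(nat_lit 0), (nat_lit 2), (nat_lit 1), [], []⟩,
  ⟨(nat_lit 0), (nat_lit 3), (nat_lit 1), [], []⟩,
  ⟨(nat_lit 0), (nat_lit 4), (nat_lit 1), [], []⟩,
  ⟨(nat_lit 0), (nat_lit 5), (nat_lit 1), [], []⟩], [[(nat_lit 2), (nat_lit 2), (nat_lit 2), (nat_lit 2)]], []⟩,
  ⟨[(nat_lit 0xc080103008040201), (nat_lit 0x40c001031030040c)], [[[(nat_lit 0)]],
  [[(nat_lit 1)]],
  [[(nat_lit 1), (nat_lit 0), (nat_lit 0)],
  [(nat_lit 1), (nat_lit 1), (nat_lit 0)],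
  [(nat_lit 0), (nat_lit 0)]],
  [[], [(nat_lit 0)]]], (nat_lit 0x31020080c01c040), (nat_lit 0x301204010188404), [⟨(nat_lit 1), (nat_lit 0), (nat_lit 0), [(nat_lit 2)], [(nat_lit 0)]⟩,
  ⟨(nat_lit 0), (nat_lit 0), (nat_lit 1), [], []⟩,
  ⟨(nat_lit 1), (nat_lit 0), (nat_lit 0), [(nat_lit 3)], [(nat_lit 0), (nat_lit 21), (nat_lit 42), (nat_lit 63)]⟩,
  ⟨(nat_lit 0), (nat_lit 2), (nat_lit 1), [], []⟩,
  ⟨(nat_lit 0), (nat_lit 3), (nat_lit 0), [], []⟩,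
  ⟨(nat_lit 0), (nat_lit 3), (nat_lit 1), [], []⟩,
  ⟨(nat_lit 0), (nat_lit 4), (nat_lit 1), [], []⟩,
  ⟨(nat_lit 0), (nat_lit 6), (nat_lit 1), [], []⟩], [[(nat_lit 2), (nat_lit 2), (nat_lit 2), (nat_lit 2)]], []⟩,
  ⟨[(nat_lit 0x40c03020040c0302), (nat_lit 0x40c001031030040c)], [[[(nat_lit 0)]],
  [[(nat_lit 1)]],
  [[(nat_lit 0), (nat_lit 0), (nat_lit 1)],
  [(nat_lit 0), (nat_lit 0)],
  [(nat_lit 0), (nat_lit 1), (nat_lit 0)],
  [(nat_lit 0), (nat_lit 0), (nat_lit 0)]],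
  [[(nat_lit 1)], [(nat_lit 0), (nat_lit 1), (nat_lit 0)]]], (nat_lit 0x3020040c0201c040), (nat_lit 0x30140c030200804), [⟨(nat_lit 1), (nat_lit 0), (nat_lit 0), [(nat_lit 2)], [(nat_lit 0)]⟩,
  ⟨(nat_lit 0), (nat_lit 0), (nat_lit 1), [], []⟩,
  ⟨(nat_lit 1), (nat_lit 0), (nat_lit 0), [(nat_lit 3)], [(nat_lit 0), (nat_lit 27), (nat_lit 45), (nat_lit 54)]⟩,
  ⟨(nat_lit 0), (nat_lit 2), (nat_lit 0), [], []⟩,
  ⟨(nat_lit 0), (nat_lit 2), (nat_lit 1), [], []⟩,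
  ⟨(nat_lit 0), (nat_lit 3), (nat_lit 1), [], []⟩,
  ⟨(nat_lit 0), (nat_lit 4), (nat_lit 1), [], []⟩,
  ⟨(nat_lit 0), (nat_lit 5), (nat_lit 1), [], []⟩], [[(nat_lit 2), (nat_lit 2), (nat_lit 2), (nat_lit 2)]], []⟩,
  ⟨[(nat_lit 0x804030200c080103), (nat_lit 0x40c001031030040c)], [[[(nat_lit 0)]],
  [[(nat_lit 1)]],
  [[(nat_lit 1), (nat_lit 1), (nat_lit 1)],
  [(nat_lit 0), (nat_lit 1), (nat_lit 1)],
  [(nat_lit 0), (nat_lit 1)]],
  [[(nat_lit 1), (nat_lit 0), (nat_lit 0)],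
  [(nat_lit 0), (nat_lit 0), (nat_lit 1)],
  [(nat_lit 0), (nat_lit 1)]]], (nat_lit 0x1020080c0301c040), (nat_lit 0x301408020300c04), [⟨(nat_lit 1), (nat_lit 0), (nat_lit 0), [(nat_lit 2)], [(nat_lit 0)]⟩,
  ⟨(nat_lit 0), (nat_lit 0), (nat_lit 1), [], []⟩,
  ⟨(nat_lit 1), (nat_lit 0), (nat_lit 0), [(nat_lit 3)], [(nat_lit 0), (nat_lit 21), (nat_lit 42), (nat_lit 63)]⟩,
  ⟨(nat_lit 0), (nat_lit 2), (nat_lit 0), [], []⟩,
  ⟨(nat_lit 0), (nat_lit 2), (nat_lit 1), [], []⟩,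
  ⟨(nat_lit 0), (nat_lit 3), (nat_lit 1), [], []⟩,
  ⟨(nat_lit 0), (nat_lit 4), (nat_lit 1), [], []⟩,
  ⟨(nat_lit 0), (nat_lit 5), (nat_lit 1), [], []⟩], [[(nat_lit 2), (nat_lit 2), (nat_lit 2), (nat_lit 2)]], []⟩,
  ⟨[(nat_lit 0xc08030200c080103), (nat_lit 0x40c001031030040c)], [[[(nat_lit 0)]],
  [[(nat_lit 1)]],
  [[(nat_lit 0), (nat_lit 0)],
  [(nat_lit 1), (nat_lit 1), (nat_lit 1)],
  [(nat_lit 0), (nat_lit 1), (nat_lit 0)],
  [(nat_lit 0), (nat_lit 0), (nat_lit 1)]],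
  [[(nat_lit 1)], [(nat_lit 0), (nat_lit 1), (nat_lit 0)], [(nat_lit 0), (nat_lit 0), (nat_lit 1)]]], (nat_lit 0x1020080c0301c040), (nat_lit 0x301408020300c04), [⟨(nat_lit 1), (nat_lit 0), (nat_lit 0), [(nat_lit 2)], [(nat_lit 0)]⟩,
  ⟨(nat_lit 0), (nat_lit 0), (nat_lit 1), [], []⟩,
  ⟨(nat_lit 1), (nat_lit 0), (nat_lit 0), [(nat_lit 3)], [(nat_lit 0), (nat_lit 21), (nat_lit 42), (nat_lit 63)]⟩,
  ⟨(nat_lit 0), (nat_lit 2), (nat_lit 0), [], []⟩,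
  ⟨(nat_lit 0), (nat_lit 2), (nat_lit 1), [], []⟩,
  ⟨(nat_lit 0), (nat_lit 3), (nat_lit 1), [], []⟩,
  ⟨(nat_lit 0), (nat_lit 4), (nat_lit 1), [], []⟩,
  ⟨(nat_lit 0), (nat_lit 5), (nat_lit 1), [], []⟩], [[(nat_lit 2), (nat_lit 2), (nat_lit 2), (nat_lit 2)]], []⟩,
  ⟨[(nat_lit 0x40c020100c080201), (nat_lit 0x804001031030040c)], [[[(nat_lit 0)]],
  [[(nat_lit 1)]],
  [[], [(nat_lit 0)], [(nat_lit 0), (nat_lit 0)]],
  [[(nat_lit 1), (nat_lit 0), (nat_lit 1)],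
  [(nat_lit 1), (nat_lit 0), (nat_lit 1)],
  [(nat_lit 1)],
  [(nat_lit 0), (nat_lit 1), (nat_lit 0)]],
  [[(nat_lit 1), (nat_lit 1), (nat_lit 0)], [(nat_lit 1), (nat_lit 0), (nat_lit 1)]]], (nat_lit 0x80403020040c0201), (nat_lit 0x804010300c080201), [⟨(nat_lit 1), (nat_lit 0), (nat_lit 0), [(nat_lit 2), (nat_lit 3)], [(nat_lit 0), (nat_lit 27), (nat_lit 45), (nat_lit 54)]⟩,
  ⟨(nat_lit 0), (nat_lit 0), (nat_lit 0), [], []⟩,
  ⟨(nat_lit 0), (nat_lit 0), (nat_lit 1), [], []⟩,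
  ⟨(nat_lit 0), (nat_lit 1), (nat_lit 1), [], []⟩,
  ⟨(nat_lit 0), (nat_lit 2), (nat_lit 1), [], []⟩,
  ⟨(nat_lit 0), (nat_lit 3), (nat_lit 1), [], []⟩,
  ⟨(nat_lit 1), (nat_lit 0), (nat_lit 0), [(nat_lit 4)], [(nat_lit 0), (nat_lit 64), (nat_lit 128), (nat_lit 192)]⟩,
  ⟨(nat_lit 1), (nat_lit 0), (nat_lit 0), [(nat_lit 4)], [(nat_lit 0), (nat_lit 64), (nat_lit 128), (nat_lit 192)]⟩], [[(nat_lit 2), (nat_lit 2), (nat_lit 2), (nat_lit 2)],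
  [(nat_lit 2), (nat_lit 0), (nat_lit 2), (nat_lit 0), (nat_lit 2), (nat_lit 0)]], [((nat_lit 0x8040201008040201), (nat_lit 0x8040201008040201))]⟩,
  ⟨[(nat_lit 0x804020100c080201), (nat_lit 0x804001031030040c)], [[[(nat_lit 0)]],
  [[(nat_lit 1)]],
  [[], [(nat_lit 0)], [(nat_lit 0), (nat_lit 0)]],
  [[(nat_lit 1), (nat_lit 0)],
  [(nat_lit 0), (nat_lit 0), (nat_lit 1)],
  [(nat_lit 0), (nat_lit 1), (nat_lit 1)],
  [(nat_lit 0), (nat_lit 1), (nat_lit 1)]],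
  [[(nat_lit 0), (nat_lit 0), (nat_lit 0)],
  [(nat_lit 0), (nat_lit 1), (nat_lit 1)],
  [(nat_lit 1), (nat_lit 0), (nat_lit 1)],
  [(nat_lit 0), (nat_lit 0), (nat_lit 0)]]], (nat_lit 0x80403020040c0201), (nat_lit 0x804010300c080201), [⟨(nat_lit 1), (nat_lit 0), (nat_lit 0), [(nat_lit 2), (nat_lit 3)], [(nat_lit 0), (nat_lit 27), (nat_lit 45), (nat_lit 54)]⟩,
  ⟨(nat_lit 0), (nat_lit 0), (nat_lit 0), [], []⟩,
  ⟨(nat_lit 0), (nat_lit 0), (nat_lit 1), [], []⟩,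
  ⟨(nat_lit 0), (nat_lit 1), (nat_lit 1), [], []⟩,
  ⟨(nat_lit 0), (nat_lit 2), (nat_lit 1), [], []⟩,
  ⟨(nat_lit 0), (nat_lit 3), (nat_lit 1), [], []⟩,
  ⟨(nat_lit 1), (nat_lit 0), (nat_lit 0), [(nat_lit 4)], [(nat_lit 0), (nat_lit 64), (nat_lit 128), (nat_lit 192)]⟩,
  ⟨(nat_lit 1), (nat_lit 0), (nat_lit 0), [(nat_lit 4)], [(nat_lit 0), (nat_lit 64), (nat_lit 128), (nat_lit 192)]⟩], [[(nat_lit 2), (nat_lit 2), (nat_lit 2), (nat_lit 2)],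
  [(nat_lit 2), (nat_lit 0), (nat_lit 2), (nat_lit 0), (nat_lit 2), (nat_lit 0)]], [((nat_lit 0x8040201008040201), (nat_lit 0x8040201008040201))]⟩,
  ⟨[(nat_lit 0x40c030200c080201), (nat_lit 0x804001031030040c)], [[[(nat_lit 0)]],
  [[(nat_lit 1)]],
  [[], [(nat_lit 0)], [(nat_lit 0), (nat_lit 0)]],
  [[(nat_lit 1), (nat_lit 0), (nat_lit 0)],
  [(nat_lit 0), (nat_lit 0), (nat_lit 0)],
  [(nat_lit 1)],
  [(nat_lit 0), (nat_lit 0), (nat_lit 0)]],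
  [[(nat_lit 1), (nat_lit 0), (nat_lit 0)],
  [(nat_lit 0), (nat_lit 0), (nat_lit 0)],
  [(nat_lit 0), (nat_lit 0), (nat_lit 0)],
  [(nat_lit 0), (nat_lit 1), (nat_lit 0)]]], (nat_lit 0x80403020040c0201), (nat_lit 0x804010300c080201), [⟨(nat_lit 1), (nat_lit 0), (nat_lit 0), [(nat_lit 2), (nat_lit 3)], [(nat_lit 0), (nat_lit 30), (nat_lit 39), (nat_lit 57)]⟩,
  ⟨(nat_lit 0), (nat_lit 0), (nat_lit 0), [], []⟩,
  ⟨(nat_lit 0), (nat_lit 0), (nat_lit 1), [], []⟩,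
  ⟨(nat_lit 0), (nat_lit 1), (nat_lit 1), [], []⟩,
  ⟨(nat_lit 0), (nat_lit 2), (nat_lit 1), [], []⟩,
  ⟨(nat_lit 0), (nat_lit 3), (nat_lit 1), [], []⟩,
  ⟨(nat_lit 1), (nat_lit 0), (nat_lit 0), [(nat_lit 4)], [(nat_lit 0), (nat_lit 64), (nat_lit 128), (nat_lit 192)]⟩,
  ⟨(nat_lit 1), (nat_lit 0), (nat_lit 0), [(nat_lit 4)], [(nat_lit 0), (nat_lit 64), (nat_lit 128), (nat_lit 192)]⟩], [[(nat_lit 2), (nat_lit 2), (nat_lit 2), (nat_lit 2)],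
  [(nat_lit 2), (nat_lit 0), (nat_lit 2), (nat_lit 0), (nat_lit 2), (nat_lit 0)]], [((nat_lit 0x8040201008040201), (nat_lit 0x8040201008040201))]⟩,
  ⟨[(nat_lit 0x804030200c080201), (nat_lit 0x804001031030040c)], [[[(nat_lit 0)]],
  [[(nat_lit 1)]],
  [[], [(nat_lit 0)], [(nat_lit 0), (nat_lit 0)]],
  [[(nat_lit 1), (nat_lit 0)], [(nat_lit 1), (nat_lit 0), (nat_lit 0)]],
  [[(nat_lit 0), (nat_lit 1), (nat_lit 1)], [(nat_lit 1), (nat_lit 1), (nat_lit 0)]]], (nat_lit 0x80403020040c0201), (nat_lit 0x804010300c080201), [⟨(nat_lit 1), (nat_lit 0), (nat_lit 0), [(nat_lit 2), (nat_lit 3)], [(nat_lit 0), (nat_lit 30), (nat_lit 39), (nat_lit 57)]⟩,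
  ⟨(nat_lit 0), (nat_lit 0), (nat_lit 0), [], []⟩,
  ⟨(nat_lit 0), (nat_lit 0), (nat_lit 1), [], []⟩,
  ⟨(nat_lit 0), (nat_lit 1), (nat_lit 1), [], []⟩,
  ⟨(nat_lit 0), (nat_lit 2), (nat_lit 1), [], []⟩,
  ⟨(nat_lit 0), (nat_lit 3), (nat_lit 1), [], []⟩,
  ⟨(nat_lit 1), (nat_lit 0), (nat_lit 0), [(nat_lit 4)], [(nat_lit 0), (nat_lit 64), (nat_lit 128), (nat_lit 192)]⟩,
  ⟨(nat_lit 1), (nat_lit 0), (nat_lit 0), [(nat_lit 4)], [(nat_lit 0), (nat_lit 64), (nat_lit 128), (nat_lit 192)]⟩], [[(nat_lit 2), (nat_lit 2), (nat_lit 2), (nat_lit 2)],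
  [(nat_lit 2), (nat_lit 0), (nat_lit 2), (nat_lit 0), (nat_lit 2), (nat_lit 0)]], [((nat_lit 0x8040201008040201), (nat_lit 0x8040201008040201))]⟩,
  ⟨[(nat_lit 0x40c03020040c0302), (nat_lit 0x804001031030040c)], [[[(nat_lit 0)]],
  [[(nat_lit 1)]],
  [[], [(nat_lit 0)], [(nat_lit 0), (nat_lit 0)]],
  [[(nat_lit 0), (nat_lit 0), (nat_lit 0)],
  [(nat_lit 1), (nat_lit 1), (nat_lit 1)],
  [(nat_lit 1), (nat_lit 1), (nat_lit 0)],
  [(nat_lit 1), (nat_lit 1)]],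
  [[(nat_lit 1), (nat_lit 1), (nat_lit 0)],
  [(nat_lit 0), (nat_lit 0), (nat_lit 1)],
  [(nat_lit 0), (nat_lit 1), (nat_lit 1)],
  [(nat_lit 0), (nat_lit 1)]]], (nat_lit 0x80403020040c0201), (nat_lit 0x804010300c080201), [⟨(nat_lit 1), (nat_lit 0), (nat_lit 0), [(nat_lit 2), (nat_lit 3)], [(nat_lit 0), (nat_lit 27), (nat_lit 45), (nat_lit 54)]⟩,
  ⟨(nat_lit 0), (nat_lit 0), (nat_lit 0), [], []⟩,
  ⟨(nat_lit 0), (nat_lit 0), (nat_lit 1), [], []⟩,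
  ⟨(nat_lit 0), (nat_lit 1), (nat_lit 1), [], []⟩,
  ⟨(nat_lit 0), (nat_lit 2), (nat_lit 1), [], []⟩,
  ⟨(nat_lit 0), (nat_lit 3), (nat_lit 1), [], []⟩,
  ⟨(nat_lit 1), (nat_lit 0), (nat_lit 0), [(nat_lit 4)], [(nat_lit 0), (nat_lit 64), (nat_lit 128), (nat_lit 192)]⟩,
  ⟨(nat_lit 1), (nat_lit 0), (nat_lit 0), [(nat_lit 4)], [(nat_lit 0), (nat_lit 64), (nat_lit 128), (nat_lit 192)]⟩], [[(nat_lit 2), (nat_lit 2), (nat_lit 2), (nat_lit 2)],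
  [(nat_lit 2), (nat_lit 0), (nat_lit 2), (nat_lit 0), (nat_lit 2), (nat_lit 0)]], [((nat_lit 0x8040201008040201), (nat_lit 0x8040201008040201))]⟩,
  ⟨[(nat_lit 0x804030200c080103), (nat_lit 0x804001031030040c)], [[[(nat_lit 0)]],
  [[(nat_lit 1)]],
  [[], [(nat_lit 0)], [(nat_lit 0), (nat_lit 0)]],
  [[(nat_lit 0), (nat_lit 1), (nat_lit 1)],
  [(nat_lit 0), (nat_lit 1), (nat_lit 1)],
  [(nat_lit 0), (nat_lit 1), (nat_lit 0)],
  [(nat_lit 0), (nat_lit 1)]],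
  [[(nat_lit 0), (nat_lit 0)],
  [(nat_lit 0), (nat_lit 1), (nat_lit 0)],
  [(nat_lit 1), (nat_lit 1), (nat_lit 1)],
  [(nat_lit 0), (nat_lit 1), (nat_lit 1)]]], (nat_lit 0x80401020080c0301), (nat_lit 0x80401020080c0301), [⟨(nat_lit 1), (nat_lit 0), (nat_lit 0), [(nat_lit 2), (nat_lit 3)], [(nat_lit 0), (nat_lit 21), (nat_lit 42), (nat_lit 63)]⟩,
  ⟨(nat_lit 0), (nat_lit 0), (nat_lit 0), [], []⟩,
  ⟨(nat_lit 0), (nat_lit 0), (nat_lit 1), [], []⟩,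
  ⟨(nat_lit 0), (nat_lit 1), (nat_lit 1), [], []⟩,
  ⟨(nat_lit 0), (nat_lit 2), (nat_lit 1), [], []⟩,
  ⟨(nat_lit 0), (nat_lit 3), (nat_lit 1), [], []⟩,
  ⟨(nat_lit 1), (nat_lit 0), (nat_lit 0), [(nat_lit 4)], [(nat_lit 0), (nat_lit 64), (nat_lit 128), (nat_lit 192)]⟩,
  ⟨(nat_lit 1), (nat_lit 0), (nat_lit 0), [(nat_lit 4)], [(nat_lit 0), (nat_lit 64), (nat_lit 128), (nat_lit 192)]⟩], [[(nat_lit 2), (nat_lit 2), (nat_lit 2), (nat_lit 2)],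
  [(nat_lit 2), (nat_lit 0), (nat_lit 2), (nat_lit 0), (nat_lit 2), (nat_lit 0)]], [((nat_lit 0x8040201008040201), (nat_lit 0x8040201008040201))]⟩]
noncomputable def tw3 : List (List ℕ × List ℕ) := [([(nat_lit 0)], [(nat_lit 0), (nat_lit 0)]),
  ([(nat_lit 1), (nat_lit 1), (nat_lit 0), (nat_lit 1)], [(nat_lit 1), (nat_lit 1), (nat_lit 0), (nat_lit 0), (nat_lit 1)]),
  ([(nat_lit 1), (nat_lit 0), (nat_lit 1), (nat_lit 1)], [(nat_lit 1), (nat_lit 0), (nat_lit 1), (nat_lit 1)])]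
noncomputable def DD3 : List SD := [⟨[(nat_lit 0x40c020100c080201), (nat_lit 0x804001031030040c), (nat_lit 0x804039272a151b36)], [[[(nat_lit 0)]],
  [[(nat_lit 1)]],
  [[(nat_lit 2)]],
  [[], [(nat_lit 2), (nat_lit 0), (nat_lit 1)]],
  [[(nat_lit 2), (nat_lit 0), (nat_lit 0)],
  [(nat_lit 0)],
  [(nat_lit 1), (nat_lit 0), (nat_lit 2)],
  [(nat_lit 0), (nat_lit 0), (nat_lit 1)]]], (nat_lit 0x351d16251915c040), (nat_lit 0x30184904448f8dc), [⟨(nat_lit 1), (nat_lit 0), (nat_lit 0), [(nat_lit 3)], [(nat_lit 0)]⟩,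
  ⟨(nat_lit 0), (nat_lit 0), (nat_lit 0), [], []⟩,
  ⟨(nat_lit 1), (nat_lit 0), (nat_lit 0), [(nat_lit 4)], [(nat_lit 0),
  (nat_lit 1),
  (nat_lit 2),
  (nat_lit 3),
  (nat_lit 4),
  (nat_lit 5),
  (nat_lit 6),
  (nat_lit 7),
  (nat_lit 8),
  (nat_lit 9),
  (nat_lit 10),
  (nat_lit 11),
  (nat_lit 12),
  (nat_lit 13),
  (nat_lit 14),
  (nat_lit 15),
  (nat_lit 16),
  (nat_lit 17),
  (nat_lit 18),
  (nat_lit 19),
  (nat_lit 20),
  (nat_lit 21),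
  (nat_lit 22),
  (nat_lit 23),
  (nat_lit 24),
  (nat_lit 25),
  (nat_lit 26),
  (nat_lit 27),
  (nat_lit 28),
  (nat_lit 29),
  (nat_lit 30),
  (nat_lit 31),
  (nat_lit 32),
  (nat_lit 33),
  (nat_lit 34),
  (nat_lit 35),
  (nat_lit 36),
  (nat_lit 37),
  (nat_lit 38),
  (nat_lit 39),
  (nat_lit 40),
  (nat_lit 41),
  (nat_lit 42),
  (nat_lit 43),
  (nat_lit 44),
  (nat_lit 45),
  (nat_lit 46),
  (nat_lit 47),
  (nat_lit 48),
  (nat_lit 49),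
  (nat_lit 50),
  (nat_lit 51),
  (nat_lit 52),
  (nat_lit 53),
  (nat_lit 54),
  (nat_lit 55),
  (nat_lit 56),
  (nat_lit 57),
  (nat_lit 58),
  (nat_lit 59),
  (nat_lit 60),
  (nat_lit 61),
  (nat_lit 62),
  (nat_lit 63)]⟩,
  ⟨(nat_lit 0), (nat_lit 2), (nat_lit 0), [], []⟩,
  ⟨(nat_lit 0), (nat_lit 2), (nat_lit 1), [], []⟩,
  ⟨(nat_lit 0), (nat_lit 2), (nat_lit 2), [], []⟩,
  ⟨(nat_lit 0), (nat_lit 3), (nat_lit 0), [], []⟩,
  ⟨(nat_lit 0), (nat_lit 4), (nat_lit 1), [], []⟩], [[(nat_lit 3), (nat_lit 3)]], []⟩,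
  ⟨[(nat_lit 0x804020100c080201), (nat_lit 0x804001031030040c), (nat_lit 0x804039272a151b36)], [[[(nat_lit 0)]],
  [[(nat_lit 1)]],
  [[(nat_lit 2)]],
  [[],
  [(nat_lit 1), (nat_lit 0), (nat_lit 2)],
  [(nat_lit 1), (nat_lit 0), (nat_lit 2), (nat_lit 1), (nat_lit 0), (nat_lit 2)]],
  [[], [(nat_lit 1), (nat_lit 0), (nat_lit 2)]]], (nat_lit 0x8040351d16251915), (nat_lit 0x8040212411123e37), [⟨(nat_lit 1), (nat_lit 0), (nat_lit 0), [(nat_lit 3)], [(nat_lit 0),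
  (nat_lit 1),
  (nat_lit 2),
  (nat_lit 3),
  (nat_lit 4),
  (nat_lit 5),
  (nat_lit 6),
  (nat_lit 7),
  (nat_lit 8),
  (nat_lit 9),
  (nat_lit 10),
  (nat_lit 11),
  (nat_lit 12),
  (nat_lit 13),
  (nat_lit 14),
  (nat_lit 15),
  (nat_lit 16),
  (nat_lit 17),
  (nat_lit 18),
  (nat_lit 19),
  (nat_lit 20),
  (nat_lit 21),
  (nat_lit 22),
  (nat_lit 23),
  (nat_lit 24),
  (nat_lit 25),
  (nat_lit 26),
  (nat_lit 27),
  (nat_lit 28),
  (nat_lit 29),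
  (nat_lit 30),
  (nat_lit 31),
  (nat_lit 32),
  (nat_lit 33),
  (nat_lit 34),
  (nat_lit 35),
  (nat_lit 36),
  (nat_lit 37),
  (nat_lit 38),
  (nat_lit 39),
  (nat_lit 40),
  (nat_lit 41),
  (nat_lit 42),
  (nat_lit 43),
  (nat_lit 44),
  (nat_lit 45),
  (nat_lit 46),
  (nat_lit 47),
  (nat_lit 48),
  (nat_lit 49),
  (nat_lit 50),
  (nat_lit 51),
  (nat_lit 52),
  (nat_lit 53),
  (nat_lit 54),
  (nat_lit 55),
  (nat_lit 56),
  (nat_lit 57),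
  (nat_lit 58),
  (nat_lit 59),
  (nat_lit 60),
  (nat_lit 61),
  (nat_lit 62),
  (nat_lit 63)]⟩,
  ⟨(nat_lit 0), (nat_lit 0), (nat_lit 0), [], []⟩,
  ⟨(nat_lit 0), (nat_lit 0), (nat_lit 1), [], []⟩,
  ⟨(nat_lit 0), (nat_lit 0), (nat_lit 2), [], []⟩,
  ⟨(nat_lit 0), (nat_lit 1), (nat_lit 0), [], []⟩,
  ⟨(nat_lit 0), (nat_lit 2), (nat_lit 1), [], []⟩,
  ⟨(nat_lit 1), (nat_lit 0), (nat_lit 0), [(nat_lit 4)], [(nat_lit 0), (nat_lit 64), (nat_lit 128), (nat_lit 192)]⟩,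
  ⟨(nat_lit 1), (nat_lit 0), (nat_lit 0), [(nat_lit 4)], [(nat_lit 0), (nat_lit 64), (nat_lit 128), (nat_lit 192)]⟩], [[(nat_lit 3), (nat_lit 3)],
  [(nat_lit 3), (nat_lit 1), (nat_lit 3), (nat_lit 1), (nat_lit 3), (nat_lit 1)]], [((nat_lit 0x8040201008040201), (nat_lit 0x8040201008040201)),
  ((nat_lit 0x80c030200c080302), (nat_lit 0x80c01030040c0103)),
  ((nat_lit 0x40c01030040c0103), (nat_lit 0xc08030200c080302))]⟩,
  ⟨[(nat_lit 0x40c030200c080201), (nat_lit 0x804001031030040c), (nat_lit 0x80401b36153f1e39)], [[[(nat_lit 0)]],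
  [[(nat_lit 1)]],
  [[(nat_lit 2)]],
  [[(nat_lit 1), (nat_lit 0)],
  [(nat_lit 2), (nat_lit 0)],
  [(nat_lit 0), (nat_lit 1), (nat_lit 1)],
  [(nat_lit 0), (nat_lit 2), (nat_lit 1)]],
  [[], [(nat_lit 0), (nat_lit 2)], [(nat_lit 0), (nat_lit 2), (nat_lit 0), (nat_lit 2)]],
  [[], [(nat_lit 2)]]], (nat_lit 0x20108a8dcac6c945), (nat_lit 0xf288040363a1913), [⟨(nat_lit 1), (nat_lit 0), (nat_lit 0), [(nat_lit 3), (nat_lit 4)], [(nat_lit 0)]⟩,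
  ⟨(nat_lit 0), (nat_lit 0), (nat_lit 0), [], []⟩,
  ⟨(nat_lit 0), (nat_lit 0), (nat_lit 1), [], []⟩,
  ⟨(nat_lit 0), (nat_lit 0), (nat_lit 2), [], []⟩,
  ⟨(nat_lit 0), (nat_lit 1), (nat_lit 0), [], []⟩,
  ⟨(nat_lit 0), (nat_lit 1), (nat_lit 1), [], []⟩,
  ⟨(nat_lit 1), (nat_lit 0), (nat_lit 0), [(nat_lit 5)], [(nat_lit 0), (nat_lit 16), (nat_lit 32), (nat_lit 48)]⟩,
  ⟨(nat_lit 0), (nat_lit 6), (nat_lit 0), [], []⟩], [[(nat_lit 3), (nat_lit 3)]], []⟩,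
  ⟨[(nat_lit 0x804030200c080201), (nat_lit 0x804001031030040c), (nat_lit 0x80401b36153f1e39)], [[[(nat_lit 0)]],
  [[(nat_lit 1)]],
  [[(nat_lit 2)]],
  [[], [(nat_lit 2)], [(nat_lit 0), (nat_lit 2), (nat_lit 1)]],
  [[],
  [(nat_lit 0), (nat_lit 2), (nat_lit 1)],
  [(nat_lit 0), (nat_lit 2), (nat_lit 1), (nat_lit 0), (nat_lit 2), (nat_lit 1)]],
  [[], [(nat_lit 0), (nat_lit 1)]]], (nat_lit 0x804020100d060905), (nat_lit 0x80402010090a0e0b), [⟨(nat_lit 1), (nat_lit 0), (nat_lit 0), [(nat_lit 3)], [(nat_lit 0)]⟩,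
  ⟨(nat_lit 0), (nat_lit 0), (nat_lit 0), [], []⟩,
  ⟨(nat_lit 0), (nat_lit 0), (nat_lit 1), [], []⟩,
  ⟨(nat_lit 0), (nat_lit 1), (nat_lit 0), [], []⟩,
  ⟨(nat_lit 1), (nat_lit 0), (nat_lit 0), [(nat_lit 4)], [(nat_lit 0), (nat_lit 16), (nat_lit 32), (nat_lit 48)]⟩,
  ⟨(nat_lit 0), (nat_lit 4), (nat_lit 0), [], []⟩,
  ⟨(nat_lit 1), (nat_lit 0), (nat_lit 0), [(nat_lit 5)], [(nat_lit 0), (nat_lit 64), (nat_lit 128), (nat_lit 192)]⟩,
  ⟨(nat_lit 1), (nat_lit 0), (nat_lit 0), [(nat_lit 5)], [(nat_lit 0), (nat_lit 64), (nat_lit 128), (nat_lit 192)]⟩], [[(nat_lit 3), (nat_lit 3)]], []⟩,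
  ⟨[(nat_lit 0x40c03020040c0302), (nat_lit 0x804001031030040c), (nat_lit 0x804039272a151b36)], [[[(nat_lit 0)]], [[(nat_lit 1)]], [[(nat_lit 2)]]], (nat_lit 0x6a9db597ebfaee55), (nat_lit 0xf17eae75ce739e79), [⟨(nat_lit 1), (nat_lit 0), (nat_lit 0), [], [(nat_lit 0),
  (nat_lit 1),
  (nat_lit 2),
  (nat_lit 3),
  (nat_lit 4),
  (nat_lit 5),
  (nat_lit 6),
  (nat_lit 7),
  (nat_lit 8),
  (nat_lit 9),
  (nat_lit 10),
  (nat_lit 11),
  (nat_lit 12),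
  (nat_lit 13),
  (nat_lit 14),
  (nat_lit 15),
  (nat_lit 16),
  (nat_lit 17),
  (nat_lit 18),
  (nat_lit 19),
  (nat_lit 20),
  (nat_lit 21),
  (nat_lit 22),
  (nat_lit 23),
  (nat_lit 24),
  (nat_lit 25),
  (nat_lit 26),
  (nat_lit 27),
  (nat_lit 28),
  (nat_lit 29),
  (nat_lit 30),
  (nat_lit 31),
  (nat_lit 32),
  (nat_lit 33),
  (nat_lit 34),
  (nat_lit 35),
  (nat_lit 36),
  (nat_lit 37),
  (nat_lit 38),
  (nat_lit 39),
  (nat_lit 40),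
  (nat_lit 41),
  (nat_lit 42),
  (nat_lit 43),
  (nat_lit 44),
  (nat_lit 45),
  (nat_lit 46),
  (nat_lit 47),
  (nat_lit 48),
  (nat_lit 49),
  (nat_lit 50),
  (nat_lit 51),
  (nat_lit 52),
  (nat_lit 53),
  (nat_lit 54),
  (nat_lit 55),
  (nat_lit 56),
  (nat_lit 57),
  (nat_lit 58),
  (nat_lit 59),
  (nat_lit 60),
  (nat_lit 61),
  (nat_lit 62),
  (nat_lit 63),
  (nat_lit 64),
  (nat_lit 65),
  (nat_lit 66),
  (nat_lit 67),
  (nat_lit 68),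
  (nat_lit 69),
  (nat_lit 70),
  (nat_lit 71),
  (nat_lit 72),
  (nat_lit 73),
  (nat_lit 74),
  (nat_lit 75),
  (nat_lit 76),
  (nat_lit 77),
  (nat_lit 78),
  (nat_lit 79),
  (nat_lit 80),
  (nat_lit 81),
  (nat_lit 82),
  (nat_lit 83),
  (nat_lit 84),
  (nat_lit 85),
  (nat_lit 86),
  (nat_lit 87),
  (nat_lit 88),
  (nat_lit 89),
  (nat_lit 90),
  (nat_lit 91),
  (nat_lit 92),
  (nat_lit 93),
  (nat_lit 94),
  (nat_lit 95),
  (nat_lit 96),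
  (nat_lit 97),
  (nat_lit 98),
  (nat_lit 99),
  (nat_lit 100),
  (nat_lit 101),
  (nat_lit 102),
  (nat_lit 103),
  (nat_lit 104),
  (nat_lit 105),
  (nat_lit 106),
  (nat_lit 107),
  (nat_lit 108),
  (nat_lit 109),
  (nat_lit 110),
  (nat_lit 111),
  (nat_lit 112),
  (nat_lit 113),
  (nat_lit 114),
  (nat_lit 115),
  (nat_lit 116),
  (nat_lit 117),
  (nat_lit 118),
  (nat_lit 119),
  (nat_lit 120),
  (nat_lit 121),
  (nat_lit 122),
  (nat_lit 123),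
  (nat_lit 124),
  (nat_lit 125),
  (nat_lit 126),
  (nat_lit 127),
  (nat_lit 128),
  (nat_lit 129),
  (nat_lit 130),
  (nat_lit 131),
  (nat_lit 132),
  (nat_lit 133),
  (nat_lit 134),
  (nat_lit 135),
  (nat_lit 136),
  (nat_lit 137),
  (nat_lit 138),
  (nat_lit 139),
  (nat_lit 140),
  (nat_lit 141),
  (nat_lit 142),
  (nat_lit 143),
  (nat_lit 144),
  (nat_lit 145),
  (nat_lit 146),
  (nat_lit 147),
  (nat_lit 148),
  (nat_lit 149),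
  (nat_lit 150),
  (nat_lit 151),
  (nat_lit 152),
  (nat_lit 153),
  (nat_lit 154),
  (nat_lit 155),
  (nat_lit 156),
  (nat_lit 157),
  (nat_lit 158),
  (nat_lit 159),
  (nat_lit 160),
  (nat_lit 161),
  (nat_lit 162),
  (nat_lit 163),
  (nat_lit 164),
  (nat_lit 165),
  (nat_lit 166),
  (nat_lit 167),
  (nat_lit 168),
  (nat_lit 169),
  (nat_lit 170),
  (nat_lit 171),
  (nat_lit 172),
  (nat_lit 173),
  (nat_lit 174),
  (nat_lit 175),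
  (nat_lit 176),
  (nat_lit 177),
  (nat_lit 178),
  (nat_lit 179),
  (nat_lit 180),
  (nat_lit 181),
  (nat_lit 182),
  (nat_lit 183),
  (nat_lit 184),
  (nat_lit 185),
  (nat_lit 186),
  (nat_lit 187),
  (nat_lit 188),
  (nat_lit 189),
  (nat_lit 190),
  (nat_lit 191),
  (nat_lit 192),
  (nat_lit 193),
  (nat_lit 194),
  (nat_lit 195),
  (nat_lit 196),
  (nat_lit 197),
  (nat_lit 198),
  (nat_lit 199),
  (nat_lit 200),
  (nat_lit 201),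
  (nat_lit 202),
  (nat_lit 203),
  (nat_lit 204),
  (nat_lit 205),
  (nat_lit 206),
  (nat_lit 207),
  (nat_lit 208),
  (nat_lit 209),
  (nat_lit 210),
  (nat_lit 211),
  (nat_lit 212),
  (nat_lit 213),
  (nat_lit 214),
  (nat_lit 215),
  (nat_lit 216),
  (nat_lit 217),
  (nat_lit 218),
  (nat_lit 219),
  (nat_lit 220),
  (nat_lit 221),
  (nat_lit 222),
  (nat_lit 223),
  (nat_lit 224),
  (nat_lit 225),
  (nat_lit 226),
  (nat_lit 227),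
  (nat_lit 228),
  (nat_lit 229),
  (nat_lit 230),
  (nat_lit 231),
  (nat_lit 232),
  (nat_lit 233),
  (nat_lit 234),
  (nat_lit 235),
  (nat_lit 236),
  (nat_lit 237),
  (nat_lit 238),
  (nat_lit 239),
  (nat_lit 240),
  (nat_lit 241),
  (nat_lit 242),
  (nat_lit 243),
  (nat_lit 244),
  (nat_lit 245),
  (nat_lit 246),
  (nat_lit 247),
  (nat_lit 248),
  (nat_lit 249),
  (nat_lit 250),
  (nat_lit 251),
  (nat_lit 252),
  (nat_lit 253),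
  (nat_lit 254),
  (nat_lit 255)]⟩,
  ⟨(nat_lit 0), (nat_lit 0), (nat_lit 0), [], []⟩,
  ⟨(nat_lit 0), (nat_lit 0), (nat_lit 1), [], []⟩,
  ⟨(nat_lit 0), (nat_lit 0), (nat_lit 2), [], []⟩,
  ⟨(nat_lit 0), (nat_lit 1), (nat_lit 1), [], []⟩,
  ⟨(nat_lit 0), (nat_lit 1), (nat_lit 2), [], []⟩,
  ⟨(nat_lit 0), (nat_lit 2), (nat_lit 2), [], []⟩,
  ⟨(nat_lit 0), (nat_lit 4), (nat_lit 2), [], []⟩], [[(nat_lit 3), (nat_lit 3)],
  [(nat_lit 3), (nat_lit 1), (nat_lit 3), (nat_lit 1), (nat_lit 3), (nat_lit 1)]], [((nat_lit 0x8040201008040201), (nat_lit 0x8040201008040201)),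
  ((nat_lit 0x804030200c080302), (nat_lit 0x80401030040c0103)),
  ((nat_lit 0x40c030200c080302), (nat_lit 0xc0801030040c0103))]⟩,
  ⟨[(nat_lit 0x804030200c080103), (nat_lit 0x804001031030040c), (nat_lit 0x8040362d1e392a15)], [[[(nat_lit 0)]],
  [[(nat_lit 1)]],
  [[(nat_lit 2)]],
  [[(nat_lit 2)], [(nat_lit 0), (nat_lit 1), (nat_lit 0)], [(nat_lit 0)]],
  [[],
  [(nat_lit 1), (nat_lit 0), (nat_lit 1)],
  [(nat_lit 1), (nat_lit 0), (nat_lit 1), (nat_lit 1), (nat_lit 0), (nat_lit 1)]],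
  [[], [(nat_lit 0)]]], (nat_lit 0x80400d0a0b052010), (nat_lit 0x80400201241c3418), [⟨(nat_lit 1), (nat_lit 0), (nat_lit 0), [(nat_lit 3)], [(nat_lit 0)]⟩,
  ⟨(nat_lit 0), (nat_lit 0), (nat_lit 0), [], []⟩,
  ⟨(nat_lit 1), (nat_lit 0), (nat_lit 0), [(nat_lit 4)], [(nat_lit 0),
  (nat_lit 1),
  (nat_lit 2),
  (nat_lit 3),
  (nat_lit 4),
  (nat_lit 5),
  (nat_lit 6),
  (nat_lit 7),
  (nat_lit 8),
  (nat_lit 9),
  (nat_lit 10),
  (nat_lit 11),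
  (nat_lit 12),
  (nat_lit 13),
  (nat_lit 14),
  (nat_lit 15)]⟩,
  ⟨(nat_lit 0), (nat_lit 2), (nat_lit 0), [], []⟩,
  ⟨(nat_lit 0), (nat_lit 2), (nat_lit 2), [], []⟩,
  ⟨(nat_lit 0), (nat_lit 3), (nat_lit 2), [], []⟩,
  ⟨(nat_lit 1), (nat_lit 0), (nat_lit 0), [(nat_lit 5)], [(nat_lit 0), (nat_lit 64), (nat_lit 128), (nat_lit 192)]⟩,
  ⟨(nat_lit 1), (nat_lit 0), (nat_lit 0), [(nat_lit 5)], [(nat_lit 0), (nat_lit 64), (nat_lit 128), (nat_lit 192)]⟩], [[(nat_lit 3), (nat_lit 3)]], []⟩]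
noncomputable def tw4 : List (List ℕ × List ℕ) := [([(nat_lit 0)], [(nat_lit 0), (nat_lit 0)]),
  ([(nat_lit 1)], [(nat_lit 1), (nat_lit 3)]),
  ([(nat_lit 2)], [(nat_lit 2), (nat_lit 2), (nat_lit 3), (nat_lit 1), (nat_lit 3), (nat_lit 2), (nat_lit 3), (nat_lit 1)]),
  ([(nat_lit 3)], [(nat_lit 3)])]
noncomputable def DD4 : List SD := [⟨[(nat_lit 0x804020100c080201),
  (nat_lit 0x804001031030040c),
  (nat_lit 0x804039272a151b36),
  (nat_lit 0x80403010080c0201)], [[[(nat_lit 0)]],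
  [[(nat_lit 1)]],
  [[(nat_lit 2)]],
  [[(nat_lit 3)]],
  [[(nat_lit 3), (nat_lit 1), (nat_lit 0)],
  [(nat_lit 1), (nat_lit 3), (nat_lit 0)],
  [(nat_lit 3), (nat_lit 3), (nat_lit 1)]],
  [[], [(nat_lit 0), (nat_lit 1)]]], (nat_lit 0x8040102004360c01), (nat_lit 0x804010200a083c01), [⟨(nat_lit 1), (nat_lit 0), (nat_lit 0), [(nat_lit 4)], [(nat_lit 0), (nat_lit 1)]⟩,
  ⟨(nat_lit 0), (nat_lit 0), (nat_lit 1), [], []⟩,
  ⟨(nat_lit 0), (nat_lit 0), (nat_lit 2), [], []⟩,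
  ⟨(nat_lit 0), (nat_lit 1), (nat_lit 0), [], []⟩,
  ⟨(nat_lit 0), (nat_lit 1), (nat_lit 1), [], []⟩,
  ⟨(nat_lit 0), (nat_lit 2), (nat_lit 2), [], []⟩,
  ⟨(nat_lit 1), (nat_lit 0), (nat_lit 0), [(nat_lit 5)], [(nat_lit 0), (nat_lit 64), (nat_lit 128), (nat_lit 192)]⟩,
  ⟨(nat_lit 1), (nat_lit 0), (nat_lit 0), [(nat_lit 5)], [(nat_lit 0), (nat_lit 64), (nat_lit 128), (nat_lit 192)]⟩], [[(nat_lit 4), (nat_lit 4)]], [((nat_lit 0x8040201008040201), (nat_lit 0x8040201008040201)),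
  ((nat_lit 0xc080201008040201), (nat_lit 0x40c0201008040201)),
  ((nat_lit 0x4080201008040201), (nat_lit 0x4080201008040201))]⟩,
  ⟨[(nat_lit 0x40c03020040c0302),
  (nat_lit 0x804001031030040c),
  (nat_lit 0x804039272a151b36),
  (nat_lit 0x2010c0810308040)], [[[(nat_lit 0)]],
  [[(nat_lit 1)]],
  [[(nat_lit 2)]],
  [[(nat_lit 3)]],
  [[(nat_lit 3), (nat_lit 1)], [(nat_lit 3), (nat_lit 2), (nat_lit 2)]]], (nat_lit 0x801b0440360c0201), (nat_lit 0x80104d6724200201), [⟨(nat_lit 1), (nat_lit 0), (nat_lit 0), [(nat_lit 4)], [(nat_lit 0), (nat_lit 16), (nat_lit 32), (nat_lit 48)]⟩,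
  ⟨(nat_lit 0), (nat_lit 0), (nat_lit 0), [], []⟩,
  ⟨(nat_lit 0), (nat_lit 0), (nat_lit 1), [], []⟩,
  ⟨(nat_lit 0), (nat_lit 0), (nat_lit 2), [], []⟩,
  ⟨(nat_lit 0), (nat_lit 0), (nat_lit 3), [], []⟩,
  ⟨(nat_lit 0), (nat_lit 1), (nat_lit 1), [], []⟩,
  ⟨(nat_lit 0), (nat_lit 1), (nat_lit 2), [], []⟩,
  ⟨(nat_lit 0), (nat_lit 1), (nat_lit 3), [], []⟩], [[(nat_lit 4), (nat_lit 4)]], [((nat_lit 0x8040201008040201), (nat_lit 0x8040201008040201)),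
  ((nat_lit 0xc08030200c080302), (nat_lit 0x40c01030040c0103)),
  ((nat_lit 0x40c01030040c0103), (nat_lit 0xc08030200c080302))]⟩]
noncomputable def tw5 : List (List ℕ × List ℕ) := [([(nat_lit 4)], [(nat_lit 4)]),
  ([(nat_lit 1), (nat_lit 4), (nat_lit 1), (nat_lit 1)], [(nat_lit 1), (nat_lit 4), (nat_lit 1), (nat_lit 1)]),
  ([(nat_lit 4), (nat_lit 0)], [(nat_lit 4), (nat_lit 0)]),
  ([(nat_lit 2), (nat_lit 0), (nat_lit 2), (nat_lit 4), (nat_lit 2), (nat_lit 0)], [(nat_lit 2), (nat_lit 0), (nat_lit 2), (nat_lit 4), (nat_lit 2), (nat_lit 0)]),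
  ([(nat_lit 1), (nat_lit 1), (nat_lit 4), (nat_lit 0), (nat_lit 1)], [(nat_lit 1), (nat_lit 1), (nat_lit 4), (nat_lit 0), (nat_lit 1)])]
noncomputable def DD5 : List SD := [⟨[(nat_lit 0x804020100c080201),
  (nat_lit 0x804001031030040c),
  (nat_lit 0x804039272a151b36),
  (nat_lit 0x80403010080c0201),
  (nat_lit 0x80402010080c0201)], [[[(nat_lit 0)]],
  [[(nat_lit 1)]],
  [[(nat_lit 2)]],
  [[(nat_lit 3)]],
  [[(nat_lit 4)]],
  [[(nat_lit 3), (nat_lit 1)], [(nat_lit 1), (nat_lit 3)], [(nat_lit 4), (nat_lit 4), (nat_lit 2)]],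
  [[(nat_lit 0), (nat_lit 3), (nat_lit 0)],
  [(nat_lit 1), (nat_lit 1), (nat_lit 0)],
  [(nat_lit 2), (nat_lit 1)],
  [(nat_lit 4)]],
  [[(nat_lit 3), (nat_lit 1), (nat_lit 0)],
  [(nat_lit 4)],
  [(nat_lit 0), (nat_lit 0), (nat_lit 0)],
  [(nat_lit 1), (nat_lit 0), (nat_lit 2)]]], (nat_lit 0x18040162a1e1a03), (nat_lit 0x40209d9714068180), [⟨(nat_lit 1), (nat_lit 0), (nat_lit 0), [(nat_lit 5)], [(nat_lit 0), (nat_lit 3)]⟩,
  ⟨(nat_lit 0), (nat_lit 0), (nat_lit 3), [], []⟩,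
  ⟨(nat_lit 0), (nat_lit 1), (nat_lit 2), [], []⟩,
  ⟨(nat_lit 0), (nat_lit 1), (nat_lit 4), [], []⟩,
  ⟨(nat_lit 0), (nat_lit 2), (nat_lit 0), [], []⟩,
  ⟨(nat_lit 1), (nat_lit 0), (nat_lit 0), [(nat_lit 6)], [(nat_lit 0), (nat_lit 51), (nat_lit 64), (nat_lit 115), (nat_lit 128), (nat_lit 179), (nat_lit 192), (nat_lit 243)]⟩,
  ⟨(nat_lit 1), (nat_lit 0), (nat_lit 0), [(nat_lit 6)], [(nat_lit 0), (nat_lit 51), (nat_lit 64), (nat_lit 115), (nat_lit 128), (nat_lit 179), (nat_lit 192), (nat_lit 243)]⟩,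
  ⟨(nat_lit 1), (nat_lit 0), (nat_lit 0), [(nat_lit 7)], [(nat_lit 0),
  (nat_lit 1),
  (nat_lit 50),
  (nat_lit 51),
  (nat_lit 64),
  (nat_lit 65),
  (nat_lit 114),
  (nat_lit 115),
  (nat_lit 128),
  (nat_lit 129),
  (nat_lit 178),
  (nat_lit 179),
  (nat_lit 192),
  (nat_lit 193),
  (nat_lit 242),
  (nat_lit 243)]⟩], [[(nat_lit 5), (nat_lit 5)],
  [(nat_lit 3), (nat_lit 4), (nat_lit 5), (nat_lit 3), (nat_lit 4), (nat_lit 5), (nat_lit 3), (nat_lit 4), (nat_lit 5)],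
  [(nat_lit 1),
  (nat_lit 2),
  (nat_lit 2),
  (nat_lit 1),
  (nat_lit 5),
  (nat_lit 1),
  (nat_lit 2),
  (nat_lit 2),
  (nat_lit 1),
  (nat_lit 5),
  (nat_lit 1),
  (nat_lit 2),
  (nat_lit 2),
  (nat_lit 1),
  (nat_lit 5)]], [((nat_lit 0x8040201008040201), (nat_lit 0x8040201008040201)),
  ((nat_lit 0x4080201008040201), (nat_lit 0x4080201008040201)),
  ((nat_lit 0xc080201008040201), (nat_lit 0x40c0201008040201))]⟩,
  ⟨[(nat_lit 0x804020100c080201),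
  (nat_lit 0x804001031030040c),
  (nat_lit 0x804039272a151b36),
  (nat_lit 0x80403010080c0201),
  (nat_lit 0xc0402010080c0201)], [[[(nat_lit 0)]],
  [[(nat_lit 1)]],
  [[(nat_lit 2)]],
  [[(nat_lit 3)]],
  [[(nat_lit 4)]],
  [[], [(nat_lit 1), (nat_lit 3)], [(nat_lit 1), (nat_lit 3), (nat_lit 1), (nat_lit 3)]],
  [[], [(nat_lit 1)]],
  [[(nat_lit 2), (nat_lit 3), (nat_lit 2)], [(nat_lit 1), (nat_lit 4), (nat_lit 0)]],
  [[], [(nat_lit 0), (nat_lit 2)]],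
  [[], [(nat_lit 4), (nat_lit 2), (nat_lit 0)]],
  [[], [(nat_lit 3)]]], (nat_lit 0x1c080162a1e1a03), (nat_lit 0x20609d9714068180), [⟨(nat_lit 1), (nat_lit 0), (nat_lit 0), [(nat_lit 5), (nat_lit 6)], [(nat_lit 0), (nat_lit 3)]⟩,
  ⟨(nat_lit 0), (nat_lit 0), (nat_lit 3), [], []⟩,
  ⟨(nat_lit 0), (nat_lit 1), (nat_lit 2), [], []⟩,
  ⟨(nat_lit 0), (nat_lit 1), (nat_lit 4), [], []⟩,
  ⟨(nat_lit 0), (nat_lit 2), (nat_lit 0), [], []⟩,
  ⟨(nat_lit 1), (nat_lit 0), (nat_lit 0), [(nat_lit 7), (nat_lit 8)], [(nat_lit 0), (nat_lit 51), (nat_lit 64), (nat_lit 115), (nat_lit 128), (nat_lit 179), (nat_lit 192), (nat_lit 243)]⟩,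
  ⟨(nat_lit 0), (nat_lit 5), (nat_lit 0), [], []⟩,
  ⟨(nat_lit 1), (nat_lit 0), (nat_lit 0), [(nat_lit 9), (nat_lit 10)], [(nat_lit 0), (nat_lit 1), (nat_lit 50), (nat_lit 51), (nat_lit 64), (nat_lit 65), (nat_lit 114), (nat_lit 115)]⟩], [[(nat_lit 5), (nat_lit 5)],
  [(nat_lit 3), (nat_lit 4), (nat_lit 5), (nat_lit 3), (nat_lit 4), (nat_lit 5), (nat_lit 3), (nat_lit 4), (nat_lit 5)],
  [(nat_lit 1),
  (nat_lit 2),
  (nat_lit 2),
  (nat_lit 1),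
  (nat_lit 5),
  (nat_lit 1),
  (nat_lit 2),
  (nat_lit 2),
  (nat_lit 1),
  (nat_lit 5),
  (nat_lit 1),
  (nat_lit 2),
  (nat_lit 2),
  (nat_lit 1),
  (nat_lit 5)]], [((nat_lit 0x8040201008040201), (nat_lit 0x8040201008040201))]⟩,
  ⟨[(nat_lit 0x40c03020040c0302),
  (nat_lit 0x804001031030040c),
  (nat_lit 0x804039272a151b36),
  (nat_lit 0x2010c0810308040),
  (nat_lit 0x408030140803010)], [[[(nat_lit 0)]],
  [[(nat_lit 1)]],
  [[(nat_lit 2)]],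
  [[(nat_lit 3)]],
  [[(nat_lit 4)]],
  [[(nat_lit 1), (nat_lit 2), (nat_lit 1)],
  [(nat_lit 4)],
  [(nat_lit 2), (nat_lit 2), (nat_lit 4)],
  [(nat_lit 1), (nat_lit 4)]],
  [[(nat_lit 1), (nat_lit 1)],
  [(nat_lit 1), (nat_lit 4), (nat_lit 1)],
  [(nat_lit 2)],
  [(nat_lit 0), (nat_lit 4), (nat_lit 3)]]], (nat_lit 0x10804ac30402003), (nat_lit 0x7204020a40208180), [⟨(nat_lit 1), (nat_lit 0), (nat_lit 0), [(nat_lit 5), (nat_lit 6)], [(nat_lit 0), (nat_lit 3), (nat_lit 68), (nat_lit 71)]⟩,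
  ⟨(nat_lit 0), (nat_lit 0), (nat_lit 0), [], []⟩,
  ⟨(nat_lit 0), (nat_lit 0), (nat_lit 1), [], []⟩,
  ⟨(nat_lit 0), (nat_lit 0), (nat_lit 2), [], []⟩,
  ⟨(nat_lit 0), (nat_lit 0), (nat_lit 3), [], []⟩,
  ⟨(nat_lit 0), (nat_lit 0), (nat_lit 4), [], []⟩,
  ⟨(nat_lit 0), (nat_lit 1), (nat_lit 1), [], []⟩,
  ⟨(nat_lit 0), (nat_lit 1), (nat_lit 2), [], []⟩], [[(nat_lit 5), (nat_lit 5)],
  [(nat_lit 3), (nat_lit 4), (nat_lit 5), (nat_lit 3), (nat_lit 4), (nat_lit 5), (nat_lit 3), (nat_lit 4), (nat_lit 5)]], [((nat_lit 0x8040201008040201), (nat_lit 0x8040201008040201))]⟩]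
noncomputable def tri : List (ℕ × ℕ × ℕ) := [((nat_lit 192), (nat_lit 161), (nat_lit 61)),
  ((nat_lit 24), (nat_lit 37), (nat_lit 48)),
  ((nat_lit 64), (nat_lit 27), (nat_lit 233)),
  ((nat_lit 100), (nat_lit 190), (nat_lit 228)),
  ((nat_lit 26), (nat_lit 52), (nat_lit 0)),
  ((nat_lit 187), (nat_lit 29), (nat_lit 109)),
  ((nat_lit 165), (nat_lit 77), (nat_lit 202)),
  ((nat_lit 63), (nat_lit 114), (nat_lit 31))]
noncomputable def QD4 : List (List ℕ × List ℕ × List (ℕ × List (ℕ × ℕ))) := [([(nat_lit 0x804020100c080201),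
  (nat_lit 0x804001031030040c),
  (nat_lit 0x804039272a151b36),
  (nat_lit 0x80403010080c0201)], [(nat_lit 0xeee1eee1eee1111eeee1eee1eee1111e111e111e111eeee1eee1eee1eee1111e),
  (nat_lit 0xeee1eee1eee1111e111e111e111eeee1eee1eee1eee1111eeee1eee1eee1111e),
  (nat_lit 0x111e111e111eeee1eee1eee1eee1111eeee1eee1eee1111eeee1eee1eee1111e),
  (nat_lit 0x111e111e111eeee1111e111e111eeee1111e111e111eeee1eee1eee1eee1111e)], [((nat_lit 0), []),
  ((nat_lit 1), [((nat_lit 61), (nat_lit 2)),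
  ((nat_lit 25), (nat_lit 1)),
  ((nat_lit 2), (nat_lit 2)),
  ((nat_lit 38), (nat_lit 1)),
  ((nat_lit 3), (nat_lit 2)),
  ((nat_lit 22), (nat_lit 0)),
  ((nat_lit 39), (nat_lit 0)),
  ((nat_lit 55), (nat_lit 0)),
  ((nat_lit 57), (nat_lit 3)),
  ((nat_lit 57), (nat_lit 0)),
  ((nat_lit 21), (nat_lit 0)),
  ((nat_lit 48), (nat_lit 2)),
  ((nat_lit 48), (nat_lit 1)),
  ((nat_lit 46), (nat_lit 2)),
  ((nat_lit 46), (nat_lit 1)),
  ((nat_lit 46), (nat_lit 0)),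
  ((nat_lit 16), (nat_lit 1)),
  ((nat_lit 58), (nat_lit 2)),
  ((nat_lit 58), (nat_lit 1)),
  ((nat_lit 58), (nat_lit 0)),
  ((nat_lit 63), (nat_lit 3)),
  ((nat_lit 63), (nat_lit 1)),
  ((nat_lit 63), (nat_lit 0)),
  ((nat_lit 32), (nat_lit 2)),
  ((nat_lit 4), (nat_lit 2)),
  ((nat_lit 4), (nat_lit 1)),
  ((nat_lit 4), (nat_lit 0)),
  ((nat_lit 54), (nat_lit 3)),
  ((nat_lit 54), (nat_lit 2)),
  ((nat_lit 54), (nat_lit 0)),
  ((nat_lit 12), (nat_lit 2)),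
  ((nat_lit 12), (nat_lit 1)),
  ((nat_lit 12), (nat_lit 0)),
  ((nat_lit 1), (nat_lit 2)),
  ((nat_lit 1), (nat_lit 1))]),
  ((nat_lit 5), [((nat_lit 40), (nat_lit 1)),
  ((nat_lit 49), (nat_lit 1)),
  ((nat_lit 11), (nat_lit 2)),
  ((nat_lit 56), (nat_lit 1)),
  ((nat_lit 24), (nat_lit 1)),
  ((nat_lit 44), (nat_lit 2)),
  ((nat_lit 51), (nat_lit 1)),
  ((nat_lit 36), (nat_lit 0)),
  ((nat_lit 33), (nat_lit 3)),
  ((nat_lit 33), (nat_lit 2)),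
  ((nat_lit 52), (nat_lit 2)),
  ((nat_lit 52), (nat_lit 1)),
  ((nat_lit 52), (nat_lit 0)),
  ((nat_lit 28), (nat_lit 2)),
  ((nat_lit 13), (nat_lit 1)),
  ((nat_lit 35), (nat_lit 3)),
  ((nat_lit 35), (nat_lit 2)),
  ((nat_lit 60), (nat_lit 3)),
  ((nat_lit 60), (nat_lit 2)),
  ((nat_lit 60), (nat_lit 1)),
  ((nat_lit 60), (nat_lit 0)),
  ((nat_lit 9), (nat_lit 1)),
  ((nat_lit 5), (nat_lit 3)),
  ((nat_lit 5), (nat_lit 2)),
  ((nat_lit 5), (nat_lit 1)),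
  ((nat_lit 5), (nat_lit 0))]),
  ((nat_lit 64), []),
  ((nat_lit 65), [((nat_lit 125), (nat_lit 2)),
  ((nat_lit 89), (nat_lit 1)),
  ((nat_lit 66), (nat_lit 2)),
  ((nat_lit 102), (nat_lit 1)),
  ((nat_lit 67), (nat_lit 2)),
  ((nat_lit 86), (nat_lit 0)),
  ((nat_lit 103), (nat_lit 0)),
  ((nat_lit 119), (nat_lit 0)),
  ((nat_lit 121), (nat_lit 3)),
  ((nat_lit 121), (nat_lit 0)),
  ((nat_lit 85), (nat_lit 0)),
  ((nat_lit 112), (nat_lit 2)),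
  ((nat_lit 112), (nat_lit 1)),
  ((nat_lit 110), (nat_lit 2)),
  ((nat_lit 110), (nat_lit 1)),
  ((nat_lit 110), (nat_lit 0)),
  ((nat_lit 80), (nat_lit 1)),
  ((nat_lit 122), (nat_lit 2)),
  ((nat_lit 122), (nat_lit 1)),
  ((nat_lit 122), (nat_lit 0)),
  ((nat_lit 127), (nat_lit 3)),
  ((nat_lit 127), (nat_lit 1)),
  ((nat_lit 127), (nat_lit 0)),
  ((nat_lit 96), (nat_lit 2)),
  ((nat_lit 68), (nat_lit 2)),
  ((nat_lit 68), (nat_lit 1)),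
  ((nat_lit 68), (nat_lit 0)),
  ((nat_lit 118), (nat_lit 3)),
  ((nat_lit 118), (nat_lit 2)),
  ((nat_lit 118), (nat_lit 0)),
  ((nat_lit 76), (nat_lit 2)),
  ((nat_lit 76), (nat_lit 1)),
  ((nat_lit 76), (nat_lit 0)),
  ((nat_lit 65), (nat_lit 2)),
  ((nat_lit 65), (nat_lit 1))]),
  ((nat_lit 69), [((nat_lit 104), (nat_lit 1)),
  ((nat_lit 113), (nat_lit 1)),
  ((nat_lit 75), (nat_lit 2)),
  ((nat_lit 120), (nat_lit 1)),
  ((nat_lit 88), (nat_lit 1)),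
  ((nat_lit 108), (nat_lit 2)),
  ((nat_lit 115), (nat_lit 1)),
  ((nat_lit 100), (nat_lit 0)),
  ((nat_lit 97), (nat_lit 3)),
  ((nat_lit 97), (nat_lit 2)),
  ((nat_lit 116), (nat_lit 2)),
  ((nat_lit 116), (nat_lit 1)),
  ((nat_lit 116), (nat_lit 0)),
  ((nat_lit 92), (nat_lit 2)),
  ((nat_lit 77), (nat_lit 1)),
  ((nat_lit 99), (nat_lit 3)),
  ((nat_lit 99), (nat_lit 2)),
  ((nat_lit 124), (nat_lit 3)),
  ((nat_lit 124), (nat_lit 2)),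
  ((nat_lit 124), (nat_lit 1)),
  ((nat_lit 124), (nat_lit 0)),
  ((nat_lit 73), (nat_lit 1)),
  ((nat_lit 69), (nat_lit 3)),
  ((nat_lit 69), (nat_lit 2)),
  ((nat_lit 69), (nat_lit 1)),
  ((nat_lit 69), (nat_lit 0))]),
  ((nat_lit 128), []),
  ((nat_lit 129), [((nat_lit 189), (nat_lit 2)),
  ((nat_lit 153), (nat_lit 1)),
  ((nat_lit 130), (nat_lit 2)),
  ((nat_lit 166), (nat_lit 1)),
  ((nat_lit 131), (nat_lit 2)),
  ((nat_lit 150), (nat_lit 0)),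
  ((nat_lit 167), (nat_lit 0)),
  ((nat_lit 183), (nat_lit 0)),
  ((nat_lit 185), (nat_lit 3)),
  ((nat_lit 185), (nat_lit 0)),
  ((nat_lit 149), (nat_lit 0)),
  ((nat_lit 176), (nat_lit 2)),
  ((nat_lit 176), (nat_lit 1)),
  ((nat_lit 174), (nat_lit 2)),
  ((nat_lit 174), (nat_lit 1)),
  ((nat_lit 174), (nat_lit 0)),
  ((nat_lit 144), (nat_lit 1)),
  ((nat_lit 186), (nat_lit 2)),
  ((nat_lit 186), (nat_lit 1)),
  ((nat_lit 186), (nat_lit 0)),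
  ((nat_lit 191), (nat_lit 3)),
  ((nat_lit 191), (nat_lit 1)),
  ((nat_lit 191), (nat_lit 0)),
  ((nat_lit 160), (nat_lit 2)),
  ((nat_lit 132), (nat_lit 2)),
  ((nat_lit 132), (nat_lit 1)),
  ((nat_lit 132), (nat_lit 0)),
  ((nat_lit 182), (nat_lit 3)),
  ((nat_lit 182), (nat_lit 2)),
  ((nat_lit 182), (nat_lit 0)),
  ((nat_lit 140), (nat_lit 2)),
  ((nat_lit 140), (nat_lit 1)),
  ((nat_lit 140), (nat_lit 0)),
  ((nat_lit 129), (nat_lit 2)),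
  ((nat_lit 129), (nat_lit 1))]),
  ((nat_lit 133), [((nat_lit 168), (nat_lit 1)),
  ((nat_lit 177), (nat_lit 1)),
  ((nat_lit 139), (nat_lit 2)),
  ((nat_lit 184), (nat_lit 1)),
  ((nat_lit 152), (nat_lit 1)),
  ((nat_lit 172), (nat_lit 2)),
  ((nat_lit 179), (nat_lit 1)),
  ((nat_lit 164), (nat_lit 0)),
  ((nat_lit 161), (nat_lit 3)),
  ((nat_lit 161), (nat_lit 2)),
  ((nat_lit 180), (nat_lit 2)),
  ((nat_lit 180), (nat_lit 1)),
  ((nat_lit 180), (nat_lit 0)),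
  ((nat_lit 156), (nat_lit 2)),
  ((nat_lit 141), (nat_lit 1)),
  ((nat_lit 163), (nat_lit 3)),
  ((nat_lit 163), (nat_lit 2)),
  ((nat_lit 188), (nat_lit 3)),
  ((nat_lit 188), (nat_lit 2)),
  ((nat_lit 188), (nat_lit 1)),
  ((nat_lit 188), (nat_lit 0)),
  ((nat_lit 137), (nat_lit 1)),
  ((nat_lit 133), (nat_lit 3)),
  ((nat_lit 133), (nat_lit 2)),
  ((nat_lit 133), (nat_lit 1)),
  ((nat_lit 133), (nat_lit 0))]),
  ((nat_lit 192), []),
  ((nat_lit 193), [((nat_lit 253), (nat_lit 2)),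
  ((nat_lit 217), (nat_lit 1)),
  ((nat_lit 194), (nat_lit 2)),
  ((nat_lit 230), (nat_lit 1)),
  ((nat_lit 195), (nat_lit 2)),
  ((nat_lit 214), (nat_lit 0)),
  ((nat_lit 231), (nat_lit 0)),
  ((nat_lit 247), (nat_lit 0)),
  ((nat_lit 249), (nat_lit 3)),
  ((nat_lit 249), (nat_lit 0)),
  ((nat_lit 213), (nat_lit 0)),
  ((nat_lit 240), (nat_lit 2)),
  ((nat_lit 240), (nat_lit 1)),
  ((nat_lit 238), (nat_lit 2)),
  ((nat_lit 238), (nat_lit 1)),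
  ((nat_lit 238), (nat_lit 0)),
  ((nat_lit 208), (nat_lit 1)),
  ((nat_lit 250), (nat_lit 2)),
  ((nat_lit 250), (nat_lit 1)),
  ((nat_lit 250), (nat_lit 0)),
  ((nat_lit 255), (nat_lit 3)),
  ((nat_lit 255), (nat_lit 1)),
  ((nat_lit 255), (nat_lit 0)),
  ((nat_lit 224), (nat_lit 2)),
  ((nat_lit 196), (nat_lit 2)),
  ((nat_lit 196), (nat_lit 1)),
  ((nat_lit 196), (nat_lit 0)),
  ((nat_lit 246), (nat_lit 3)),
  ((nat_lit 246), (nat_lit 2)),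
  ((nat_lit 246), (nat_lit 0)),
  ((nat_lit 204), (nat_lit 2)),
  ((nat_lit 204), (nat_lit 1)),
  ((nat_lit 204), (nat_lit 0)),
  ((nat_lit 193), (nat_lit 2)),
  ((nat_lit 193), (nat_lit 1))]),
  ((nat_lit 197), [((nat_lit 232), (nat_lit 1)),
  ((nat_lit 241), (nat_lit 1)),
  ((nat_lit 203), (nat_lit 2)),
  ((nat_lit 248), (nat_lit 1)),
  ((nat_lit 216), (nat_lit 1)),
  ((nat_lit 236), (nat_lit 2)),
  ((nat_lit 243), (nat_lit 1)),
  ((nat_lit 228), (nat_lit 0)),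
  ((nat_lit 225), (nat_lit 3)),
  ((nat_lit 225), (nat_lit 2)),
  ((nat_lit 244), (nat_lit 2)),
  ((nat_lit 244), (nat_lit 1)),
  ((nat_lit 244), (nat_lit 0)),
  ((nat_lit 220), (nat_lit 2)),
  ((nat_lit 205), (nat_lit 1)),
  ((nat_lit 227), (nat_lit 3)),
  ((nat_lit 227), (nat_lit 2)),
  ((nat_lit 252), (nat_lit 3)),
  ((nat_lit 252), (nat_lit 2)),
  ((nat_lit 252), (nat_lit 1)),
  ((nat_lit 252), (nat_lit 0)),
  ((nat_lit 201), (nat_lit 1)),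
  ((nat_lit 197), (nat_lit 3)),
  ((nat_lit 197), (nat_lit 2)),
  ((nat_lit 197), (nat_lit 1)),
  ((nat_lit 197), (nat_lit 0))])]),
  ([(nat_lit 0x40c03020040c0302),
  (nat_lit 0x804001031030040c),
  (nat_lit 0x804039272a151b36),
  (nat_lit 0x2010c0810308040)], [(nat_lit 0x111e111e111eeee1111e111e111eeee1111e111e111eeee1eee1eee1eee1111e)], [((nat_lit 0), []),
  ((nat_lit 1), [((nat_lit 115), (nat_lit 3)),
  ((nat_lit 104), (nat_lit 1)),
  ((nat_lit 161), (nat_lit 2)),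
  ((nat_lit 82), (nat_lit 3)),
  ((nat_lit 212), (nat_lit 1)),
  ((nat_lit 168), (nat_lit 1)),
  ((nat_lit 148), (nat_lit 1)),
  ((nat_lit 210), (nat_lit 1)),
  ((nat_lit 135), (nat_lit 3)),
  ((nat_lit 152), (nat_lit 2)),
  ((nat_lit 152), (nat_lit 1)),
  ((nat_lit 69), (nat_lit 3)),
  ((nat_lit 133), (nat_lit 0)),
  ((nat_lit 134), (nat_lit 2)),
  ((nat_lit 134), (nat_lit 0)),
  ((nat_lit 83), (nat_lit 2)),
  ((nat_lit 99), (nat_lit 1)),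
  ((nat_lit 252), (nat_lit 1)),
  ((nat_lit 209), (nat_lit 1)),
  ((nat_lit 116), (nat_lit 2)),
  ((nat_lit 220), (nat_lit 1)),
  ((nat_lit 236), (nat_lit 2)),
  ((nat_lit 236), (nat_lit 1)),
  ((nat_lit 241), (nat_lit 3)),
  ((nat_lit 241), (nat_lit 1)),
  ((nat_lit 241), (nat_lit 0)),
  ((nat_lit 188), (nat_lit 1)),
  ((nat_lit 88), (nat_lit 2)),
  ((nat_lit 84), (nat_lit 2)),
  ((nat_lit 84), (nat_lit 1)),
  ((nat_lit 22), (nat_lit 3)),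
  ((nat_lit 156), (nat_lit 1)),
  ((nat_lit 156), (nat_lit 0)),
  ((nat_lit 55), (nat_lit 3)),
  ((nat_lit 205), (nat_lit 2)),
  ((nat_lit 205), (nat_lit 0)),
  ((nat_lit 211), (nat_lit 2)),
  ((nat_lit 211), (nat_lit 1)),
  ((nat_lit 211), (nat_lit 0)),
  ((nat_lit 164), (nat_lit 1)),
  ((nat_lit 124), (nat_lit 1)),
  ((nat_lit 61), (nat_lit 3)),
  ((nat_lit 120), (nat_lit 1)),
  ((nat_lit 120), (nat_lit 0)),
  ((nat_lit 46), (nat_lit 3)),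
  ((nat_lit 30), (nat_lit 3)),
  ((nat_lit 108), (nat_lit 2)),
  ((nat_lit 108), (nat_lit 1)),
  ((nat_lit 108), (nat_lit 0)),
  ((nat_lit 58), (nat_lit 3)),
  ((nat_lit 58), (nat_lit 2)),
  ((nat_lit 58), (nat_lit 0)),
  ((nat_lit 139), (nat_lit 3)),
  ((nat_lit 139), (nat_lit 2)),
  ((nat_lit 139), (nat_lit 1)),
  ((nat_lit 139), (nat_lit 0)),
  ((nat_lit 178), (nat_lit 2)),
  ((nat_lit 178), (nat_lit 1)),
  ((nat_lit 178), (nat_lit 0)),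
  ((nat_lit 92), (nat_lit 1)),
  ((nat_lit 39), (nat_lit 3)),
  ((nat_lit 232), (nat_lit 1)),
  ((nat_lit 53), (nat_lit 3)),
  ((nat_lit 43), (nat_lit 3)),
  ((nat_lit 41), (nat_lit 1)),
  ((nat_lit 228), (nat_lit 2)),
  ((nat_lit 228), (nat_lit 1)),
  ((nat_lit 228), (nat_lit 0)),
  ((nat_lit 25), (nat_lit 3)),
  ((nat_lit 25), (nat_lit 2)),
  ((nat_lit 25), (nat_lit 0)),
  ((nat_lit 57), (nat_lit 3)),
  ((nat_lit 57), (nat_lit 0)),
  ((nat_lit 42), (nat_lit 3)),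
  ((nat_lit 42), (nat_lit 0)),
  ((nat_lit 216), (nat_lit 2)),
  ((nat_lit 216), (nat_lit 1)),
  ((nat_lit 216), (nat_lit 0)),
  ((nat_lit 37), (nat_lit 3)),
  ((nat_lit 37), (nat_lit 2)),
  ((nat_lit 37), (nat_lit 1)),
  ((nat_lit 37), (nat_lit 0)),
  ((nat_lit 21), (nat_lit 3)),
  ((nat_lit 21), (nat_lit 0)),
  ((nat_lit 48), (nat_lit 2)),
  ((nat_lit 45), (nat_lit 3)),
  ((nat_lit 45), (nat_lit 0)),
  ((nat_lit 180), (nat_lit 2)),
  ((nat_lit 180), (nat_lit 1)),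
  ((nat_lit 180), (nat_lit 0)),
  ((nat_lit 16), (nat_lit 2)),
  ((nat_lit 31), (nat_lit 3)),
  ((nat_lit 31), (nat_lit 2)),
  ((nat_lit 31), (nat_lit 1)),
  ((nat_lit 31), (nat_lit 0)),
  ((nat_lit 63), (nat_lit 3)),
  ((nat_lit 63), (nat_lit 0)),
  ((nat_lit 32), (nat_lit 2)),
  ((nat_lit 8), (nat_lit 2)),
  ((nat_lit 27), (nat_lit 3)),
  ((nat_lit 27), (nat_lit 0)),
  ((nat_lit 4), (nat_lit 2)),
  ((nat_lit 4), (nat_lit 1)),
  ((nat_lit 3), (nat_lit 2)),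
  ((nat_lit 64), (nat_lit 0)),
  ((nat_lit 54), (nat_lit 3)),
  ((nat_lit 54), (nat_lit 2)),
  ((nat_lit 54), (nat_lit 0)),
  ((nat_lit 12), (nat_lit 2)),
  ((nat_lit 12), (nat_lit 1)),
  ((nat_lit 12), (nat_lit 0)),
  ((nat_lit 2), (nat_lit 3)),
  ((nat_lit 2), (nat_lit 2)),
  ((nat_lit 2), (nat_lit 1)),
  ((nat_lit 2), (nat_lit 0)),
  ((nat_lit 1), (nat_lit 3)),
  ((nat_lit 1), (nat_lit 2)),
  ((nat_lit 1), (nat_lit 1)),
  ((nat_lit 1), (nat_lit 0))]),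
  ((nat_lit 5), [((nat_lit 149), (nat_lit 0)),
  ((nat_lit 106), (nat_lit 0)),
  ((nat_lit 213), (nat_lit 3)),
  ((nat_lit 131), (nat_lit 2)),
  ((nat_lit 167), (nat_lit 0)),
  ((nat_lit 105), (nat_lit 2)),
  ((nat_lit 105), (nat_lit 1)),
  ((nat_lit 119), (nat_lit 1)),
  ((nat_lit 119), (nat_lit 0)),
  ((nat_lit 95), (nat_lit 2)),
  ((nat_lit 95), (nat_lit 0)),
  ((nat_lit 222), (nat_lit 0)),
  ((nat_lit 194), (nat_lit 2)),
  ((nat_lit 165), (nat_lit 0)),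
  ((nat_lit 157), (nat_lit 1)),
  ((nat_lit 121), (nat_lit 0)),
  ((nat_lit 253), (nat_lit 2)),
  ((nat_lit 253), (nat_lit 0)),
  ((nat_lit 223), (nat_lit 2)),
  ((nat_lit 254), (nat_lit 2)),
  ((nat_lit 217), (nat_lit 2)),
  ((nat_lit 217), (nat_lit 0)),
  ((nat_lit 229), (nat_lit 2)),
  ((nat_lit 229), (nat_lit 0)),
  ((nat_lit 189), (nat_lit 2)),
  ((nat_lit 189), (nat_lit 1)),
  ((nat_lit 237), (nat_lit 3)),
  ((nat_lit 237), (nat_lit 0)),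
  ((nat_lit 234), (nat_lit 0)),
  ((nat_lit 153), (nat_lit 3)),
  ((nat_lit 153), (nat_lit 2)),
  ((nat_lit 153), (nat_lit 1)),
  ((nat_lit 153), (nat_lit 0)),
  ((nat_lit 249), (nat_lit 3)),
  ((nat_lit 249), (nat_lit 0)),
  ((nat_lit 193), (nat_lit 2)),
  ((nat_lit 85), (nat_lit 0)),
  ((nat_lit 132), (nat_lit 2)),
  ((nat_lit 191), (nat_lit 3)),
  ((nat_lit 191), (nat_lit 0)),
  ((nat_lit 72), (nat_lit 2)),
  ((nat_lit 196), (nat_lit 2)),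
  ((nat_lit 130), (nat_lit 2)),
  ((nat_lit 158), (nat_lit 2)),
  ((nat_lit 158), (nat_lit 1)),
  ((nat_lit 158), (nat_lit 0)),
  ((nat_lit 86), (nat_lit 2)),
  ((nat_lit 86), (nat_lit 1)),
  ((nat_lit 86), (nat_lit 0)),
  ((nat_lit 182), (nat_lit 0)),
  ((nat_lit 240), (nat_lit 2)),
  ((nat_lit 240), (nat_lit 1)),
  ((nat_lit 169), (nat_lit 2)),
  ((nat_lit 169), (nat_lit 1)),
  ((nat_lit 169), (nat_lit 0)),
  ((nat_lit 67), (nat_lit 2)),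
  ((nat_lit 103), (nat_lit 2)),
  ((nat_lit 103), (nat_lit 1)),
  ((nat_lit 103), (nat_lit 0)),
  ((nat_lit 235), (nat_lit 3)),
  ((nat_lit 235), (nat_lit 2)),
  ((nat_lit 235), (nat_lit 0)),
  ((nat_lit 91), (nat_lit 3)),
  ((nat_lit 91), (nat_lit 0)),
  ((nat_lit 231), (nat_lit 0)),
  ((nat_lit 195), (nat_lit 2)),
  ((nat_lit 255), (nat_lit 1)),
  ((nat_lit 255), (nat_lit 0)),
  ((nat_lit 224), (nat_lit 2)),
  ((nat_lit 224), (nat_lit 1)),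
  ((nat_lit 136), (nat_lit 2)),
  ((nat_lit 136), (nat_lit 1)),
  ((nat_lit 6), (nat_lit 3)),
  ((nat_lit 68), (nat_lit 2)),
  ((nat_lit 40), (nat_lit 0)),
  ((nat_lit 76), (nat_lit 2)),
  ((nat_lit 50), (nat_lit 3)),
  ((nat_lit 140), (nat_lit 2)),
  ((nat_lit 140), (nat_lit 0)),
  ((nat_lit 51), (nat_lit 3)),
  ((nat_lit 51), (nat_lit 0)),
  ((nat_lit 13), (nat_lit 3)),
  ((nat_lit 19), (nat_lit 3)),
  ((nat_lit 19), (nat_lit 2)),
  ((nat_lit 185), (nat_lit 2)),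
  ((nat_lit 185), (nat_lit 1)),
  ((nat_lit 185), (nat_lit 0)),
  ((nat_lit 129), (nat_lit 2)),
  ((nat_lit 7), (nat_lit 3)),
  ((nat_lit 94), (nat_lit 3)),
  ((nat_lit 94), (nat_lit 2)),
  ((nat_lit 94), (nat_lit 1)),
  ((nat_lit 94), (nat_lit 0)),
  ((nat_lit 66), (nat_lit 2)),
  ((nat_lit 208), (nat_lit 2)),
  ((nat_lit 208), (nat_lit 1)),
  ((nat_lit 204), (nat_lit 2)),
  ((nat_lit 204), (nat_lit 1)),
  ((nat_lit 204), (nat_lit 0)),
  ((nat_lit 20), (nat_lit 3)),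
  ((nat_lit 9), (nat_lit 3)),
  ((nat_lit 9), (nat_lit 1)),
  ((nat_lit 9), (nat_lit 0)),
  ((nat_lit 49), (nat_lit 3)),
  ((nat_lit 49), (nat_lit 2)),
  ((nat_lit 49), (nat_lit 0)),
  ((nat_lit 33), (nat_lit 3)),
  ((nat_lit 33), (nat_lit 2)),
  ((nat_lit 33), (nat_lit 0)),
  ((nat_lit 34), (nat_lit 3)),
  ((nat_lit 34), (nat_lit 0)),
  ((nat_lit 24), (nat_lit 2)),
  ((nat_lit 24), (nat_lit 1)),
  ((nat_lit 160), (nat_lit 2)),
  ((nat_lit 160), (nat_lit 1)),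
  ((nat_lit 36), (nat_lit 2)),
  ((nat_lit 11), (nat_lit 2)),
  ((nat_lit 112), (nat_lit 2)),
  ((nat_lit 112), (nat_lit 1)),
  ((nat_lit 112), (nat_lit 0)),
  ((nat_lit 35), (nat_lit 3)),
  ((nat_lit 35), (nat_lit 2)),
  ((nat_lit 35), (nat_lit 1)),
  ((nat_lit 35), (nat_lit 0)),
  ((nat_lit 60), (nat_lit 2)),
  ((nat_lit 60), (nat_lit 1)),
  ((nat_lit 60), (nat_lit 0)),
  ((nat_lit 14), (nat_lit 3)),
  ((nat_lit 14), (nat_lit 1)),
  ((nat_lit 14), (nat_lit 0)),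
  ((nat_lit 5), (nat_lit 3)),
  ((nat_lit 5), (nat_lit 2)),
  ((nat_lit 5), (nat_lit 1)),
  ((nat_lit 5), (nat_lit 0))])])]
noncomputable def QD5 : List (List ℕ × List ℕ × List (ℕ × List (ℕ × ℕ))) := [([(nat_lit 0x804020100c080201),
  (nat_lit 0x804001031030040c),
  (nat_lit 0x804039272a151b36),
  (nat_lit 0x80403010080c0201),
  (nat_lit 0x80402010080c0201)], [(nat_lit 0xeee1eee1eee1111eeee1eee1eee1111e111e111e111eeee1eee1eee1eee1111e),
  (nat_lit 0xeee1eee1eee1111e111e111e111eeee1eee1eee1eee1111eeee1eee1eee1111e),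
  (nat_lit 0x111e111e111eeee1eee1eee1eee1111eeee1eee1eee1111eeee1eee1eee1111e),
  (nat_lit 0x111e111e111eeee1111e111e111eeee1111e111e111eeee1eee1eee1eee1111e)], [((nat_lit 0), []),
  ((nat_lit 1), [((nat_lit 61), (nat_lit 2)),
  ((nat_lit 25), (nat_lit 1)),
  ((nat_lit 2), (nat_lit 2)),
  ((nat_lit 38), (nat_lit 1)),
  ((nat_lit 3), (nat_lit 2)),
  ((nat_lit 22), (nat_lit 0)),
  ((nat_lit 39), (nat_lit 0)),
  ((nat_lit 55), (nat_lit 0)),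
  ((nat_lit 57), (nat_lit 3)),
  ((nat_lit 57), (nat_lit 0)),
  ((nat_lit 21), (nat_lit 0)),
  ((nat_lit 48), (nat_lit 2)),
  ((nat_lit 48), (nat_lit 1)),
  ((nat_lit 46), (nat_lit 2)),
  ((nat_lit 46), (nat_lit 1)),
  ((nat_lit 46), (nat_lit 0)),
  ((nat_lit 16), (nat_lit 1)),
  ((nat_lit 58), (nat_lit 2)),
  ((nat_lit 58), (nat_lit 1)),
  ((nat_lit 63), (nat_lit 3)),
  ((nat_lit 63), (nat_lit 1)),
  ((nat_lit 63), (nat_lit 0)),
  ((nat_lit 32), (nat_lit 2)),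
  ((nat_lit 4), (nat_lit 2)),
  ((nat_lit 4), (nat_lit 1)),
  ((nat_lit 4), (nat_lit 0)),
  ((nat_lit 54), (nat_lit 4)),
  ((nat_lit 54), (nat_lit 3)),
  ((nat_lit 54), (nat_lit 2)),
  ((nat_lit 54), (nat_lit 0)),
  ((nat_lit 12), (nat_lit 2)),
  ((nat_lit 12), (nat_lit 1)),
  ((nat_lit 12), (nat_lit 0)),
  ((nat_lit 1), (nat_lit 2)),
  ((nat_lit 1), (nat_lit 1))]),
  ((nat_lit 5), [((nat_lit 40), (nat_lit 1)),
  ((nat_lit 49), (nat_lit 1)),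
  ((nat_lit 11), (nat_lit 2)),
  ((nat_lit 56), (nat_lit 1)),
  ((nat_lit 24), (nat_lit 1)),
  ((nat_lit 44), (nat_lit 2)),
  ((nat_lit 51), (nat_lit 1)),
  ((nat_lit 36), (nat_lit 0)),
  ((nat_lit 33), (nat_lit 3)),
  ((nat_lit 33), (nat_lit 2)),
  ((nat_lit 52), (nat_lit 2)),
  ((nat_lit 52), (nat_lit 1)),
  ((nat_lit 52), (nat_lit 0)),
  ((nat_lit 28), (nat_lit 2)),
  ((nat_lit 13), (nat_lit 1)),
  ((nat_lit 35), (nat_lit 3)),
  ((nat_lit 35), (nat_lit 2)),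
  ((nat_lit 60), (nat_lit 3)),
  ((nat_lit 60), (nat_lit 2)),
  ((nat_lit 60), (nat_lit 1)),
  ((nat_lit 60), (nat_lit 0)),
  ((nat_lit 9), (nat_lit 1)),
  ((nat_lit 5), (nat_lit 3)),
  ((nat_lit 5), (nat_lit 2)),
  ((nat_lit 5), (nat_lit 1)),
  ((nat_lit 5), (nat_lit 0))]),
  ((nat_lit 64), []),
  ((nat_lit 65), [((nat_lit 125), (nat_lit 2)),
  ((nat_lit 89), (nat_lit 1)),
  ((nat_lit 66), (nat_lit 2)),
  ((nat_lit 102), (nat_lit 1)),
  ((nat_lit 67), (nat_lit 2)),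
  ((nat_lit 86), (nat_lit 0)),
  ((nat_lit 103), (nat_lit 0)),
  ((nat_lit 119), (nat_lit 0)),
  ((nat_lit 121), (nat_lit 3)),
  ((nat_lit 121), (nat_lit 0)),
  ((nat_lit 85), (nat_lit 0)),
  ((nat_lit 112), (nat_lit 2)),
  ((nat_lit 112), (nat_lit 1)),
  ((nat_lit 110), (nat_lit 2)),
  ((nat_lit 110), (nat_lit 1)),
  ((nat_lit 110), (nat_lit 0)),
  ((nat_lit 80), (nat_lit 1)),
  ((nat_lit 122), (nat_lit 2)),
  ((nat_lit 122), (nat_lit 1)),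
  ((nat_lit 127), (nat_lit 3)),
  ((nat_lit 127), (nat_lit 1)),
  ((nat_lit 127), (nat_lit 0)),
  ((nat_lit 96), (nat_lit 2)),
  ((nat_lit 68), (nat_lit 2)),
  ((nat_lit 68), (nat_lit 1)),
  ((nat_lit 68), (nat_lit 0)),
  ((nat_lit 118), (nat_lit 4)),
  ((nat_lit 118), (nat_lit 3)),
  ((nat_lit 118), (nat_lit 2)),
  ((nat_lit 118), (nat_lit 0)),
  ((nat_lit 76), (nat_lit 2)),
  ((nat_lit 76), (nat_lit 1)),
  ((nat_lit 76), (nat_lit 0)),
  ((nat_lit 65), (nat_lit 2)),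
  ((nat_lit 65), (nat_lit 1))]),
  ((nat_lit 69), [((nat_lit 104), (nat_lit 1)),
  ((nat_lit 113), (nat_lit 1)),
  ((nat_lit 75), (nat_lit 2)),
  ((nat_lit 120), (nat_lit 1)),
  ((nat_lit 88), (nat_lit 1)),
  ((nat_lit 108), (nat_lit 2)),
  ((nat_lit 115), (nat_lit 1)),
  ((nat_lit 100), (nat_lit 0)),
  ((nat_lit 97), (nat_lit 3)),
  ((nat_lit 97), (nat_lit 2)),
  ((nat_lit 116), (nat_lit 2)),
  ((nat_lit 116), (nat_lit 1)),
  ((nat_lit 116), (nat_lit 0)),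
  ((nat_lit 92), (nat_lit 2)),
  ((nat_lit 77), (nat_lit 1)),
  ((nat_lit 99), (nat_lit 3)),
  ((nat_lit 99), (nat_lit 2)),
  ((nat_lit 124), (nat_lit 3)),
  ((nat_lit 124), (nat_lit 2)),
  ((nat_lit 124), (nat_lit 1)),
  ((nat_lit 124), (nat_lit 0)),
  ((nat_lit 73), (nat_lit 1)),
  ((nat_lit 69), (nat_lit 3)),
  ((nat_lit 69), (nat_lit 2)),
  ((nat_lit 69), (nat_lit 1)),
  ((nat_lit 69), (nat_lit 0))]),
  ((nat_lit 128), []),
  ((nat_lit 129), [((nat_lit 189), (nat_lit 2)),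
  ((nat_lit 153), (nat_lit 1)),
  ((nat_lit 130), (nat_lit 2)),
  ((nat_lit 166), (nat_lit 1)),
  ((nat_lit 131), (nat_lit 2)),
  ((nat_lit 150), (nat_lit 0)),
  ((nat_lit 167), (nat_lit 0)),
  ((nat_lit 183), (nat_lit 0)),
  ((nat_lit 185), (nat_lit 3)),
  ((nat_lit 185), (nat_lit 0)),
  ((nat_lit 149), (nat_lit 0)),
  ((nat_lit 176), (nat_lit 2)),
  ((nat_lit 176), (nat_lit 1)),
  ((nat_lit 174), (nat_lit 2)),
  ((nat_lit 174), (nat_lit 1)),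
  ((nat_lit 174), (nat_lit 0)),
  ((nat_lit 144), (nat_lit 1)),
  ((nat_lit 186), (nat_lit 2)),
  ((nat_lit 186), (nat_lit 1)),
  ((nat_lit 191), (nat_lit 3)),
  ((nat_lit 191), (nat_lit 1)),
  ((nat_lit 191), (nat_lit 0)),
  ((nat_lit 160), (nat_lit 2)),
  ((nat_lit 132), (nat_lit 2)),
  ((nat_lit 132), (nat_lit 1)),
  ((nat_lit 132), (nat_lit 0)),
  ((nat_lit 182), (nat_lit 4)),
  ((nat_lit 182), (nat_lit 3)),
  ((nat_lit 182), (nat_lit 2)),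
  ((nat_lit 182), (nat_lit 0)),
  ((nat_lit 140), (nat_lit 2)),
  ((nat_lit 140), (nat_lit 1)),
  ((nat_lit 140), (nat_lit 0)),
  ((nat_lit 129), (nat_lit 2)),
  ((nat_lit 129), (nat_lit 1))]),
  ((nat_lit 133), [((nat_lit 168), (nat_lit 1)),
  ((nat_lit 177), (nat_lit 1)),
  ((nat_lit 139), (nat_lit 2)),
  ((nat_lit 184), (nat_lit 1)),
  ((nat_lit 152), (nat_lit 1)),
  ((nat_lit 172), (nat_lit 2)),
  ((nat_lit 179), (nat_lit 1)),
  ((nat_lit 164), (nat_lit 0)),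
  ((nat_lit 161), (nat_lit 3)),
  ((nat_lit 161), (nat_lit 2)),
  ((nat_lit 180), (nat_lit 2)),
  ((nat_lit 180), (nat_lit 1)),
  ((nat_lit 180), (nat_lit 0)),
  ((nat_lit 156), (nat_lit 2)),
  ((nat_lit 141), (nat_lit 1)),
  ((nat_lit 163), (nat_lit 3)),
  ((nat_lit 163), (nat_lit 2)),
  ((nat_lit 188), (nat_lit 3)),
  ((nat_lit 188), (nat_lit 2)),
  ((nat_lit 188), (nat_lit 1)),
  ((nat_lit 188), (nat_lit 0)),
  ((nat_lit 137), (nat_lit 1)),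
  ((nat_lit 133), (nat_lit 3)),
  ((nat_lit 133), (nat_lit 2)),
  ((nat_lit 133), (nat_lit 1)),
  ((nat_lit 133), (nat_lit 0))]),
  ((nat_lit 192), []),
  ((nat_lit 193), [((nat_lit 253), (nat_lit 2)),
  ((nat_lit 217), (nat_lit 1)),
  ((nat_lit 194), (nat_lit 2)),
  ((nat_lit 230), (nat_lit 1)),
  ((nat_lit 195), (nat_lit 2)),
  ((nat_lit 214), (nat_lit 0)),
  ((nat_lit 231), (nat_lit 0)),
  ((nat_lit 247), (nat_lit 0)),
  ((nat_lit 249), (nat_lit 3)),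
  ((nat_lit 249), (nat_lit 0)),
  ((nat_lit 213), (nat_lit 0)),
  ((nat_lit 240), (nat_lit 2)),
  ((nat_lit 240), (nat_lit 1)),
  ((nat_lit 238), (nat_lit 2)),
  ((nat_lit 238), (nat_lit 1)),
  ((nat_lit 238), (nat_lit 0)),
  ((nat_lit 208), (nat_lit 1)),
  ((nat_lit 250), (nat_lit 2)),
  ((nat_lit 250), (nat_lit 1)),
  ((nat_lit 255), (nat_lit 3)),
  ((nat_lit 255), (nat_lit 1)),
  ((nat_lit 255), (nat_lit 0)),
  ((nat_lit 224), (nat_lit 2)),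
  ((nat_lit 196), (nat_lit 2)),
  ((nat_lit 196), (nat_lit 1)),
  ((nat_lit 196), (nat_lit 0)),
  ((nat_lit 246), (nat_lit 4)),
  ((nat_lit 246), (nat_lit 3)),
  ((nat_lit 246), (nat_lit 2)),
  ((nat_lit 246), (nat_lit 0)),
  ((nat_lit 204), (nat_lit 2)),
  ((nat_lit 204), (nat_lit 1)),
  ((nat_lit 204), (nat_lit 0)),
  ((nat_lit 193), (nat_lit 2)),
  ((nat_lit 193), (nat_lit 1))]),
  ((nat_lit 197), [((nat_lit 232), (nat_lit 1)),
  ((nat_lit 241), (nat_lit 1)),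
  ((nat_lit 203), (nat_lit 2)),
  ((nat_lit 248), (nat_lit 1)),
  ((nat_lit 216), (nat_lit 1)),
  ((nat_lit 236), (nat_lit 2)),
  ((nat_lit 243), (nat_lit 1)),
  ((nat_lit 228), (nat_lit 0)),
  ((nat_lit 225), (nat_lit 3)),
  ((nat_lit 225), (nat_lit 2)),
  ((nat_lit 244), (nat_lit 2)),
  ((nat_lit 244), (nat_lit 1)),
  ((nat_lit 244), (nat_lit 0)),
  ((nat_lit 220), (nat_lit 2)),
  ((nat_lit 205), (nat_lit 1)),
  ((nat_lit 227), (nat_lit 3)),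
  ((nat_lit 227), (nat_lit 2)),
  ((nat_lit 252), (nat_lit 3)),
  ((nat_lit 252), (nat_lit 2)),
  ((nat_lit 252), (nat_lit 1)),
  ((nat_lit 252), (nat_lit 0)),
  ((nat_lit 201), (nat_lit 1)),
  ((nat_lit 197), (nat_lit 3)),
  ((nat_lit 197), (nat_lit 2)),
  ((nat_lit 197), (nat_lit 1)),
  ((nat_lit 197), (nat_lit 0))])]),
  ([(nat_lit 0x804020100c080201),
  (nat_lit 0x804001031030040c),
  (nat_lit 0x804039272a151b36),
  (nat_lit 0x80403010080c0201),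
  (nat_lit 0xc0402010080c0201)], [(nat_lit 0xeee1eee1eee1111eeee1eee1eee1111e111e111e111eeee1eee1eee1eee1111e),
  (nat_lit 0x111e111e111eeee1111e111e111eeee1111e111e111eeee1eee1eee1eee1111e)], [((nat_lit 0), []),
  ((nat_lit 1), [((nat_lit 61), (nat_lit 2)),
  ((nat_lit 25), (nat_lit 1)),
  ((nat_lit 2), (nat_lit 2)),
  ((nat_lit 38), (nat_lit 1)),
  ((nat_lit 3), (nat_lit 2)),
  ((nat_lit 22), (nat_lit 0)),
  ((nat_lit 39), (nat_lit 0)),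
  ((nat_lit 55), (nat_lit 0)),
  ((nat_lit 57), (nat_lit 3)),
  ((nat_lit 57), (nat_lit 0)),
  ((nat_lit 21), (nat_lit 0)),
  ((nat_lit 48), (nat_lit 2)),
  ((nat_lit 48), (nat_lit 1)),
  ((nat_lit 46), (nat_lit 2)),
  ((nat_lit 46), (nat_lit 1)),
  ((nat_lit 46), (nat_lit 0)),
  ((nat_lit 16), (nat_lit 1)),
  ((nat_lit 58), (nat_lit 2)),
  ((nat_lit 58), (nat_lit 1)),
  ((nat_lit 63), (nat_lit 3)),
  ((nat_lit 63), (nat_lit 1)),
  ((nat_lit 63), (nat_lit 0)),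
  ((nat_lit 32), (nat_lit 2)),
  ((nat_lit 4), (nat_lit 2)),
  ((nat_lit 4), (nat_lit 1)),
  ((nat_lit 4), (nat_lit 0)),
  ((nat_lit 54), (nat_lit 4)),
  ((nat_lit 54), (nat_lit 3)),
  ((nat_lit 54), (nat_lit 2)),
  ((nat_lit 54), (nat_lit 0)),
  ((nat_lit 12), (nat_lit 2)),
  ((nat_lit 12), (nat_lit 1)),
  ((nat_lit 12), (nat_lit 0)),
  ((nat_lit 1), (nat_lit 2)),
  ((nat_lit 1), (nat_lit 1))]),
  ((nat_lit 5), [((nat_lit 40), (nat_lit 1)),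
  ((nat_lit 49), (nat_lit 1)),
  ((nat_lit 11), (nat_lit 2)),
  ((nat_lit 56), (nat_lit 1)),
  ((nat_lit 24), (nat_lit 1)),
  ((nat_lit 44), (nat_lit 2)),
  ((nat_lit 51), (nat_lit 1)),
  ((nat_lit 36), (nat_lit 0)),
  ((nat_lit 33), (nat_lit 3)),
  ((nat_lit 33), (nat_lit 2)),
  ((nat_lit 52), (nat_lit 2)),
  ((nat_lit 52), (nat_lit 1)),
  ((nat_lit 52), (nat_lit 0)),
  ((nat_lit 28), (nat_lit 2)),
  ((nat_lit 13), (nat_lit 1)),
  ((nat_lit 35), (nat_lit 3)),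
  ((nat_lit 35), (nat_lit 2)),
  ((nat_lit 60), (nat_lit 3)),
  ((nat_lit 60), (nat_lit 2)),
  ((nat_lit 60), (nat_lit 1)),
  ((nat_lit 60), (nat_lit 0)),
  ((nat_lit 9), (nat_lit 1)),
  ((nat_lit 5), (nat_lit 3)),
  ((nat_lit 5), (nat_lit 2)),
  ((nat_lit 5), (nat_lit 1)),
  ((nat_lit 5), (nat_lit 0))]),
  ((nat_lit 64), []),
  ((nat_lit 65), [((nat_lit 125), (nat_lit 2)),
  ((nat_lit 89), (nat_lit 1)),
  ((nat_lit 66), (nat_lit 2)),
  ((nat_lit 102), (nat_lit 1)),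
  ((nat_lit 67), (nat_lit 2)),
  ((nat_lit 86), (nat_lit 0)),
  ((nat_lit 103), (nat_lit 0)),
  ((nat_lit 119), (nat_lit 0)),
  ((nat_lit 121), (nat_lit 3)),
  ((nat_lit 121), (nat_lit 0)),
  ((nat_lit 85), (nat_lit 0)),
  ((nat_lit 112), (nat_lit 2)),
  ((nat_lit 112), (nat_lit 1)),
  ((nat_lit 110), (nat_lit 2)),
  ((nat_lit 110), (nat_lit 1)),
  ((nat_lit 110), (nat_lit 0)),
  ((nat_lit 80), (nat_lit 1)),
  ((nat_lit 122), (nat_lit 2)),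
  ((nat_lit 122), (nat_lit 1)),
  ((nat_lit 127), (nat_lit 3)),
  ((nat_lit 127), (nat_lit 1)),
  ((nat_lit 127), (nat_lit 0)),
  ((nat_lit 96), (nat_lit 2)),
  ((nat_lit 68), (nat_lit 2)),
  ((nat_lit 68), (nat_lit 1)),
  ((nat_lit 68), (nat_lit 0)),
  ((nat_lit 118), (nat_lit 4)),
  ((nat_lit 118), (nat_lit 3)),
  ((nat_lit 118), (nat_lit 2)),
  ((nat_lit 118), (nat_lit 0)),
  ((nat_lit 76), (nat_lit 2)),
  ((nat_lit 76), (nat_lit 1)),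
  ((nat_lit 76), (nat_lit 0)),
  ((nat_lit 65), (nat_lit 2)),
  ((nat_lit 65), (nat_lit 1))]),
  ((nat_lit 69), [((nat_lit 104), (nat_lit 1)),
  ((nat_lit 113), (nat_lit 1)),
  ((nat_lit 75), (nat_lit 2)),
  ((nat_lit 120), (nat_lit 1)),
  ((nat_lit 88), (nat_lit 1)),
  ((nat_lit 108), (nat_lit 2)),
  ((nat_lit 115), (nat_lit 1)),
  ((nat_lit 100), (nat_lit 0)),
  ((nat_lit 97), (nat_lit 3)),
  ((nat_lit 97), (nat_lit 2)),
  ((nat_lit 116), (nat_lit 2)),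
  ((nat_lit 116), (nat_lit 1)),
  ((nat_lit 116), (nat_lit 0)),
  ((nat_lit 92), (nat_lit 2)),
  ((nat_lit 77), (nat_lit 1)),
  ((nat_lit 99), (nat_lit 3)),
  ((nat_lit 99), (nat_lit 2)),
  ((nat_lit 124), (nat_lit 3)),
  ((nat_lit 124), (nat_lit 2)),
  ((nat_lit 124), (nat_lit 1)),
  ((nat_lit 124), (nat_lit 0)),
  ((nat_lit 73), (nat_lit 1)),
  ((nat_lit 69), (nat_lit 3)),
  ((nat_lit 69), (nat_lit 2)),
  ((nat_lit 69), (nat_lit 1)),
  ((nat_lit 69), (nat_lit 0))]),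
  ((nat_lit 128), [((nat_lit 128), (nat_lit 4))]),
  ((nat_lit 129), [((nat_lit 159), (nat_lit 4)),
  ((nat_lit 217), (nat_lit 1)),
  ((nat_lit 194), (nat_lit 2)),
  ((nat_lit 251), (nat_lit 1)),
  ((nat_lit 171), (nat_lit 4)),
  ((nat_lit 249), (nat_lit 0)),
  ((nat_lit 169), (nat_lit 4)),
  ((nat_lit 189), (nat_lit 2)),
  ((nat_lit 153), (nat_lit 1)),
  ((nat_lit 130), (nat_lit 2)),
  ((nat_lit 238), (nat_lit 1)),
  ((nat_lit 230), (nat_lit 1)),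
  ((nat_lit 165), (nat_lit 4)),
  ((nat_lit 166), (nat_lit 1)),
  ((nat_lit 131), (nat_lit 4)),
  ((nat_lit 131), (nat_lit 2)),
  ((nat_lit 250), (nat_lit 1)),
  ((nat_lit 175), (nat_lit 4)),
  ((nat_lit 150), (nat_lit 0)),
  ((nat_lit 213), (nat_lit 0)),
  ((nat_lit 240), (nat_lit 2)),
  ((nat_lit 240), (nat_lit 1)),
  ((nat_lit 247), (nat_lit 0)),
  ((nat_lit 167), (nat_lit 4)),
  ((nat_lit 167), (nat_lit 0)),
  ((nat_lit 170), (nat_lit 4)),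
  ((nat_lit 183), (nat_lit 0)),
  ((nat_lit 185), (nat_lit 4)),
  ((nat_lit 185), (nat_lit 3)),
  ((nat_lit 185), (nat_lit 0)),
  ((nat_lit 149), (nat_lit 4)),
  ((nat_lit 149), (nat_lit 0)),
  ((nat_lit 176), (nat_lit 2)),
  ((nat_lit 176), (nat_lit 1)),
  ((nat_lit 246), (nat_lit 3)),
  ((nat_lit 204), (nat_lit 2)),
  ((nat_lit 174), (nat_lit 4)),
  ((nat_lit 174), (nat_lit 2)),
  ((nat_lit 174), (nat_lit 1)),
  ((nat_lit 174), (nat_lit 0)),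
  ((nat_lit 144), (nat_lit 4)),
  ((nat_lit 144), (nat_lit 1)),
  ((nat_lit 186), (nat_lit 4)),
  ((nat_lit 186), (nat_lit 2)),
  ((nat_lit 186), (nat_lit 1)),
  ((nat_lit 186), (nat_lit 0)),
  ((nat_lit 196), (nat_lit 2)),
  ((nat_lit 196), (nat_lit 1)),
  ((nat_lit 196), (nat_lit 0)),
  ((nat_lit 191), (nat_lit 4)),
  ((nat_lit 191), (nat_lit 3)),
  ((nat_lit 191), (nat_lit 1)),
  ((nat_lit 191), (nat_lit 0)),
  ((nat_lit 160), (nat_lit 4)),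
  ((nat_lit 160), (nat_lit 2)),
  ((nat_lit 132), (nat_lit 2)),
  ((nat_lit 132), (nat_lit 1)),
  ((nat_lit 132), (nat_lit 0)),
  ((nat_lit 193), (nat_lit 2)),
  ((nat_lit 193), (nat_lit 1)),
  ((nat_lit 182), (nat_lit 4)),
  ((nat_lit 182), (nat_lit 3)),
  ((nat_lit 182), (nat_lit 2)),
  ((nat_lit 182), (nat_lit 0)),
  ((nat_lit 140), (nat_lit 4)),
  ((nat_lit 140), (nat_lit 2)),
  ((nat_lit 140), (nat_lit 1)),
  ((nat_lit 140), (nat_lit 0)),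
  ((nat_lit 129), (nat_lit 4)),
  ((nat_lit 129), (nat_lit 2)),
  ((nat_lit 129), (nat_lit 1))]),
  ((nat_lit 133), [((nat_lit 145), (nat_lit 4)),
  ((nat_lit 147), (nat_lit 4)),
  ((nat_lit 134), (nat_lit 4)),
  ((nat_lit 138), (nat_lit 4)),
  ((nat_lit 248), (nat_lit 1)),
  ((nat_lit 168), (nat_lit 4)),
  ((nat_lit 168), (nat_lit 1)),
  ((nat_lit 225), (nat_lit 2)),
  ((nat_lit 177), (nat_lit 4)),
  ((nat_lit 177), (nat_lit 1)),
  ((nat_lit 143), (nat_lit 4)),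
  ((nat_lit 139), (nat_lit 2)),
  ((nat_lit 184), (nat_lit 1)),
  ((nat_lit 152), (nat_lit 4)),
  ((nat_lit 152), (nat_lit 1)),
  ((nat_lit 236), (nat_lit 2)),
  ((nat_lit 172), (nat_lit 4)),
  ((nat_lit 172), (nat_lit 2)),
  ((nat_lit 179), (nat_lit 4)),
  ((nat_lit 179), (nat_lit 1)),
  ((nat_lit 244), (nat_lit 2)),
  ((nat_lit 244), (nat_lit 1)),
  ((nat_lit 244), (nat_lit 0)),
  ((nat_lit 164), (nat_lit 0)),
  ((nat_lit 161), (nat_lit 4)),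
  ((nat_lit 161), (nat_lit 3)),
  ((nat_lit 161), (nat_lit 2)),
  ((nat_lit 162), (nat_lit 4)),
  ((nat_lit 180), (nat_lit 4)),
  ((nat_lit 180), (nat_lit 2)),
  ((nat_lit 180), (nat_lit 1)),
  ((nat_lit 180), (nat_lit 0)),
  ((nat_lit 201), (nat_lit 1)),
  ((nat_lit 156), (nat_lit 4)),
  ((nat_lit 156), (nat_lit 2)),
  ((nat_lit 205), (nat_lit 1)),
  ((nat_lit 141), (nat_lit 4)),
  ((nat_lit 141), (nat_lit 1)),
  ((nat_lit 163), (nat_lit 4)),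
  ((nat_lit 163), (nat_lit 3)),
  ((nat_lit 163), (nat_lit 2)),
  ((nat_lit 188), (nat_lit 4)),
  ((nat_lit 188), (nat_lit 3)),
  ((nat_lit 188), (nat_lit 2)),
  ((nat_lit 188), (nat_lit 1)),
  ((nat_lit 188), (nat_lit 0)),
  ((nat_lit 137), (nat_lit 4)),
  ((nat_lit 137), (nat_lit 1)),
  ((nat_lit 133), (nat_lit 4)),
  ((nat_lit 133), (nat_lit 3)),
  ((nat_lit 133), (nat_lit 2)),
  ((nat_lit 133), (nat_lit 1)),
  ((nat_lit 133), (nat_lit 0))])]),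
  ([(nat_lit 0x40c03020040c0302),
  (nat_lit 0x804001031030040c),
  (nat_lit 0x804039272a151b36),
  (nat_lit 0x2010c0810308040),
  (nat_lit 0x408030140803010)], [(nat_lit 0x111e111e111eeee1111e111e111eeee1111e111e111eeee1eee1eee1eee1111e)], [((nat_lit 0), []),
  ((nat_lit 1), [((nat_lit 210), (nat_lit 1)),
  ((nat_lit 152), (nat_lit 2)),
  ((nat_lit 82), (nat_lit 0)),
  ((nat_lit 22), (nat_lit 3)),
  ((nat_lit 55), (nat_lit 4)),
  ((nat_lit 55), (nat_lit 3)),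
  ((nat_lit 168), (nat_lit 4)),
  ((nat_lit 79), (nat_lit 1)),
  ((nat_lit 242), (nat_lit 1)),
  ((nat_lit 77), (nat_lit 2)),
  ((nat_lit 164), (nat_lit 1)),
  ((nat_lit 147), (nat_lit 2)),
  ((nat_lit 145), (nat_lit 0)),
  ((nat_lit 120), (nat_lit 0)),
  ((nat_lit 46), (nat_lit 4)),
  ((nat_lit 46), (nat_lit 3)),
  ((nat_lit 211), (nat_lit 2)),
  ((nat_lit 211), (nat_lit 0)),
  ((nat_lit 108), (nat_lit 4)),
  ((nat_lit 108), (nat_lit 2)),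
  ((nat_lit 108), (nat_lit 0)),
  ((nat_lit 58), (nat_lit 2)),
  ((nat_lit 163), (nat_lit 1)),
  ((nat_lit 163), (nat_lit 0)),
  ((nat_lit 252), (nat_lit 4)),
  ((nat_lit 61), (nat_lit 2)),
  ((nat_lit 133), (nat_lit 4)),
  ((nat_lit 133), (nat_lit 3)),
  ((nat_lit 133), (nat_lit 0)),
  ((nat_lit 83), (nat_lit 2)),
  ((nat_lit 83), (nat_lit 1)),
  ((nat_lit 134), (nat_lit 2)),
  ((nat_lit 139), (nat_lit 4)),
  ((nat_lit 139), (nat_lit 3)),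
  ((nat_lit 139), (nat_lit 2)),
  ((nat_lit 139), (nat_lit 1)),
  ((nat_lit 139), (nat_lit 0)),
  ((nat_lit 92), (nat_lit 4)),
  ((nat_lit 225), (nat_lit 2)),
  ((nat_lit 232), (nat_lit 1)),
  ((nat_lit 53), (nat_lit 4)),
  ((nat_lit 53), (nat_lit 3)),
  ((nat_lit 43), (nat_lit 4)),
  ((nat_lit 43), (nat_lit 3)),
  ((nat_lit 41), (nat_lit 1)),
  ((nat_lit 226), (nat_lit 1)),
  ((nat_lit 226), (nat_lit 0)),
  ((nat_lit 228), (nat_lit 4)),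
  ((nat_lit 228), (nat_lit 2)),
  ((nat_lit 228), (nat_lit 0)),
  ((nat_lit 25), (nat_lit 4)),
  ((nat_lit 25), (nat_lit 3)),
  ((nat_lit 25), (nat_lit 2)),
  ((nat_lit 25), (nat_lit 0)),
  ((nat_lit 57), (nat_lit 4)),
  ((nat_lit 57), (nat_lit 3)),
  ((nat_lit 57), (nat_lit 0)),
  ((nat_lit 42), (nat_lit 4)),
  ((nat_lit 42), (nat_lit 3)),
  ((nat_lit 42), (nat_lit 0)),
  ((nat_lit 30), (nat_lit 4)),
  ((nat_lit 30), (nat_lit 3)),
  ((nat_lit 97), (nat_lit 2)),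
  ((nat_lit 97), (nat_lit 0)),
  ((nat_lit 216), (nat_lit 4)),
  ((nat_lit 216), (nat_lit 2)),
  ((nat_lit 216), (nat_lit 0)),
  ((nat_lit 37), (nat_lit 4)),
  ((nat_lit 37), (nat_lit 3)),
  ((nat_lit 37), (nat_lit 2)),
  ((nat_lit 37), (nat_lit 0)),
  ((nat_lit 21), (nat_lit 4)),
  ((nat_lit 21), (nat_lit 3)),
  ((nat_lit 21), (nat_lit 0)),
  ((nat_lit 45), (nat_lit 4)),
  ((nat_lit 45), (nat_lit 3)),
  ((nat_lit 45), (nat_lit 0)),
  ((nat_lit 39), (nat_lit 4)),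
  ((nat_lit 39), (nat_lit 3)),
  ((nat_lit 39), (nat_lit 0)),
  ((nat_lit 178), (nat_lit 2)),
  ((nat_lit 178), (nat_lit 0)),
  ((nat_lit 180), (nat_lit 4)),
  ((nat_lit 180), (nat_lit 2)),
  ((nat_lit 180), (nat_lit 0)),
  ((nat_lit 31), (nat_lit 4)),
  ((nat_lit 31), (nat_lit 3)),
  ((nat_lit 31), (nat_lit 2)),
  ((nat_lit 31), (nat_lit 1)),
  ((nat_lit 31), (nat_lit 0)),
  ((nat_lit 63), (nat_lit 4)),
  ((nat_lit 63), (nat_lit 3)),
  ((nat_lit 63), (nat_lit 0)),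
  ((nat_lit 32), (nat_lit 2)),
  ((nat_lit 8), (nat_lit 2)),
  ((nat_lit 48), (nat_lit 2)),
  ((nat_lit 27), (nat_lit 4)),
  ((nat_lit 27), (nat_lit 3)),
  ((nat_lit 27), (nat_lit 0)),
  ((nat_lit 4), (nat_lit 2)),
  ((nat_lit 3), (nat_lit 2)),
  ((nat_lit 16), (nat_lit 2)),
  ((nat_lit 54), (nat_lit 4)),
  ((nat_lit 54), (nat_lit 3)),
  ((nat_lit 54), (nat_lit 0)),
  ((nat_lit 12), (nat_lit 4)),
  ((nat_lit 12), (nat_lit 2)),
  ((nat_lit 12), (nat_lit 1)),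
  ((nat_lit 12), (nat_lit 0)),
  ((nat_lit 2), (nat_lit 4)),
  ((nat_lit 2), (nat_lit 3)),
  ((nat_lit 2), (nat_lit 2)),
  ((nat_lit 2), (nat_lit 1)),
  ((nat_lit 2), (nat_lit 0)),
  ((nat_lit 1), (nat_lit 4)),
  ((nat_lit 1), (nat_lit 3)),
  ((nat_lit 1), (nat_lit 2)),
  ((nat_lit 1), (nat_lit 1)),
  ((nat_lit 1), (nat_lit 0))]),
  ((nat_lit 5), [((nat_lit 214), (nat_lit 2)),
  ((nat_lit 214), (nat_lit 1)),
  ((nat_lit 217), (nat_lit 4)),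
  ((nat_lit 217), (nat_lit 2)),
  ((nat_lit 217), (nat_lit 0)),
  ((nat_lit 238), (nat_lit 2)),
  ((nat_lit 234), (nat_lit 0)),
  ((nat_lit 153), (nat_lit 2)),
  ((nat_lit 153), (nat_lit 1)),
  ((nat_lit 153), (nat_lit 0)),
  ((nat_lit 193), (nat_lit 2)),
  ((nat_lit 165), (nat_lit 4)),
  ((nat_lit 165), (nat_lit 0)),
  ((nat_lit 213), (nat_lit 3)),
  ((nat_lit 213), (nat_lit 0)),
  ((nat_lit 132), (nat_lit 2)),
  ((nat_lit 191), (nat_lit 0)),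
  ((nat_lit 72), (nat_lit 2)),
  ((nat_lit 118), (nat_lit 4)),
  ((nat_lit 253), (nat_lit 0)),
  ((nat_lit 171), (nat_lit 2)),
  ((nat_lit 171), (nat_lit 0)),
  ((nat_lit 158), (nat_lit 4)),
  ((nat_lit 158), (nat_lit 0)),
  ((nat_lit 86), (nat_lit 1)),
  ((nat_lit 86), (nat_lit 0)),
  ((nat_lit 182), (nat_lit 0)),
  ((nat_lit 254), (nat_lit 2)),
  ((nat_lit 254), (nat_lit 1)),
  ((nat_lit 254), (nat_lit 0)),
  ((nat_lit 125), (nat_lit 3)),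
  ((nat_lit 125), (nat_lit 0)),
  ((nat_lit 173), (nat_lit 4)),
  ((nat_lit 173), (nat_lit 3)),
  ((nat_lit 173), (nat_lit 0)),
  ((nat_lit 121), (nat_lit 4)),
  ((nat_lit 121), (nat_lit 0)),
  ((nat_lit 249), (nat_lit 0)),
  ((nat_lit 169), (nat_lit 4)),
  ((nat_lit 169), (nat_lit 1)),
  ((nat_lit 235), (nat_lit 4)),
  ((nat_lit 235), (nat_lit 3)),
  ((nat_lit 235), (nat_lit 0)),
  ((nat_lit 91), (nat_lit 4)),
  ((nat_lit 91), (nat_lit 3)),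
  ((nat_lit 91), (nat_lit 0)),
  ((nat_lit 231), (nat_lit 4)),
  ((nat_lit 231), (nat_lit 0)),
  ((nat_lit 195), (nat_lit 2)),
  ((nat_lit 255), (nat_lit 4)),
  ((nat_lit 255), (nat_lit 1)),
  ((nat_lit 255), (nat_lit 0)),
  ((nat_lit 136), (nat_lit 2)),
  ((nat_lit 28), (nat_lit 4)),
  ((nat_lit 6), (nat_lit 3)),
  ((nat_lit 68), (nat_lit 2)),
  ((nat_lit 40), (nat_lit 0)),
  ((nat_lit 219), (nat_lit 4)),
  ((nat_lit 219), (nat_lit 0)),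
  ((nat_lit 196), (nat_lit 2)),
  ((nat_lit 76), (nat_lit 2)),
  ((nat_lit 50), (nat_lit 3)),
  ((nat_lit 140), (nat_lit 2)),
  ((nat_lit 140), (nat_lit 0)),
  ((nat_lit 51), (nat_lit 0)),
  ((nat_lit 65), (nat_lit 2)),
  ((nat_lit 19), (nat_lit 3)),
  ((nat_lit 222), (nat_lit 4)),
  ((nat_lit 222), (nat_lit 0)),
  ((nat_lit 185), (nat_lit 2)),
  ((nat_lit 185), (nat_lit 1)),
  ((nat_lit 185), (nat_lit 0)),
  ((nat_lit 129), (nat_lit 2)),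
  ((nat_lit 167), (nat_lit 3)),
  ((nat_lit 167), (nat_lit 0)),
  ((nat_lit 131), (nat_lit 2)),
  ((nat_lit 96), (nat_lit 2)),
  ((nat_lit 94), (nat_lit 4)),
  ((nat_lit 94), (nat_lit 3)),
  ((nat_lit 94), (nat_lit 2)),
  ((nat_lit 94), (nat_lit 1)),
  ((nat_lit 94), (nat_lit 0)),
  ((nat_lit 66), (nat_lit 2)),
  ((nat_lit 208), (nat_lit 2)),
  ((nat_lit 208), (nat_lit 1)),
  ((nat_lit 204), (nat_lit 2)),
  ((nat_lit 204), (nat_lit 1)),
  ((nat_lit 204), (nat_lit 0)),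
  ((nat_lit 20), (nat_lit 3)),
  ((nat_lit 9), (nat_lit 3)),
  ((nat_lit 9), (nat_lit 1)),
  ((nat_lit 9), (nat_lit 0)),
  ((nat_lit 49), (nat_lit 3)),
  ((nat_lit 49), (nat_lit 2)),
  ((nat_lit 49), (nat_lit 0)),
  ((nat_lit 194), (nat_lit 2)),
  ((nat_lit 194), (nat_lit 1)),
  ((nat_lit 33), (nat_lit 3)),
  ((nat_lit 33), (nat_lit 2)),
  ((nat_lit 33), (nat_lit 0)),
  ((nat_lit 34), (nat_lit 3)),
  ((nat_lit 34), (nat_lit 0)),
  ((nat_lit 24), (nat_lit 4)),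
  ((nat_lit 24), (nat_lit 2)),
  ((nat_lit 24), (nat_lit 1)),
  ((nat_lit 240), (nat_lit 2)),
  ((nat_lit 160), (nat_lit 2)),
  ((nat_lit 160), (nat_lit 1)),
  ((nat_lit 36), (nat_lit 2)),
  ((nat_lit 11), (nat_lit 2)),
  ((nat_lit 144), (nat_lit 2)),
  ((nat_lit 144), (nat_lit 1)),
  ((nat_lit 144), (nat_lit 0)),
  ((nat_lit 112), (nat_lit 4)),
  ((nat_lit 112), (nat_lit 2)),
  ((nat_lit 112), (nat_lit 1)),
  ((nat_lit 112), (nat_lit 0)),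
  ((nat_lit 35), (nat_lit 3)),
  ((nat_lit 35), (nat_lit 2)),
  ((nat_lit 35), (nat_lit 1)),
  ((nat_lit 35), (nat_lit 0)),
  ((nat_lit 60), (nat_lit 4)),
  ((nat_lit 60), (nat_lit 2)),
  ((nat_lit 60), (nat_lit 1)),
  ((nat_lit 60), (nat_lit 0)),
  ((nat_lit 14), (nat_lit 4)),
  ((nat_lit 14), (nat_lit 3)),
  ((nat_lit 14), (nat_lit 1)),
  ((nat_lit 14), (nat_lit 0)),
  ((nat_lit 5), (nat_lit 4)),
  ((nat_lit 5), (nat_lit 3)),
  ((nat_lit 5), (nat_lit 2)),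
  ((nat_lit 5), (nat_lit 1)),
  ((nat_lit 5), (nat_lit 0))])])]
noncomputable def QD6 : List (List ℕ × List ℕ × List (ℕ × List (ℕ × ℕ))) := [([(nat_lit 0x804020100c080201),
  (nat_lit 0x804001031030040c),
  (nat_lit 0x804039272a151b36),
  (nat_lit 0x80403010080c0201),
  (nat_lit 0x80402010080c0201),
  (nat_lit 0x8040132308043132)], [], [((nat_lit 0), []),
  ((nat_lit 1), [((nat_lit 40), (nat_lit 1)),
  ((nat_lit 56), (nat_lit 1)),
  ((nat_lit 36), (nat_lit 0)),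
  ((nat_lit 11), (nat_lit 2)),
  ((nat_lit 11), (nat_lit 1)),
  ((nat_lit 11), (nat_lit 0)),
  ((nat_lit 61), (nat_lit 2)),
  ((nat_lit 25), (nat_lit 1)),
  ((nat_lit 2), (nat_lit 2)),
  ((nat_lit 52), (nat_lit 0)),
  ((nat_lit 10), (nat_lit 2)),
  ((nat_lit 60), (nat_lit 3)),
  ((nat_lit 60), (nat_lit 2)),
  ((nat_lit 13), (nat_lit 1)),
  ((nat_lit 35), (nat_lit 3)),
  ((nat_lit 3), (nat_lit 2)),
  ((nat_lit 47), (nat_lit 5)),
  ((nat_lit 22), (nat_lit 0)),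
  ((nat_lit 39), (nat_lit 5)),
  ((nat_lit 39), (nat_lit 0)),
  ((nat_lit 55), (nat_lit 0)),
  ((nat_lit 19), (nat_lit 1)),
  ((nat_lit 57), (nat_lit 3)),
  ((nat_lit 57), (nat_lit 0)),
  ((nat_lit 21), (nat_lit 0)),
  ((nat_lit 48), (nat_lit 2)),
  ((nat_lit 48), (nat_lit 1)),
  ((nat_lit 6), (nat_lit 5)),
  ((nat_lit 6), (nat_lit 2)),
  ((nat_lit 6), (nat_lit 1)),
  ((nat_lit 6), (nat_lit 0)),
  ((nat_lit 5), (nat_lit 1)),
  ((nat_lit 62), (nat_lit 5)),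
  ((nat_lit 46), (nat_lit 2)),
  ((nat_lit 46), (nat_lit 1)),
  ((nat_lit 46), (nat_lit 0)),
  ((nat_lit 16), (nat_lit 5)),
  ((nat_lit 16), (nat_lit 1)),
  ((nat_lit 58), (nat_lit 5)),
  ((nat_lit 58), (nat_lit 2)),
  ((nat_lit 58), (nat_lit 1)),
  ((nat_lit 63), (nat_lit 3)),
  ((nat_lit 63), (nat_lit 1)),
  ((nat_lit 63), (nat_lit 0)),
  ((nat_lit 32), (nat_lit 5)),
  ((nat_lit 32), (nat_lit 2)),
  ((nat_lit 4), (nat_lit 2)),
  ((nat_lit 4), (nat_lit 1)),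
  ((nat_lit 4), (nat_lit 0)),
  ((nat_lit 50), (nat_lit 3)),
  ((nat_lit 50), (nat_lit 1)),
  ((nat_lit 54), (nat_lit 5)),
  ((nat_lit 54), (nat_lit 4)),
  ((nat_lit 54), (nat_lit 3)),
  ((nat_lit 54), (nat_lit 2)),
  ((nat_lit 54), (nat_lit 0)),
  ((nat_lit 12), (nat_lit 2)),
  ((nat_lit 12), (nat_lit 1)),
  ((nat_lit 12), (nat_lit 0)),
  ((nat_lit 1), (nat_lit 5)),
  ((nat_lit 1), (nat_lit 2)),
  ((nat_lit 1), (nat_lit 1))]),
  ((nat_lit 64), []),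
  ((nat_lit 65), [((nat_lit 104), (nat_lit 1)),
  ((nat_lit 120), (nat_lit 1)),
  ((nat_lit 100), (nat_lit 0)),
  ((nat_lit 75), (nat_lit 2)),
  ((nat_lit 75), (nat_lit 1)),
  ((nat_lit 75), (nat_lit 0)),
  ((nat_lit 125), (nat_lit 2)),
  ((nat_lit 89), (nat_lit 1)),
  ((nat_lit 66), (nat_lit 2)),
  ((nat_lit 116), (nat_lit 0)),
  ((nat_lit 74), (nat_lit 2)),
  ((nat_lit 124), (nat_lit 3)),
  ((nat_lit 124), (nat_lit 2)),
  ((nat_lit 77), (nat_lit 1)),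
  ((nat_lit 99), (nat_lit 3)),
  ((nat_lit 67), (nat_lit 2)),
  ((nat_lit 111), (nat_lit 5)),
  ((nat_lit 86), (nat_lit 0)),
  ((nat_lit 103), (nat_lit 5)),
  ((nat_lit 103), (nat_lit 0)),
  ((nat_lit 119), (nat_lit 0)),
  ((nat_lit 83), (nat_lit 1)),
  ((nat_lit 121), (nat_lit 3)),
  ((nat_lit 121), (nat_lit 0)),
  ((nat_lit 85), (nat_lit 0)),
  ((nat_lit 112), (nat_lit 2)),
  ((nat_lit 112), (nat_lit 1)),
  ((nat_lit 70), (nat_lit 5)),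
  ((nat_lit 70), (nat_lit 2)),
  ((nat_lit 70), (nat_lit 1)),
  ((nat_lit 70), (nat_lit 0)),
  ((nat_lit 69), (nat_lit 1)),
  ((nat_lit 126), (nat_lit 5)),
  ((nat_lit 110), (nat_lit 2)),
  ((nat_lit 110), (nat_lit 1)),
  ((nat_lit 110), (nat_lit 0)),
  ((nat_lit 80), (nat_lit 5)),
  ((nat_lit 80), (nat_lit 1)),
  ((nat_lit 122), (nat_lit 5)),
  ((nat_lit 122), (nat_lit 2)),
  ((nat_lit 122), (nat_lit 1)),
  ((nat_lit 127), (nat_lit 3)),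
  ((nat_lit 127), (nat_lit 1)),
  ((nat_lit 127), (nat_lit 0)),
  ((nat_lit 96), (nat_lit 5)),
  ((nat_lit 96), (nat_lit 2)),
  ((nat_lit 68), (nat_lit 2)),
  ((nat_lit 68), (nat_lit 1)),
  ((nat_lit 68), (nat_lit 0)),
  ((nat_lit 114), (nat_lit 3)),
  ((nat_lit 114), (nat_lit 1)),
  ((nat_lit 118), (nat_lit 5)),
  ((nat_lit 118), (nat_lit 4)),
  ((nat_lit 118), (nat_lit 3)),
  ((nat_lit 118), (nat_lit 2)),
  ((nat_lit 118), (nat_lit 0)),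
  ((nat_lit 76), (nat_lit 2)),
  ((nat_lit 76), (nat_lit 1)),
  ((nat_lit 76), (nat_lit 0)),
  ((nat_lit 65), (nat_lit 5)),
  ((nat_lit 65), (nat_lit 2)),
  ((nat_lit 65), (nat_lit 1))]),
  ((nat_lit 128), []),
  ((nat_lit 129), [((nat_lit 168), (nat_lit 1)),
  ((nat_lit 184), (nat_lit 1)),
  ((nat_lit 164), (nat_lit 0)),
  ((nat_lit 139), (nat_lit 2)),
  ((nat_lit 139), (nat_lit 1)),
  ((nat_lit 139), (nat_lit 0)),
  ((nat_lit 189), (nat_lit 2)),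
  ((nat_lit 153), (nat_lit 1)),
  ((nat_lit 130), (nat_lit 2)),
  ((nat_lit 180), (nat_lit 0)),
  ((nat_lit 138), (nat_lit 2)),
  ((nat_lit 188), (nat_lit 3)),
  ((nat_lit 188), (nat_lit 2)),
  ((nat_lit 141), (nat_lit 1)),
  ((nat_lit 163), (nat_lit 3)),
  ((nat_lit 131), (nat_lit 2)),
  ((nat_lit 175), (nat_lit 5)),
  ((nat_lit 150), (nat_lit 0)),
  ((nat_lit 167), (nat_lit 5)),
  ((nat_lit 167), (nat_lit 0)),
  ((nat_lit 183), (nat_lit 0)),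
  ((nat_lit 147), (nat_lit 1)),
  ((nat_lit 185), (nat_lit 3)),
  ((nat_lit 185), (nat_lit 0)),
  ((nat_lit 149), (nat_lit 0)),
  ((nat_lit 176), (nat_lit 2)),
  ((nat_lit 176), (nat_lit 1)),
  ((nat_lit 134), (nat_lit 5)),
  ((nat_lit 134), (nat_lit 2)),
  ((nat_lit 134), (nat_lit 1)),
  ((nat_lit 134), (nat_lit 0)),
  ((nat_lit 133), (nat_lit 1)),
  ((nat_lit 190), (nat_lit 5)),
  ((nat_lit 174), (nat_lit 2)),
  ((nat_lit 174), (nat_lit 1)),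
  ((nat_lit 174), (nat_lit 0)),
  ((nat_lit 144), (nat_lit 5)),
  ((nat_lit 144), (nat_lit 1)),
  ((nat_lit 186), (nat_lit 5)),
  ((nat_lit 186), (nat_lit 2)),
  ((nat_lit 186), (nat_lit 1)),
  ((nat_lit 191), (nat_lit 3)),
  ((nat_lit 191), (nat_lit 1)),
  ((nat_lit 191), (nat_lit 0)),
  ((nat_lit 160), (nat_lit 5)),
  ((nat_lit 160), (nat_lit 2)),
  ((nat_lit 132), (nat_lit 2)),
  ((nat_lit 132), (nat_lit 1)),
  ((nat_lit 132), (nat_lit 0)),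
  ((nat_lit 178), (nat_lit 3)),
  ((nat_lit 178), (nat_lit 1)),
  ((nat_lit 182), (nat_lit 5)),
  ((nat_lit 182), (nat_lit 4)),
  ((nat_lit 182), (nat_lit 3)),
  ((nat_lit 182), (nat_lit 2)),
  ((nat_lit 182), (nat_lit 0)),
  ((nat_lit 140), (nat_lit 2)),
  ((nat_lit 140), (nat_lit 1)),
  ((nat_lit 140), (nat_lit 0)),
  ((nat_lit 129), (nat_lit 5)),
  ((nat_lit 129), (nat_lit 2)),
  ((nat_lit 129), (nat_lit 1))]),
  ((nat_lit 192), []),
  ((nat_lit 193), [((nat_lit 232), (nat_lit 1)),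
  ((nat_lit 248), (nat_lit 1)),
  ((nat_lit 228), (nat_lit 0)),
  ((nat_lit 203), (nat_lit 2)),
  ((nat_lit 203), (nat_lit 1)),
  ((nat_lit 203), (nat_lit 0)),
  ((nat_lit 253), (nat_lit 2)),
  ((nat_lit 217), (nat_lit 1)),
  ((nat_lit 194), (nat_lit 2)),
  ((nat_lit 244), (nat_lit 0)),
  ((nat_lit 202), (nat_lit 2)),
  ((nat_lit 252), (nat_lit 3)),
  ((nat_lit 252), (nat_lit 2)),
  ((nat_lit 205), (nat_lit 1)),
  ((nat_lit 227), (nat_lit 3)),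
  ((nat_lit 195), (nat_lit 2)),
  ((nat_lit 239), (nat_lit 5)),
  ((nat_lit 214), (nat_lit 0)),
  ((nat_lit 231), (nat_lit 5)),
  ((nat_lit 231), (nat_lit 0)),
  ((nat_lit 247), (nat_lit 0)),
  ((nat_lit 211), (nat_lit 1)),
  ((nat_lit 249), (nat_lit 3)),
  ((nat_lit 249), (nat_lit 0)),
  ((nat_lit 213), (nat_lit 0)),
  ((nat_lit 240), (nat_lit 2)),
  ((nat_lit 240), (nat_lit 1)),
  ((nat_lit 198), (nat_lit 5)),
  ((nat_lit 198), (nat_lit 2)),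
  ((nat_lit 198), (nat_lit 1)),
  ((nat_lit 198), (nat_lit 0)),
  ((nat_lit 197), (nat_lit 1)),
  ((nat_lit 254), (nat_lit 5)),
  ((nat_lit 238), (nat_lit 2)),
  ((nat_lit 238), (nat_lit 1)),
  ((nat_lit 238), (nat_lit 0)),
  ((nat_lit 208), (nat_lit 5)),
  ((nat_lit 208), (nat_lit 1)),
  ((nat_lit 250), (nat_lit 5)),
  ((nat_lit 250), (nat_lit 2)),
  ((nat_lit 250), (nat_lit 1)),
  ((nat_lit 255), (nat_lit 3)),
  ((nat_lit 255), (nat_lit 1)),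
  ((nat_lit 255), (nat_lit 0)),
  ((nat_lit 224), (nat_lit 5)),
  ((nat_lit 224), (nat_lit 2)),
  ((nat_lit 196), (nat_lit 2)),
  ((nat_lit 196), (nat_lit 1)),
  ((nat_lit 196), (nat_lit 0)),
  ((nat_lit 242), (nat_lit 3)),
  ((nat_lit 242), (nat_lit 1)),
  ((nat_lit 246), (nat_lit 5)),
  ((nat_lit 246), (nat_lit 4)),
  ((nat_lit 246), (nat_lit 3)),
  ((nat_lit 246), (nat_lit 2)),
  ((nat_lit 246), (nat_lit 0)),
  ((nat_lit 204), (nat_lit 2)),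
  ((nat_lit 204), (nat_lit 1)),
  ((nat_lit 204), (nat_lit 0)),
  ((nat_lit 193), (nat_lit 5)),
  ((nat_lit 193), (nat_lit 2)),
  ((nat_lit 193), (nat_lit 1))])]),
  ([(nat_lit 0x804020100c080201),
  (nat_lit 0x804001031030040c),
  (nat_lit 0x804039272a151b36),
  (nat_lit 0x80403010080c0201),
  (nat_lit 0x80402010080c0201),
  (nat_lit 0x8040536308047172)], [], [((nat_lit 0), []),
  ((nat_lit 1), [((nat_lit 104), (nat_lit 1)),
  ((nat_lit 120), (nat_lit 1)),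
  ((nat_lit 100), (nat_lit 0)),
  ((nat_lit 75), (nat_lit 2)),
  ((nat_lit 75), (nat_lit 1)),
  ((nat_lit 75), (nat_lit 0)),
  ((nat_lit 61), (nat_lit 2)),
  ((nat_lit 25), (nat_lit 1)),
  ((nat_lit 2), (nat_lit 2)),
  ((nat_lit 116), (nat_lit 0)),
  ((nat_lit 74), (nat_lit 2)),
  ((nat_lit 124), (nat_lit 3)),
  ((nat_lit 124), (nat_lit 2)),
  ((nat_lit 77), (nat_lit 1)),
  ((nat_lit 99), (nat_lit 3)),
  ((nat_lit 3), (nat_lit 2)),
  ((nat_lit 47), (nat_lit 5)),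
  ((nat_lit 22), (nat_lit 0)),
  ((nat_lit 39), (nat_lit 5)),
  ((nat_lit 39), (nat_lit 0)),
  ((nat_lit 55), (nat_lit 0)),
  ((nat_lit 83), (nat_lit 1)),
  ((nat_lit 57), (nat_lit 3)),
  ((nat_lit 57), (nat_lit 0)),
  ((nat_lit 21), (nat_lit 0)),
  ((nat_lit 48), (nat_lit 2)),
  ((nat_lit 48), (nat_lit 1)),
  ((nat_lit 70), (nat_lit 5)),
  ((nat_lit 70), (nat_lit 2)),
  ((nat_lit 70), (nat_lit 1)),
  ((nat_lit 70), (nat_lit 0)),
  ((nat_lit 69), (nat_lit 1)),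
  ((nat_lit 62), (nat_lit 5)),
  ((nat_lit 46), (nat_lit 2)),
  ((nat_lit 46), (nat_lit 1)),
  ((nat_lit 46), (nat_lit 0)),
  ((nat_lit 16), (nat_lit 5)),
  ((nat_lit 16), (nat_lit 1)),
  ((nat_lit 58), (nat_lit 5)),
  ((nat_lit 58), (nat_lit 2)),
  ((nat_lit 58), (nat_lit 1)),
  ((nat_lit 63), (nat_lit 3)),
  ((nat_lit 63), (nat_lit 1)),
  ((nat_lit 63), (nat_lit 0)),
  ((nat_lit 32), (nat_lit 5)),
  ((nat_lit 32), (nat_lit 2)),
  ((nat_lit 4), (nat_lit 2)),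
  ((nat_lit 4), (nat_lit 1)),
  ((nat_lit 4), (nat_lit 0)),
  ((nat_lit 114), (nat_lit 3)),
  ((nat_lit 114), (nat_lit 1)),
  ((nat_lit 54), (nat_lit 5)),
  ((nat_lit 54), (nat_lit 4)),
  ((nat_lit 54), (nat_lit 3)),
  ((nat_lit 54), (nat_lit 2)),
  ((nat_lit 54), (nat_lit 0)),
  ((nat_lit 12), (nat_lit 2)),
  ((nat_lit 12), (nat_lit 1)),
  ((nat_lit 12), (nat_lit 0)),
  ((nat_lit 1), (nat_lit 5)),
  ((nat_lit 1), (nat_lit 2)),
  ((nat_lit 1), (nat_lit 1))]),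
  ((nat_lit 5), [((nat_lit 109), (nat_lit 2)),
  ((nat_lit 72), (nat_lit 0)),
  ((nat_lit 85), (nat_lit 2)),
  ((nat_lit 107), (nat_lit 1)),
  ((nat_lit 19), (nat_lit 5)),
  ((nat_lit 101), (nat_lit 1)),
  ((nat_lit 6), (nat_lit 5)),
  ((nat_lit 67), (nat_lit 2)),
  ((nat_lit 103), (nat_lit 3)),
  ((nat_lit 103), (nat_lit 1)),
  ((nat_lit 87), (nat_lit 1)),
  ((nat_lit 40), (nat_lit 5)),
  ((nat_lit 40), (nat_lit 1)),
  ((nat_lit 49), (nat_lit 5)),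
  ((nat_lit 49), (nat_lit 1)),
  ((nat_lit 11), (nat_lit 2)),
  ((nat_lit 50), (nat_lit 5)),
  ((nat_lit 56), (nat_lit 1)),
  ((nat_lit 106), (nat_lit 2)),
  ((nat_lit 106), (nat_lit 1)),
  ((nat_lit 86), (nat_lit 3)),
  ((nat_lit 86), (nat_lit 0)),
  ((nat_lit 111), (nat_lit 3)),
  ((nat_lit 111), (nat_lit 1)),
  ((nat_lit 24), (nat_lit 5)),
  ((nat_lit 24), (nat_lit 1)),
  ((nat_lit 110), (nat_lit 2)),
  ((nat_lit 110), (nat_lit 1)),
  ((nat_lit 126), (nat_lit 1)),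
  ((nat_lit 44), (nat_lit 5)),
  ((nat_lit 44), (nat_lit 2)),
  ((nat_lit 80), (nat_lit 1)),
  ((nat_lit 51), (nat_lit 1)),
  ((nat_lit 20), (nat_lit 5)),
  ((nat_lit 36), (nat_lit 5)),
  ((nat_lit 36), (nat_lit 0)),
  ((nat_lit 33), (nat_lit 3)),
  ((nat_lit 33), (nat_lit 2)),
  ((nat_lit 52), (nat_lit 2)),
  ((nat_lit 52), (nat_lit 1)),
  ((nat_lit 52), (nat_lit 0)),
  ((nat_lit 122), (nat_lit 3)),
  ((nat_lit 122), (nat_lit 1)),
  ((nat_lit 28), (nat_lit 5)),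
  ((nat_lit 28), (nat_lit 2)),
  ((nat_lit 118), (nat_lit 3)),
  ((nat_lit 13), (nat_lit 5)),
  ((nat_lit 13), (nat_lit 1)),
  ((nat_lit 35), (nat_lit 5)),
  ((nat_lit 35), (nat_lit 3)),
  ((nat_lit 35), (nat_lit 2)),
  ((nat_lit 60), (nat_lit 3)),
  ((nat_lit 60), (nat_lit 2)),
  ((nat_lit 60), (nat_lit 1)),
  ((nat_lit 60), (nat_lit 0)),
  ((nat_lit 9), (nat_lit 5)),
  ((nat_lit 9), (nat_lit 1)),
  ((nat_lit 5), (nat_lit 5)),
  ((nat_lit 5), (nat_lit 3)),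
  ((nat_lit 5), (nat_lit 2)),
  ((nat_lit 5), (nat_lit 1)),
  ((nat_lit 5), (nat_lit 0))]),
  ((nat_lit 64), []),
  ((nat_lit 128), []),
  ((nat_lit 129), [((nat_lit 232), (nat_lit 1)),
  ((nat_lit 248), (nat_lit 1)),
  ((nat_lit 228), (nat_lit 0)),
  ((nat_lit 203), (nat_lit 2)),
  ((nat_lit 203), (nat_lit 1)),
  ((nat_lit 203), (nat_lit 0)),
  ((nat_lit 189), (nat_lit 2)),
  ((nat_lit 153), (nat_lit 1)),
  ((nat_lit 130), (nat_lit 2)),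
  ((nat_lit 244), (nat_lit 0)),
  ((nat_lit 202), (nat_lit 2)),
  ((nat_lit 252), (nat_lit 3)),
  ((nat_lit 252), (nat_lit 2)),
  ((nat_lit 205), (nat_lit 1)),
  ((nat_lit 227), (nat_lit 3)),
  ((nat_lit 131), (nat_lit 2)),
  ((nat_lit 175), (nat_lit 5)),
  ((nat_lit 150), (nat_lit 0)),
  ((nat_lit 167), (nat_lit 5)),
  ((nat_lit 167), (nat_lit 0)),
  ((nat_lit 183), (nat_lit 0)),
  ((nat_lit 211), (nat_lit 1)),
  ((nat_lit 185), (nat_lit 3)),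
  ((nat_lit 185), (nat_lit 0)),
  ((nat_lit 149), (nat_lit 0)),
  ((nat_lit 176), (nat_lit 2)),
  ((nat_lit 176), (nat_lit 1)),
  ((nat_lit 198), (nat_lit 5)),
  ((nat_lit 198), (nat_lit 2)),
  ((nat_lit 198), (nat_lit 1)),
  ((nat_lit 198), (nat_lit 0)),
  ((nat_lit 197), (nat_lit 1)),
  ((nat_lit 190), (nat_lit 5)),
  ((nat_lit 174), (nat_lit 2)),
  ((nat_lit 174), (nat_lit 1)),
  ((nat_lit 174), (nat_lit 0)),
  ((nat_lit 144), (nat_lit 5)),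
  ((nat_lit 144), (nat_lit 1)),
  ((nat_lit 186), (nat_lit 5)),
  ((nat_lit 186), (nat_lit 2)),
  ((nat_lit 186), (nat_lit 1)),
  ((nat_lit 191), (nat_lit 3)),
  ((nat_lit 191), (nat_lit 1)),
  ((nat_lit 191), (nat_lit 0)),
  ((nat_lit 160), (nat_lit 5)),
  ((nat_lit 160), (nat_lit 2)),
  ((nat_lit 132), (nat_lit 2)),
  ((nat_lit 132), (nat_lit 1)),
  ((nat_lit 132), (nat_lit 0)),
  ((nat_lit 242), (nat_lit 3)),
  ((nat_lit 242), (nat_lit 1)),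
  ((nat_lit 182), (nat_lit 5)),
  ((nat_lit 182), (nat_lit 4)),
  ((nat_lit 182), (nat_lit 3)),
  ((nat_lit 182), (nat_lit 2)),
  ((nat_lit 182), (nat_lit 0)),
  ((nat_lit 140), (nat_lit 2)),
  ((nat_lit 140), (nat_lit 1)),
  ((nat_lit 140), (nat_lit 0)),
  ((nat_lit 129), (nat_lit 5)),
  ((nat_lit 129), (nat_lit 2)),
  ((nat_lit 129), (nat_lit 1))]),
  ((nat_lit 133), [((nat_lit 237), (nat_lit 2)),
  ((nat_lit 200), (nat_lit 0)),
  ((nat_lit 213), (nat_lit 2)),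
  ((nat_lit 235), (nat_lit 1)),
  ((nat_lit 147), (nat_lit 5)),
  ((nat_lit 229), (nat_lit 1)),
  ((nat_lit 134), (nat_lit 5)),
  ((nat_lit 195), (nat_lit 2)),
  ((nat_lit 231), (nat_lit 3)),
  ((nat_lit 231), (nat_lit 1)),
  ((nat_lit 215), (nat_lit 1)),
  ((nat_lit 168), (nat_lit 5)),
  ((nat_lit 168), (nat_lit 1)),
  ((nat_lit 177), (nat_lit 5)),
  ((nat_lit 177), (nat_lit 1)),
  ((nat_lit 139), (nat_lit 2)),
  ((nat_lit 178), (nat_lit 5)),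
  ((nat_lit 184), (nat_lit 1)),
  ((nat_lit 234), (nat_lit 2)),
  ((nat_lit 234), (nat_lit 1)),
  ((nat_lit 214), (nat_lit 3)),
  ((nat_lit 214), (nat_lit 0)),
  ((nat_lit 239), (nat_lit 3)),
  ((nat_lit 239), (nat_lit 1)),
  ((nat_lit 152), (nat_lit 5)),
  ((nat_lit 152), (nat_lit 1)),
  ((nat_lit 238), (nat_lit 2)),
  ((nat_lit 238), (nat_lit 1)),
  ((nat_lit 254), (nat_lit 1)),
  ((nat_lit 172), (nat_lit 5)),
  ((nat_lit 172), (nat_lit 2)),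
  ((nat_lit 208), (nat_lit 1)),
  ((nat_lit 179), (nat_lit 1)),
  ((nat_lit 148), (nat_lit 5)),
  ((nat_lit 164), (nat_lit 5)),
  ((nat_lit 164), (nat_lit 0)),
  ((nat_lit 161), (nat_lit 3)),
  ((nat_lit 161), (nat_lit 2)),
  ((nat_lit 180), (nat_lit 2)),
  ((nat_lit 180), (nat_lit 1)),
  ((nat_lit 180), (nat_lit 0)),
  ((nat_lit 250), (nat_lit 3)),
  ((nat_lit 250), (nat_lit 1)),
  ((nat_lit 156), (nat_lit 5)),
  ((nat_lit 156), (nat_lit 2)),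
  ((nat_lit 246), (nat_lit 3)),
  ((nat_lit 141), (nat_lit 5)),
  ((nat_lit 141), (nat_lit 1)),
  ((nat_lit 163), (nat_lit 5)),
  ((nat_lit 163), (nat_lit 3)),
  ((nat_lit 163), (nat_lit 2)),
  ((nat_lit 188), (nat_lit 3)),
  ((nat_lit 188), (nat_lit 2)),
  ((nat_lit 188), (nat_lit 1)),
  ((nat_lit 188), (nat_lit 0)),
  ((nat_lit 137), (nat_lit 5)),
  ((nat_lit 137), (nat_lit 1)),
  ((nat_lit 133), (nat_lit 5)),
  ((nat_lit 133), (nat_lit 3)),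
  ((nat_lit 133), (nat_lit 2)),
  ((nat_lit 133), (nat_lit 1)),
  ((nat_lit 133), (nat_lit 0))]),
  ((nat_lit 192), [])]),
  ([(nat_lit 0x804020100c080201),
  (nat_lit 0x804001031030040c),
  (nat_lit 0x804039272a151b36),
  (nat_lit 0x80403010080c0201),
  (nat_lit 0x80402010080c0201),
  (nat_lit 0xb340132308043132)], [], [((nat_lit 0), []),
  ((nat_lit 1), [((nat_lit 40), (nat_lit 1)),
  ((nat_lit 56), (nat_lit 1)),
  ((nat_lit 36), (nat_lit 0)),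
  ((nat_lit 11), (nat_lit 2)),
  ((nat_lit 11), (nat_lit 1)),
  ((nat_lit 11), (nat_lit 0)),
  ((nat_lit 61), (nat_lit 2)),
  ((nat_lit 25), (nat_lit 1)),
  ((nat_lit 2), (nat_lit 2)),
  ((nat_lit 52), (nat_lit 0)),
  ((nat_lit 10), (nat_lit 2)),
  ((nat_lit 60), (nat_lit 3)),
  ((nat_lit 60), (nat_lit 2)),
  ((nat_lit 13), (nat_lit 1)),
  ((nat_lit 35), (nat_lit 3)),
  ((nat_lit 3), (nat_lit 2)),
  ((nat_lit 47), (nat_lit 5)),
  ((nat_lit 22), (nat_lit 0)),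
  ((nat_lit 39), (nat_lit 5)),
  ((nat_lit 39), (nat_lit 0)),
  ((nat_lit 55), (nat_lit 0)),
  ((nat_lit 19), (nat_lit 1)),
  ((nat_lit 57), (nat_lit 3)),
  ((nat_lit 57), (nat_lit 0)),
  ((nat_lit 21), (nat_lit 0)),
  ((nat_lit 48), (nat_lit 2)),
  ((nat_lit 48), (nat_lit 1)),
  ((nat_lit 6), (nat_lit 5)),
  ((nat_lit 6), (nat_lit 2)),
  ((nat_lit 6), (nat_lit 1)),
  ((nat_lit 6), (nat_lit 0)),
  ((nat_lit 5), (nat_lit 1)),
  ((nat_lit 62), (nat_lit 5)),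
  ((nat_lit 46), (nat_lit 2)),
  ((nat_lit 46), (nat_lit 1)),
  ((nat_lit 46), (nat_lit 0)),
  ((nat_lit 16), (nat_lit 5)),
  ((nat_lit 16), (nat_lit 1)),
  ((nat_lit 58), (nat_lit 5)),
  ((nat_lit 58), (nat_lit 2)),
  ((nat_lit 58), (nat_lit 1)),
  ((nat_lit 63), (nat_lit 3)),
  ((nat_lit 63), (nat_lit 1)),
  ((nat_lit 63), (nat_lit 0)),
  ((nat_lit 32), (nat_lit 5)),
  ((nat_lit 32), (nat_lit 2)),
  ((nat_lit 4), (nat_lit 2)),
  ((nat_lit 4), (nat_lit 1)),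
  ((nat_lit 4), (nat_lit 0)),
  ((nat_lit 50), (nat_lit 3)),
  ((nat_lit 50), (nat_lit 1)),
  ((nat_lit 54), (nat_lit 5)),
  ((nat_lit 54), (nat_lit 4)),
  ((nat_lit 54), (nat_lit 3)),
  ((nat_lit 54), (nat_lit 2)),
  ((nat_lit 54), (nat_lit 0)),
  ((nat_lit 12), (nat_lit 2)),
  ((nat_lit 12), (nat_lit 1)),
  ((nat_lit 12), (nat_lit 0)),
  ((nat_lit 1), (nat_lit 5)),
  ((nat_lit 1), (nat_lit 2)),
  ((nat_lit 1), (nat_lit 1))]),
  ((nat_lit 64), []),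
  ((nat_lit 65), [((nat_lit 104), (nat_lit 1)),
  ((nat_lit 120), (nat_lit 1)),
  ((nat_lit 100), (nat_lit 0)),
  ((nat_lit 75), (nat_lit 2)),
  ((nat_lit 75), (nat_lit 1)),
  ((nat_lit 75), (nat_lit 0)),
  ((nat_lit 125), (nat_lit 2)),
  ((nat_lit 89), (nat_lit 1)),
  ((nat_lit 66), (nat_lit 2)),
  ((nat_lit 116), (nat_lit 0)),
  ((nat_lit 74), (nat_lit 2)),
  ((nat_lit 124), (nat_lit 3)),
  ((nat_lit 124), (nat_lit 2)),
  ((nat_lit 77), (nat_lit 1)),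
  ((nat_lit 99), (nat_lit 3)),
  ((nat_lit 67), (nat_lit 2)),
  ((nat_lit 111), (nat_lit 5)),
  ((nat_lit 86), (nat_lit 0)),
  ((nat_lit 103), (nat_lit 5)),
  ((nat_lit 103), (nat_lit 0)),
  ((nat_lit 119), (nat_lit 0)),
  ((nat_lit 83), (nat_lit 1)),
  ((nat_lit 121), (nat_lit 3)),
  ((nat_lit 121), (nat_lit 0)),
  ((nat_lit 85), (nat_lit 0)),
  ((nat_lit 112), (nat_lit 2)),
  ((nat_lit 112), (nat_lit 1)),
  ((nat_lit 70), (nat_lit 5)),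
  ((nat_lit 70), (nat_lit 2)),
  ((nat_lit 70), (nat_lit 1)),
  ((nat_lit 70), (nat_lit 0)),
  ((nat_lit 69), (nat_lit 1)),
  ((nat_lit 126), (nat_lit 5)),
  ((nat_lit 110), (nat_lit 2)),
  ((nat_lit 110), (nat_lit 1)),
  ((nat_lit 110), (nat_lit 0)),
  ((nat_lit 80), (nat_lit 5)),
  ((nat_lit 80), (nat_lit 1)),
  ((nat_lit 122), (nat_lit 5)),
  ((nat_lit 122), (nat_lit 2)),
  ((nat_lit 122), (nat_lit 1)),
  ((nat_lit 127), (nat_lit 3)),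
  ((nat_lit 127), (nat_lit 1)),
  ((nat_lit 127), (nat_lit 0)),
  ((nat_lit 96), (nat_lit 5)),
  ((nat_lit 96), (nat_lit 2)),
  ((nat_lit 68), (nat_lit 2)),
  ((nat_lit 68), (nat_lit 1)),
  ((nat_lit 68), (nat_lit 0)),
  ((nat_lit 114), (nat_lit 3)),
  ((nat_lit 114), (nat_lit 1)),
  ((nat_lit 118), (nat_lit 5)),
  ((nat_lit 118), (nat_lit 4)),
  ((nat_lit 118), (nat_lit 3)),
  ((nat_lit 118), (nat_lit 2)),
  ((nat_lit 118), (nat_lit 0)),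
  ((nat_lit 76), (nat_lit 2)),
  ((nat_lit 76), (nat_lit 1)),
  ((nat_lit 76), (nat_lit 0)),
  ((nat_lit 65), (nat_lit 5)),
  ((nat_lit 65), (nat_lit 2)),
  ((nat_lit 65), (nat_lit 1))]),
  ((nat_lit 128), [((nat_lit 180), (nat_lit 5)),
  ((nat_lit 180), (nat_lit 2)),
  ((nat_lit 161), (nat_lit 5)),
  ((nat_lit 161), (nat_lit 2)),
  ((nat_lit 168), (nat_lit 3)),
  ((nat_lit 168), (nat_lit 1)),
  ((nat_lit 178), (nat_lit 3)),
  ((nat_lit 178), (nat_lit 2)),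
  ((nat_lit 152), (nat_lit 1)),
  ((nat_lit 164), (nat_lit 3)),
  ((nat_lit 164), (nat_lit 2)),
  ((nat_lit 134), (nat_lit 1)),
  ((nat_lit 137), (nat_lit 0)),
  ((nat_lit 177), (nat_lit 3)),
  ((nat_lit 177), (nat_lit 2)),
  ((nat_lit 148), (nat_lit 3)),
  ((nat_lit 148), (nat_lit 2)),
  ((nat_lit 148), (nat_lit 0)),
  ((nat_lit 142), (nat_lit 1)),
  ((nat_lit 142), (nat_lit 0)),
  ((nat_lit 163), (nat_lit 1)),
  ((nat_lit 138), (nat_lit 2)),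
  ((nat_lit 138), (nat_lit 1)),
  ((nat_lit 138), (nat_lit 0)),
  ((nat_lit 179), (nat_lit 3)),
  ((nat_lit 179), (nat_lit 1)),
  ((nat_lit 128), (nat_lit 5))]),
  ((nat_lit 129), [((nat_lit 189), (nat_lit 2)),
  ((nat_lit 153), (nat_lit 1)),
  ((nat_lit 130), (nat_lit 2)),
  ((nat_lit 166), (nat_lit 1)),
  ((nat_lit 131), (nat_lit 2)),
  ((nat_lit 150), (nat_lit 0)),
  ((nat_lit 167), (nat_lit 0)),
  ((nat_lit 185), (nat_lit 3)),
  ((nat_lit 185), (nat_lit 0)),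
  ((nat_lit 149), (nat_lit 0)),
  ((nat_lit 176), (nat_lit 2)),
  ((nat_lit 176), (nat_lit 1)),
  ((nat_lit 136), (nat_lit 5)),
  ((nat_lit 174), (nat_lit 2)),
  ((nat_lit 174), (nat_lit 1)),
  ((nat_lit 174), (nat_lit 0)),
  ((nat_lit 144), (nat_lit 1)),
  ((nat_lit 186), (nat_lit 2)),
  ((nat_lit 186), (nat_lit 1)),
  ((nat_lit 191), (nat_lit 3)),
  ((nat_lit 191), (nat_lit 1)),
  ((nat_lit 160), (nat_lit 2)),
  ((nat_lit 132), (nat_lit 5)),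
  ((nat_lit 132), (nat_lit 2)),
  ((nat_lit 132), (nat_lit 1)),
  ((nat_lit 132), (nat_lit 0)),
  ((nat_lit 182), (nat_lit 4)),
  ((nat_lit 182), (nat_lit 3)),
  ((nat_lit 182), (nat_lit 2)),
  ((nat_lit 182), (nat_lit 0)),
  ((nat_lit 140), (nat_lit 2)),
  ((nat_lit 140), (nat_lit 1)),
  ((nat_lit 140), (nat_lit 0)),
  ((nat_lit 129), (nat_lit 2)),
  ((nat_lit 129), (nat_lit 1))]),
  ((nat_lit 192), [((nat_lit 244), (nat_lit 5)),
  ((nat_lit 244), (nat_lit 2)),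
  ((nat_lit 225), (nat_lit 5)),
  ((nat_lit 225), (nat_lit 2)),
  ((nat_lit 232), (nat_lit 3)),
  ((nat_lit 232), (nat_lit 1)),
  ((nat_lit 242), (nat_lit 3)),
  ((nat_lit 242), (nat_lit 2)),
  ((nat_lit 216), (nat_lit 1)),
  ((nat_lit 228), (nat_lit 3)),
  ((nat_lit 228), (nat_lit 2)),
  ((nat_lit 198), (nat_lit 1)),
  ((nat_lit 201), (nat_lit 0)),
  ((nat_lit 241), (nat_lit 3)),
  ((nat_lit 241), (nat_lit 2)),
  ((nat_lit 212), (nat_lit 3)),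
  ((nat_lit 212), (nat_lit 2)),
  ((nat_lit 212), (nat_lit 0)),
  ((nat_lit 206), (nat_lit 1)),
  ((nat_lit 206), (nat_lit 0)),
  ((nat_lit 227), (nat_lit 1)),
  ((nat_lit 202), (nat_lit 2)),
  ((nat_lit 202), (nat_lit 1)),
  ((nat_lit 202), (nat_lit 0)),
  ((nat_lit 243), (nat_lit 3)),
  ((nat_lit 243), (nat_lit 1)),
  ((nat_lit 192), (nat_lit 5))]),
  ((nat_lit 193), [((nat_lit 253), (nat_lit 2)),
  ((nat_lit 217), (nat_lit 1)),
  ((nat_lit 194), (nat_lit 2)),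
  ((nat_lit 230), (nat_lit 1)),
  ((nat_lit 195), (nat_lit 2)),
  ((nat_lit 214), (nat_lit 0)),
  ((nat_lit 231), (nat_lit 0)),
  ((nat_lit 249), (nat_lit 3)),
  ((nat_lit 249), (nat_lit 0)),
  ((nat_lit 213), (nat_lit 0)),
  ((nat_lit 240), (nat_lit 2)),
  ((nat_lit 240), (nat_lit 1)),
  ((nat_lit 200), (nat_lit 5)),
  ((nat_lit 238), (nat_lit 2)),
  ((nat_lit 238), (nat_lit 1)),
  ((nat_lit 238), (nat_lit 0)),
  ((nat_lit 208), (nat_lit 1)),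
  ((nat_lit 250), (nat_lit 2)),
  ((nat_lit 250), (nat_lit 1)),
  ((nat_lit 255), (nat_lit 3)),
  ((nat_lit 255), (nat_lit 1)),
  ((nat_lit 224), (nat_lit 2)),
  ((nat_lit 196), (nat_lit 5)),
  ((nat_lit 196), (nat_lit 2)),
  ((nat_lit 196), (nat_lit 1)),
  ((nat_lit 196), (nat_lit 0)),
  ((nat_lit 246), (nat_lit 4)),
  ((nat_lit 246), (nat_lit 3)),
  ((nat_lit 246), (nat_lit 2)),
  ((nat_lit 246), (nat_lit 0)),
  ((nat_lit 204), (nat_lit 2)),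
  ((nat_lit 204), (nat_lit 1)),
  ((nat_lit 204), (nat_lit 0)),
  ((nat_lit 193), (nat_lit 2)),
  ((nat_lit 193), (nat_lit 1))])]),
  ([(nat_lit 0x804020100c080201),
  (nat_lit 0x804001031030040c),
  (nat_lit 0x804039272a151b36),
  (nat_lit 0x80403010080c0201),
  (nat_lit 0xc0402010080c0201),
  (nat_lit 0xb340536308047172)], [(nat_lit 0x111e111e111eeee1111e111e111eeee1111e111e111eeee1eee1eee1eee1111e),
  (nat_lit 0xeee1eee1eee1111eeee1eee1eee1111e111e111e111eeee1eee1eee1eee1111e)], [((nat_lit 0), []),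
  ((nat_lit 1), [((nat_lit 104), (nat_lit 1)),
  ((nat_lit 120), (nat_lit 1)),
  ((nat_lit 100), (nat_lit 0)),
  ((nat_lit 75), (nat_lit 2)),
  ((nat_lit 75), (nat_lit 1)),
  ((nat_lit 75), (nat_lit 0)),
  ((nat_lit 61), (nat_lit 2)),
  ((nat_lit 25), (nat_lit 1)),
  ((nat_lit 2), (nat_lit 2)),
  ((nat_lit 116), (nat_lit 0)),
  ((nat_lit 74), (nat_lit 2)),
  ((nat_lit 124), (nat_lit 3)),
  ((nat_lit 124), (nat_lit 2)),
  ((nat_lit 77), (nat_lit 1)),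
  ((nat_lit 99), (nat_lit 3)),
  ((nat_lit 3), (nat_lit 2)),
  ((nat_lit 47), (nat_lit 5)),
  ((nat_lit 22), (nat_lit 0)),
  ((nat_lit 39), (nat_lit 5)),
  ((nat_lit 39), (nat_lit 0)),
  ((nat_lit 55), (nat_lit 0)),
  ((nat_lit 83), (nat_lit 1)),
  ((nat_lit 57), (nat_lit 3)),
  ((nat_lit 57), (nat_lit 0)),
  ((nat_lit 21), (nat_lit 0)),
  ((nat_lit 48), (nat_lit 2)),
  ((nat_lit 48), (nat_lit 1)),
  ((nat_lit 70), (nat_lit 5)),
  ((nat_lit 70), (nat_lit 2)),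
  ((nat_lit 70), (nat_lit 1)),
  ((nat_lit 70), (nat_lit 0)),
  ((nat_lit 69), (nat_lit 1)),
  ((nat_lit 62), (nat_lit 5)),
  ((nat_lit 46), (nat_lit 2)),
  ((nat_lit 46), (nat_lit 1)),
  ((nat_lit 46), (nat_lit 0)),
  ((nat_lit 16), (nat_lit 5)),
  ((nat_lit 16), (nat_lit 1)),
  ((nat_lit 58), (nat_lit 5)),
  ((nat_lit 58), (nat_lit 2)),
  ((nat_lit 58), (nat_lit 1)),
  ((nat_lit 63), (nat_lit 3)),
  ((nat_lit 63), (nat_lit 1)),
  ((nat_lit 63), (nat_lit 0)),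
  ((nat_lit 32), (nat_lit 5)),
  ((nat_lit 32), (nat_lit 2)),
  ((nat_lit 4), (nat_lit 2)),
  ((nat_lit 4), (nat_lit 1)),
  ((nat_lit 4), (nat_lit 0)),
  ((nat_lit 114), (nat_lit 3)),
  ((nat_lit 114), (nat_lit 1)),
  ((nat_lit 54), (nat_lit 5)),
  ((nat_lit 54), (nat_lit 4)),
  ((nat_lit 54), (nat_lit 3)),
  ((nat_lit 54), (nat_lit 2)),
  ((nat_lit 54), (nat_lit 0)),
  ((nat_lit 12), (nat_lit 2)),
  ((nat_lit 12), (nat_lit 1)),
  ((nat_lit 12), (nat_lit 0)),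
  ((nat_lit 1), (nat_lit 5)),
  ((nat_lit 1), (nat_lit 2)),
  ((nat_lit 1), (nat_lit 1))]),
  ((nat_lit 5), [((nat_lit 109), (nat_lit 2)),
  ((nat_lit 72), (nat_lit 0)),
  ((nat_lit 85), (nat_lit 2)),
  ((nat_lit 107), (nat_lit 1)),
  ((nat_lit 19), (nat_lit 5)),
  ((nat_lit 101), (nat_lit 1)),
  ((nat_lit 6), (nat_lit 5)),
  ((nat_lit 67), (nat_lit 2)),
  ((nat_lit 103), (nat_lit 3)),
  ((nat_lit 103), (nat_lit 1)),
  ((nat_lit 87), (nat_lit 1)),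
  ((nat_lit 40), (nat_lit 5)),
  ((nat_lit 40), (nat_lit 1)),
  ((nat_lit 49), (nat_lit 5)),
  ((nat_lit 49), (nat_lit 1)),
  ((nat_lit 11), (nat_lit 2)),
  ((nat_lit 50), (nat_lit 5)),
  ((nat_lit 56), (nat_lit 1)),
  ((nat_lit 106), (nat_lit 2)),
  ((nat_lit 106), (nat_lit 1)),
  ((nat_lit 86), (nat_lit 3)),
  ((nat_lit 86), (nat_lit 0)),
  ((nat_lit 111), (nat_lit 3)),
  ((nat_lit 111), (nat_lit 1)),
  ((nat_lit 24), (nat_lit 5)),
  ((nat_lit 24), (nat_lit 1)),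
  ((nat_lit 110), (nat_lit 2)),
  ((nat_lit 110), (nat_lit 1)),
  ((nat_lit 126), (nat_lit 1)),
  ((nat_lit 44), (nat_lit 5)),
  ((nat_lit 44), (nat_lit 2)),
  ((nat_lit 80), (nat_lit 1)),
  ((nat_lit 51), (nat_lit 1)),
  ((nat_lit 20), (nat_lit 5)),
  ((nat_lit 36), (nat_lit 5)),
  ((nat_lit 36), (nat_lit 0)),
  ((nat_lit 33), (nat_lit 3)),
  ((nat_lit 33), (nat_lit 2)),
  ((nat_lit 52), (nat_lit 2)),
  ((nat_lit 52), (nat_lit 1)),
  ((nat_lit 52), (nat_lit 0)),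
  ((nat_lit 122), (nat_lit 3)),
  ((nat_lit 122), (nat_lit 1)),
  ((nat_lit 28), (nat_lit 5)),
  ((nat_lit 28), (nat_lit 2)),
  ((nat_lit 118), (nat_lit 3)),
  ((nat_lit 13), (nat_lit 5)),
  ((nat_lit 13), (nat_lit 1)),
  ((nat_lit 35), (nat_lit 5)),
  ((nat_lit 35), (nat_lit 3)),
  ((nat_lit 35), (nat_lit 2)),
  ((nat_lit 60), (nat_lit 3)),
  ((nat_lit 60), (nat_lit 2)),
  ((nat_lit 60), (nat_lit 1)),
  ((nat_lit 60), (nat_lit 0)),
  ((nat_lit 9), (nat_lit 5)),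
  ((nat_lit 9), (nat_lit 1)),
  ((nat_lit 5), (nat_lit 5)),
  ((nat_lit 5), (nat_lit 3)),
  ((nat_lit 5), (nat_lit 2)),
  ((nat_lit 5), (nat_lit 1)),
  ((nat_lit 5), (nat_lit 0))]),
  ((nat_lit 64), []),
  ((nat_lit 128), [((nat_lit 244), (nat_lit 5)),
  ((nat_lit 244), (nat_lit 2)),
  ((nat_lit 180), (nat_lit 5)),
  ((nat_lit 180), (nat_lit 2)),
  ((nat_lit 225), (nat_lit 5)),
  ((nat_lit 225), (nat_lit 2)),
  ((nat_lit 232), (nat_lit 3)),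
  ((nat_lit 232), (nat_lit 1)),
  ((nat_lit 242), (nat_lit 3)),
  ((nat_lit 216), (nat_lit 1)),
  ((nat_lit 228), (nat_lit 3)),
  ((nat_lit 141), (nat_lit 4)),
  ((nat_lit 161), (nat_lit 5)),
  ((nat_lit 161), (nat_lit 2)),
  ((nat_lit 168), (nat_lit 3)),
  ((nat_lit 168), (nat_lit 1)),
  ((nat_lit 178), (nat_lit 3)),
  ((nat_lit 178), (nat_lit 2)),
  ((nat_lit 152), (nat_lit 1)),
  ((nat_lit 198), (nat_lit 1)),
  ((nat_lit 164), (nat_lit 4)),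
  ((nat_lit 164), (nat_lit 3)),
  ((nat_lit 164), (nat_lit 2)),
  ((nat_lit 134), (nat_lit 1)),
  ((nat_lit 201), (nat_lit 0)),
  ((nat_lit 241), (nat_lit 3)),
  ((nat_lit 241), (nat_lit 2)),
  ((nat_lit 212), (nat_lit 2)),
  ((nat_lit 212), (nat_lit 0)),
  ((nat_lit 206), (nat_lit 1)),
  ((nat_lit 137), (nat_lit 0)),
  ((nat_lit 177), (nat_lit 3)),
  ((nat_lit 177), (nat_lit 2)),
  ((nat_lit 148), (nat_lit 4)),
  ((nat_lit 148), (nat_lit 3)),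
  ((nat_lit 148), (nat_lit 2)),
  ((nat_lit 148), (nat_lit 0)),
  ((nat_lit 142), (nat_lit 4)),
  ((nat_lit 142), (nat_lit 1)),
  ((nat_lit 142), (nat_lit 0)),
  ((nat_lit 227), (nat_lit 1)),
  ((nat_lit 202), (nat_lit 2)),
  ((nat_lit 202), (nat_lit 1)),
  ((nat_lit 202), (nat_lit 0)),
  ((nat_lit 163), (nat_lit 1)),
  ((nat_lit 138), (nat_lit 2)),
  ((nat_lit 138), (nat_lit 1)),
  ((nat_lit 138), (nat_lit 0)),
  ((nat_lit 243), (nat_lit 3)),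
  ((nat_lit 243), (nat_lit 1)),
  ((nat_lit 179), (nat_lit 3)),
  ((nat_lit 179), (nat_lit 1)),
  ((nat_lit 192), (nat_lit 5)),
  ((nat_lit 128), (nat_lit 5)),
  ((nat_lit 128), (nat_lit 4))]),
  ((nat_lit 129), [((nat_lit 159), (nat_lit 4)),
  ((nat_lit 217), (nat_lit 1)),
  ((nat_lit 194), (nat_lit 2)),
  ((nat_lit 251), (nat_lit 1)),
  ((nat_lit 171), (nat_lit 4)),
  ((nat_lit 169), (nat_lit 4)),
  ((nat_lit 189), (nat_lit 5)),
  ((nat_lit 189), (nat_lit 2)),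
  ((nat_lit 153), (nat_lit 1)),
  ((nat_lit 130), (nat_lit 2)),
  ((nat_lit 238), (nat_lit 1)),
  ((nat_lit 230), (nat_lit 1)),
  ((nat_lit 165), (nat_lit 4)),
  ((nat_lit 166), (nat_lit 1)),
  ((nat_lit 131), (nat_lit 2)),
  ((nat_lit 250), (nat_lit 1)),
  ((nat_lit 150), (nat_lit 0)),
  ((nat_lit 213), (nat_lit 0)),
  ((nat_lit 240), (nat_lit 5)),
  ((nat_lit 240), (nat_lit 2)),
  ((nat_lit 240), (nat_lit 1)),
  ((nat_lit 247), (nat_lit 0)),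
  ((nat_lit 167), (nat_lit 5)),
  ((nat_lit 167), (nat_lit 4)),
  ((nat_lit 167), (nat_lit 0)),
  ((nat_lit 170), (nat_lit 4)),
  ((nat_lit 185), (nat_lit 4)),
  ((nat_lit 185), (nat_lit 3)),
  ((nat_lit 185), (nat_lit 0)),
  ((nat_lit 149), (nat_lit 4)),
  ((nat_lit 149), (nat_lit 0)),
  ((nat_lit 176), (nat_lit 2)),
  ((nat_lit 176), (nat_lit 1)),
  ((nat_lit 136), (nat_lit 5)),
  ((nat_lit 204), (nat_lit 2)),
  ((nat_lit 246), (nat_lit 3)),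
  ((nat_lit 174), (nat_lit 4)),
  ((nat_lit 174), (nat_lit 2)),
  ((nat_lit 174), (nat_lit 1)),
  ((nat_lit 174), (nat_lit 0)),
  ((nat_lit 144), (nat_lit 4)),
  ((nat_lit 144), (nat_lit 1)),
  ((nat_lit 186), (nat_lit 4)),
  ((nat_lit 186), (nat_lit 2)),
  ((nat_lit 186), (nat_lit 1)),
  ((nat_lit 186), (nat_lit 0)),
  ((nat_lit 196), (nat_lit 2)),
  ((nat_lit 196), (nat_lit 1)),
  ((nat_lit 196), (nat_lit 0)),
  ((nat_lit 191), (nat_lit 4)),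
  ((nat_lit 191), (nat_lit 3)),
  ((nat_lit 191), (nat_lit 1)),
  ((nat_lit 160), (nat_lit 4)),
  ((nat_lit 160), (nat_lit 2)),
  ((nat_lit 132), (nat_lit 5)),
  ((nat_lit 132), (nat_lit 2)),
  ((nat_lit 132), (nat_lit 1)),
  ((nat_lit 132), (nat_lit 0)),
  ((nat_lit 193), (nat_lit 1)),
  ((nat_lit 182), (nat_lit 5)),
  ((nat_lit 182), (nat_lit 4)),
  ((nat_lit 182), (nat_lit 3)),
  ((nat_lit 182), (nat_lit 2)),
  ((nat_lit 182), (nat_lit 0)),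
  ((nat_lit 140), (nat_lit 4)),
  ((nat_lit 140), (nat_lit 2)),
  ((nat_lit 140), (nat_lit 1)),
  ((nat_lit 140), (nat_lit 0)),
  ((nat_lit 129), (nat_lit 4)),
  ((nat_lit 129), (nat_lit 2)),
  ((nat_lit 129), (nat_lit 1))])]),
  ([(nat_lit 0x40c03020040c0302),
  (nat_lit 0x804001031030040c),
  (nat_lit 0x804039272a151b36),
  (nat_lit 0x2010c0810308040),
  (nat_lit 0x408030140803010),
  (nat_lit 0xa273a8dc2a378acd)], [(nat_lit 0x111e111e111eeee1111e111e111eeee1111e111e111eeee1eee1eee1eee1111e)], [((nat_lit 0), []),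
  ((nat_lit 1), [((nat_lit 114), (nat_lit 5)),
  ((nat_lit 145), (nat_lit 0)),
  ((nat_lit 211), (nat_lit 2)),
  ((nat_lit 211), (nat_lit 0)),
  ((nat_lit 108), (nat_lit 4)),
  ((nat_lit 108), (nat_lit 0)),
  ((nat_lit 227), (nat_lit 2)),
  ((nat_lit 163), (nat_lit 1)),
  ((nat_lit 252), (nat_lit 4)),
  ((nat_lit 61), (nat_lit 2)),
  ((nat_lit 74), (nat_lit 2)),
  ((nat_lit 74), (nat_lit 0)),
  ((nat_lit 139), (nat_lit 3)),
  ((nat_lit 139), (nat_lit 1)),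
  ((nat_lit 139), (nat_lit 0)),
  ((nat_lit 46), (nat_lit 3)),
  ((nat_lit 226), (nat_lit 5)),
  ((nat_lit 228), (nat_lit 5)),
  ((nat_lit 228), (nat_lit 4)),
  ((nat_lit 25), (nat_lit 4)),
  ((nat_lit 25), (nat_lit 3)),
  ((nat_lit 25), (nat_lit 2)),
  ((nat_lit 146), (nat_lit 2)),
  ((nat_lit 146), (nat_lit 1)),
  ((nat_lit 148), (nat_lit 1)),
  ((nat_lit 116), (nat_lit 1)),
  ((nat_lit 30), (nat_lit 5)),
  ((nat_lit 177), (nat_lit 3)),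
  ((nat_lit 177), (nat_lit 1)),
  ((nat_lit 97), (nat_lit 5)),
  ((nat_lit 97), (nat_lit 2)),
  ((nat_lit 97), (nat_lit 0)),
  ((nat_lit 216), (nat_lit 4)),
  ((nat_lit 216), (nat_lit 0)),
  ((nat_lit 37), (nat_lit 5)),
  ((nat_lit 37), (nat_lit 4)),
  ((nat_lit 37), (nat_lit 3)),
  ((nat_lit 37), (nat_lit 2)),
  ((nat_lit 37), (nat_lit 0)),
  ((nat_lit 55), (nat_lit 3)),
  ((nat_lit 21), (nat_lit 5)),
  ((nat_lit 21), (nat_lit 4)),
  ((nat_lit 45), (nat_lit 5)),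
  ((nat_lit 45), (nat_lit 4)),
  ((nat_lit 45), (nat_lit 3)),
  ((nat_lit 45), (nat_lit 0)),
  ((nat_lit 99), (nat_lit 5)),
  ((nat_lit 99), (nat_lit 2)),
  ((nat_lit 99), (nat_lit 1)),
  ((nat_lit 99), (nat_lit 0)),
  ((nat_lit 236), (nat_lit 5)),
  ((nat_lit 236), (nat_lit 4)),
  ((nat_lit 236), (nat_lit 2)),
  ((nat_lit 236), (nat_lit 0)),
  ((nat_lit 220), (nat_lit 1)),
  ((nat_lit 39), (nat_lit 4)),
  ((nat_lit 39), (nat_lit 3)),
  ((nat_lit 39), (nat_lit 0)),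
  ((nat_lit 115), (nat_lit 3)),
  ((nat_lit 115), (nat_lit 1)),
  ((nat_lit 178), (nat_lit 2)),
  ((nat_lit 178), (nat_lit 0)),
  ((nat_lit 180), (nat_lit 2)),
  ((nat_lit 180), (nat_lit 0)),
  ((nat_lit 31), (nat_lit 5)),
  ((nat_lit 31), (nat_lit 4)),
  ((nat_lit 31), (nat_lit 3)),
  ((nat_lit 31), (nat_lit 2)),
  ((nat_lit 31), (nat_lit 1)),
  ((nat_lit 31), (nat_lit 0)),
  ((nat_lit 29), (nat_lit 3)),
  ((nat_lit 29), (nat_lit 1)),
  ((nat_lit 192), (nat_lit 5)),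
  ((nat_lit 63), (nat_lit 5)),
  ((nat_lit 63), (nat_lit 4)),
  ((nat_lit 63), (nat_lit 3)),
  ((nat_lit 63), (nat_lit 0)),
  ((nat_lit 32), (nat_lit 5)),
  ((nat_lit 32), (nat_lit 2)),
  ((nat_lit 8), (nat_lit 2)),
  ((nat_lit 138), (nat_lit 3)),
  ((nat_lit 138), (nat_lit 1)),
  ((nat_lit 48), (nat_lit 5)),
  ((nat_lit 48), (nat_lit 2)),
  ((nat_lit 128), (nat_lit 5)),
  ((nat_lit 27), (nat_lit 5)),
  ((nat_lit 27), (nat_lit 4)),
  ((nat_lit 27), (nat_lit 3)),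
  ((nat_lit 27), (nat_lit 0)),
  ((nat_lit 4), (nat_lit 5)),
  ((nat_lit 4), (nat_lit 2)),
  ((nat_lit 3), (nat_lit 5)),
  ((nat_lit 3), (nat_lit 2)),
  ((nat_lit 205), (nat_lit 3)),
  ((nat_lit 205), (nat_lit 1)),
  ((nat_lit 16), (nat_lit 5)),
  ((nat_lit 16), (nat_lit 2)),
  ((nat_lit 64), (nat_lit 5)),
  ((nat_lit 54), (nat_lit 5)),
  ((nat_lit 54), (nat_lit 4)),
  ((nat_lit 54), (nat_lit 3)),
  ((nat_lit 54), (nat_lit 0)),
  ((nat_lit 12), (nat_lit 5)),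
  ((nat_lit 12), (nat_lit 4)),
  ((nat_lit 12), (nat_lit 2)),
  ((nat_lit 12), (nat_lit 1)),
  ((nat_lit 12), (nat_lit 0)),
  ((nat_lit 2), (nat_lit 5)),
  ((nat_lit 2), (nat_lit 4)),
  ((nat_lit 2), (nat_lit 3)),
  ((nat_lit 2), (nat_lit 2)),
  ((nat_lit 2), (nat_lit 1)),
  ((nat_lit 2), (nat_lit 0)),
  ((nat_lit 1), (nat_lit 5)),
  ((nat_lit 1), (nat_lit 4)),
  ((nat_lit 1), (nat_lit 3)),
  ((nat_lit 1), (nat_lit 2)),
  ((nat_lit 1), (nat_lit 1)),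
  ((nat_lit 1), (nat_lit 0))]),
  ((nat_lit 5), [((nat_lit 213), (nat_lit 3)),
  ((nat_lit 72), (nat_lit 5)),
  ((nat_lit 72), (nat_lit 2)),
  ((nat_lit 190), (nat_lit 1)),
  ((nat_lit 118), (nat_lit 4)),
  ((nat_lit 200), (nat_lit 5)),
  ((nat_lit 158), (nat_lit 4)),
  ((nat_lit 182), (nat_lit 5)),
  ((nat_lit 247), (nat_lit 4)),
  ((nat_lit 102), (nat_lit 2)),
  ((nat_lit 102), (nat_lit 1)),
  ((nat_lit 122), (nat_lit 3)),
  ((nat_lit 173), (nat_lit 5)),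
  ((nat_lit 173), (nat_lit 4)),
  ((nat_lit 169), (nat_lit 1)),
  ((nat_lit 249), (nat_lit 3)),
  ((nat_lit 195), (nat_lit 5)),
  ((nat_lit 195), (nat_lit 2)),
  ((nat_lit 233), (nat_lit 3)),
  ((nat_lit 233), (nat_lit 1)),
  ((nat_lit 255), (nat_lit 4)),
  ((nat_lit 136), (nat_lit 2)),
  ((nat_lit 235), (nat_lit 3)),
  ((nat_lit 28), (nat_lit 4)),
  ((nat_lit 40), (nat_lit 0)),
  ((nat_lit 91), (nat_lit 3)),
  ((nat_lit 196), (nat_lit 5)),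
  ((nat_lit 196), (nat_lit 2)),
  ((nat_lit 76), (nat_lit 5)),
  ((nat_lit 76), (nat_lit 2)),
  ((nat_lit 15), (nat_lit 5)),
  ((nat_lit 50), (nat_lit 3)),
  ((nat_lit 140), (nat_lit 2)),
  ((nat_lit 140), (nat_lit 0)),
  ((nat_lit 51), (nat_lit 0)),
  ((nat_lit 246), (nat_lit 3)),
  ((nat_lit 65), (nat_lit 5)),
  ((nat_lit 65), (nat_lit 2)),
  ((nat_lit 19), (nat_lit 5)),
  ((nat_lit 19), (nat_lit 3)),
  ((nat_lit 187), (nat_lit 2)),
  ((nat_lit 187), (nat_lit 0)),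
  ((nat_lit 222), (nat_lit 5)),
  ((nat_lit 222), (nat_lit 4)),
  ((nat_lit 185), (nat_lit 2)),
  ((nat_lit 185), (nat_lit 1)),
  ((nat_lit 185), (nat_lit 0)),
  ((nat_lit 129), (nat_lit 5)),
  ((nat_lit 129), (nat_lit 2)),
  ((nat_lit 159), (nat_lit 3)),
  ((nat_lit 159), (nat_lit 1)),
  ((nat_lit 44), (nat_lit 5)),
  ((nat_lit 214), (nat_lit 5)),
  ((nat_lit 214), (nat_lit 4)),
  ((nat_lit 214), (nat_lit 1)),
  ((nat_lit 214), (nat_lit 0)),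
  ((nat_lit 126), (nat_lit 1)),
  ((nat_lit 167), (nat_lit 5)),
  ((nat_lit 167), (nat_lit 3)),
  ((nat_lit 167), (nat_lit 0)),
  ((nat_lit 131), (nat_lit 5)),
  ((nat_lit 131), (nat_lit 2)),
  ((nat_lit 96), (nat_lit 2)),
  ((nat_lit 94), (nat_lit 3)),
  ((nat_lit 94), (nat_lit 2)),
  ((nat_lit 94), (nat_lit 1)),
  ((nat_lit 66), (nat_lit 5)),
  ((nat_lit 208), (nat_lit 1)),
  ((nat_lit 239), (nat_lit 1)),
  ((nat_lit 204), (nat_lit 2)),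
  ((nat_lit 204), (nat_lit 1)),
  ((nat_lit 204), (nat_lit 0)),
  ((nat_lit 20), (nat_lit 5)),
  ((nat_lit 20), (nat_lit 3)),
  ((nat_lit 9), (nat_lit 5)),
  ((nat_lit 9), (nat_lit 3)),
  ((nat_lit 9), (nat_lit 1)),
  ((nat_lit 9), (nat_lit 0)),
  ((nat_lit 49), (nat_lit 3)),
  ((nat_lit 49), (nat_lit 2)),
  ((nat_lit 49), (nat_lit 0)),
  ((nat_lit 105), (nat_lit 1)),
  ((nat_lit 194), (nat_lit 5)),
  ((nat_lit 194), (nat_lit 2)),
  ((nat_lit 194), (nat_lit 1)),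
  ((nat_lit 33), (nat_lit 5)),
  ((nat_lit 33), (nat_lit 3)),
  ((nat_lit 33), (nat_lit 2)),
  ((nat_lit 33), (nat_lit 0)),
  ((nat_lit 34), (nat_lit 3)),
  ((nat_lit 34), (nat_lit 0)),
  ((nat_lit 24), (nat_lit 5)),
  ((nat_lit 24), (nat_lit 4)),
  ((nat_lit 24), (nat_lit 2)),
  ((nat_lit 24), (nat_lit 1)),
  ((nat_lit 151), (nat_lit 1)),
  ((nat_lit 240), (nat_lit 5)),
  ((nat_lit 240), (nat_lit 2)),
  ((nat_lit 160), (nat_lit 2)),
  ((nat_lit 160), (nat_lit 1)),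
  ((nat_lit 36), (nat_lit 5)),
  ((nat_lit 36), (nat_lit 2)),
  ((nat_lit 11), (nat_lit 5)),
  ((nat_lit 250), (nat_lit 1)),
  ((nat_lit 144), (nat_lit 5)),
  ((nat_lit 144), (nat_lit 2)),
  ((nat_lit 144), (nat_lit 1)),
  ((nat_lit 144), (nat_lit 0)),
  ((nat_lit 112), (nat_lit 5)),
  ((nat_lit 112), (nat_lit 4)),
  ((nat_lit 112), (nat_lit 2)),
  ((nat_lit 112), (nat_lit 1)),
  ((nat_lit 112), (nat_lit 0)),
  ((nat_lit 35), (nat_lit 5)),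
  ((nat_lit 35), (nat_lit 3)),
  ((nat_lit 35), (nat_lit 2)),
  ((nat_lit 35), (nat_lit 1)),
  ((nat_lit 35), (nat_lit 0)),
  ((nat_lit 60), (nat_lit 5)),
  ((nat_lit 60), (nat_lit 4)),
  ((nat_lit 60), (nat_lit 2)),
  ((nat_lit 60), (nat_lit 1)),
  ((nat_lit 60), (nat_lit 0)),
  ((nat_lit 14), (nat_lit 5)),
  ((nat_lit 14), (nat_lit 4)),
  ((nat_lit 14), (nat_lit 3)),
  ((nat_lit 14), (nat_lit 1)),
  ((nat_lit 14), (nat_lit 0)),
  ((nat_lit 5), (nat_lit 5)),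
  ((nat_lit 5), (nat_lit 4)),
  ((nat_lit 5), (nat_lit 3)),
  ((nat_lit 5), (nat_lit 2)),
  ((nat_lit 5), (nat_lit 1)),
  ((nat_lit 5), (nat_lit 0))])])]

end CF.X8
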