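import Cfsg.Agent.Recog.X8.U6C

/-! Data for the double covers. -/

set_option autoImplicit false
set_option maxRecDepth 100000

namespace CF.X8

noncomputable def RW : List (List ℕ) := [[(nat_lit 1), (nat_lit 0), (nat_lit 1), (nat_lit 1)],
  [(nat_lit 0)],
  [(nat_lit 1), (nat_lit 1), (nat_lit 0), (nat_lit 1)],
  [(nat_lit 1), (nat_lit 2), (nat_lit 1), (nat_lit 3), (nat_lit 2), (nat_lit 3)],
  [(nat_lit 0), (nat_lit 1), (nat_lit 2), (nat_lit 1), (nat_lit 3), (nat_lit 2), (nat_lit 0), (nat_lit 3)],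
  [(nat_lit 0), (nat_lit 1), (nat_lit 0), (nat_lit 1), (nat_lit 0), (nat_lit 1)],
  [(nat_lit 0), (nat_lit 0), (nat_lit 1), (nat_lit 0), (nat_lit 1), (nat_lit 0), (nat_lit 1)],
  [(nat_lit 0), (nat_lit 1), (nat_lit 0), (nat_lit 2), (nat_lit 0), (nat_lit 1), (nat_lit 0)],
  [(nat_lit 1), (nat_lit 3), (nat_lit 2), (nat_lit 3), (nat_lit 1), (nat_lit 3), (nat_lit 2)],
  [(nat_lit 1), (nat_lit 2), (nat_lit 3), (nat_lit 1), (nat_lit 2), (nat_lit 3)],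
  [(nat_lit 2), (nat_lit 3), (nat_lit 1), (nat_lit 2), (nat_lit 1), (nat_lit 3)],
  [(nat_lit 1), (nat_lit 2), (nat_lit 1), (nat_lit 0)],
  [(nat_lit 0), (nat_lit 3), (nat_lit 1), (nat_lit 0), (nat_lit 2), (nat_lit 3), (nat_lit 2), (nat_lit 0)],
  [(nat_lit 1), (nat_lit 3), (nat_lit 2), (nat_lit 1), (nat_lit 3), (nat_lit 2)],
  [(nat_lit 0), (nat_lit 1), (nat_lit 1), (nat_lit 2), (nat_lit 1), (nat_lit 1)],
  [(nat_lit 1), (nat_lit 1), (nat_lit 2), (nat_lit 1), (nat_lit 1), (nat_lit 0)],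
  [(nat_lit 2), (nat_lit 1), (nat_lit 3), (nat_lit 2), (nat_lit 3), (nat_lit 1)],
  [(nat_lit 2), (nat_lit 3), (nat_lit 0), (nat_lit 2), (nat_lit 3), (nat_lit 0)],
  [(nat_lit 0), (nat_lit 2)],
  [(nat_lit 3), (nat_lit 1), (nat_lit 0), (nat_lit 1), (nat_lit 2), (nat_lit 3)],
  [(nat_lit 2), (nat_lit 1), (nat_lit 0), (nat_lit 1)],
  [(nat_lit 1), (nat_lit 0), (nat_lit 1), (nat_lit 2)],
  [(nat_lit 3), (nat_lit 2), (nat_lit 1), (nat_lit 0), (nat_lit 1), (nat_lit 3)],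
  [(nat_lit 0), (nat_lit 1), (nat_lit 2), (nat_lit 1)],
  [(nat_lit 3), (nat_lit 2), (nat_lit 0), (nat_lit 3)],
  [(nat_lit 3), (nat_lit 0), (nat_lit 1), (nat_lit 2), (nat_lit 1), (nat_lit 3)],
  [(nat_lit 2), (nat_lit 0)]]
noncomputable def UW4 : List (List ℕ) := [[(nat_lit 0), (nat_lit 1), (nat_lit 1), (nat_lit 3), (nat_lit 2), (nat_lit 2)],
  [(nat_lit 1), (nat_lit 0), (nat_lit 1), (nat_lit 0), (nat_lit 1), (nat_lit 3), (nat_lit 2), (nat_lit 2)],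
  [(nat_lit 0), (nat_lit 3), (nat_lit 1), (nat_lit 2), (nat_lit 2)],
  [(nat_lit 2), (nat_lit 3), (nat_lit 0), (nat_lit 1), (nat_lit 2)],
  [(nat_lit 0), (nat_lit 2), (nat_lit 3), (nat_lit 0), (nat_lit 1), (nat_lit 2), (nat_lit 0)],
  [(nat_lit 2), (nat_lit 2), (nat_lit 1), (nat_lit 2)],
  [(nat_lit 1), (nat_lit 0), (nat_lit 1), (nat_lit 3), (nat_lit 2), (nat_lit 0), (nat_lit 3), (nat_lit 1)],
  [(nat_lit 2), (nat_lit 2), (nat_lit 3), (nat_lit 2), (nat_lit 0), (nat_lit 3), (nat_lit 1), (nat_lit 2), (nat_lit 0)],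
  [(nat_lit 2), (nat_lit 2), (nat_lit 1), (nat_lit 2), (nat_lit 3)],
  [(nat_lit 0), (nat_lit 1), (nat_lit 2), (nat_lit 2), (nat_lit 3), (nat_lit 2)],
  [(nat_lit 0), (nat_lit 2), (nat_lit 1), (nat_lit 2), (nat_lit 3), (nat_lit 2), (nat_lit 1)],
  [(nat_lit 0), (nat_lit 1), (nat_lit 3), (nat_lit 2), (nat_lit 0), (nat_lit 3), (nat_lit 2), (nat_lit 0)],
  [(nat_lit 1), (nat_lit 2), (nat_lit 1), (nat_lit 3), (nat_lit 1), (nat_lit 2), (nat_lit 0)],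
  [(nat_lit 0), (nat_lit 1), (nat_lit 0), (nat_lit 2), (nat_lit 0), (nat_lit 3)],
  [(nat_lit 2), (nat_lit 2), (nat_lit 3), (nat_lit 2), (nat_lit 0), (nat_lit 3), (nat_lit 2)],
  [(nat_lit 2), (nat_lit 3), (nat_lit 2), (nat_lit 1), (nat_lit 2), (nat_lit 2), (nat_lit 3)],
  [(nat_lit 0), (nat_lit 1), (nat_lit 1), (nat_lit 2), (nat_lit 3), (nat_lit 0)],
  [(nat_lit 0), (nat_lit 1), (nat_lit 2), (nat_lit 3), (nat_lit 2)],
  [(nat_lit 0), (nat_lit 0), (nat_lit 1), (nat_lit 2), (nat_lit 3), (nat_lit 2), (nat_lit 0)],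
  [(nat_lit 1), (nat_lit 2), (nat_lit 1), (nat_lit 3), (nat_lit 2), (nat_lit 0)],
  [(nat_lit 0), (nat_lit 1), (nat_lit 2), (nat_lit 3), (nat_lit 1), (nat_lit 2), (nat_lit 0), (nat_lit 0)],
  [(nat_lit 0), (nat_lit 0), (nat_lit 1), (nat_lit 2), (nat_lit 3), (nat_lit 1), (nat_lit 2), (nat_lit 0)],
  [(nat_lit 0), (nat_lit 1), (nat_lit 2), (nat_lit 1), (nat_lit 3), (nat_lit 2)],
  [(nat_lit 2), (nat_lit 2), (nat_lit 3), (nat_lit 2), (nat_lit 1), (nat_lit 3), (nat_lit 2), (nat_lit 0)],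
  [(nat_lit 0), (nat_lit 2), (nat_lit 1), (nat_lit 1), (nat_lit 3), (nat_lit 2), (nat_lit 1)],
  [(nat_lit 2), (nat_lit 1), (nat_lit 3), (nat_lit 2), (nat_lit 0), (nat_lit 1)],
  [(nat_lit 0), (nat_lit 2), (nat_lit 1), (nat_lit 3), (nat_lit 2), (nat_lit 0), (nat_lit 1), (nat_lit 0)]]
noncomputable def NQ4 : List (List ℕ) := [[(nat_lit 0)], [(nat_lit 1), (nat_lit 2), (nat_lit 3)]]
noncomputable def AQ4 : List ℕ := [(nat_lit 0x40c03020040c0302), (nat_lit 0x201b46cfca878e4)]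
noncomputable def OQ4 : ℕ × List (ℕ × ℕ) := ((nat_lit 24), [((nat_lit 67), (nat_lit 0)),
  ((nat_lit 129), (nat_lit 0)),
  ((nat_lit 175), (nat_lit 0)),
  ((nat_lit 130), (nat_lit 0)),
  ((nat_lit 89), (nat_lit 0)),
  ((nat_lit 237), (nat_lit 1)),
  ((nat_lit 155), (nat_lit 1)),
  ((nat_lit 11), (nat_lit 0)),
  ((nat_lit 13), (nat_lit 0)),
  ((nat_lit 173), (nat_lit 0)),
  ((nat_lit 132), (nat_lit 1)),
  ((nat_lit 132), (nat_lit 0)),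
  ((nat_lit 151), (nat_lit 0)),
  ((nat_lit 183), (nat_lit 0)),
  ((nat_lit 119), (nat_lit 0)),
  ((nat_lit 49), (nat_lit 0)),
  ((nat_lit 247), (nat_lit 0)),
  ((nat_lit 233), (nat_lit 0)),
  ((nat_lit 213), (nat_lit 1)),
  ((nat_lit 245), (nat_lit 0)),
  ((nat_lit 103), (nat_lit 1)),
  ((nat_lit 214), (nat_lit 1)),
  ((nat_lit 214), (nat_lit 0)),
  ((nat_lit 117), (nat_lit 0)),
  ((nat_lit 167), (nat_lit 1)),
  ((nat_lit 169), (nat_lit 1)),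
  ((nat_lit 87), (nat_lit 1)),
  ((nat_lit 87), (nat_lit 0)),
  ((nat_lit 33), (nat_lit 1)),
  ((nat_lit 33), (nat_lit 0)),
  ((nat_lit 238), (nat_lit 1)),
  ((nat_lit 204), (nat_lit 0)),
  ((nat_lit 51), (nat_lit 1)),
  ((nat_lit 246), (nat_lit 1)),
  ((nat_lit 246), (nat_lit 0)),
  ((nat_lit 91), (nat_lit 1)),
  ((nat_lit 125), (nat_lit 1)),
  ((nat_lit 125), (nat_lit 0)),
  ((nat_lit 249), (nat_lit 1)),
  ((nat_lit 194), (nat_lit 1)),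
  ((nat_lit 194), (nat_lit 0)),
  ((nat_lit 215), (nat_lit 0)),
  ((nat_lit 200), (nat_lit 0)),
  ((nat_lit 250), (nat_lit 1)),
  ((nat_lit 250), (nat_lit 0)),
  ((nat_lit 224), (nat_lit 1)),
  ((nat_lit 224), (nat_lit 0)),
  ((nat_lit 217), (nat_lit 1)),
  ((nat_lit 217), (nat_lit 0)),
  ((nat_lit 208), (nat_lit 0)),
  ((nat_lit 106), (nat_lit 1)),
  ((nat_lit 106), (nat_lit 0)),
  ((nat_lit 90), (nat_lit 1)),
  ((nat_lit 90), (nat_lit 0)),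
  ((nat_lit 127), (nat_lit 1)),
  ((nat_lit 107), (nat_lit 1)),
  ((nat_lit 107), (nat_lit 0)),
  ((nat_lit 154), (nat_lit 1)),
  ((nat_lit 154), (nat_lit 0)),
  ((nat_lit 171), (nat_lit 1)),
  ((nat_lit 171), (nat_lit 0)),
  ((nat_lit 9), (nat_lit 0)),
  ((nat_lit 223), (nat_lit 1)),
  ((nat_lit 223), (nat_lit 0)),
  ((nat_lit 101), (nat_lit 0)),
  ((nat_lit 255), (nat_lit 1)),
  ((nat_lit 186), (nat_lit 0)),
  ((nat_lit 85), (nat_lit 1)),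
  ((nat_lit 85), (nat_lit 0)),
  ((nat_lit 34), (nat_lit 1)),
  ((nat_lit 34), (nat_lit 0)),
  ((nat_lit 190), (nat_lit 1)),
  ((nat_lit 190), (nat_lit 0)),
  ((nat_lit 111), (nat_lit 1)),
  ((nat_lit 111), (nat_lit 0)),
  ((nat_lit 65), (nat_lit 1)),
  ((nat_lit 65), (nat_lit 0)),
  ((nat_lit 235), (nat_lit 1)),
  ((nat_lit 15), (nat_lit 1)),
  ((nat_lit 165), (nat_lit 1)),
  ((nat_lit 165), (nat_lit 0)),
  ((nat_lit 44), (nat_lit 1)),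
  ((nat_lit 112), (nat_lit 1)),
  ((nat_lit 112), (nat_lit 0)),
  ((nat_lit 189), (nat_lit 1)),
  ((nat_lit 189), (nat_lit 0)),
  ((nat_lit 239), (nat_lit 1)),
  ((nat_lit 239), (nat_lit 0)),
  ((nat_lit 253), (nat_lit 1)),
  ((nat_lit 253), (nat_lit 0)),
  ((nat_lit 196), (nat_lit 1)),
  ((nat_lit 118), (nat_lit 1)),
  ((nat_lit 118), (nat_lit 0)),
  ((nat_lit 102), (nat_lit 1)),
  ((nat_lit 102), (nat_lit 0)),
  ((nat_lit 187), (nat_lit 1)),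
  ((nat_lit 187), (nat_lit 0)),
  ((nat_lit 149), (nat_lit 1)),
  ((nat_lit 150), (nat_lit 1)),
  ((nat_lit 150), (nat_lit 0)),
  ((nat_lit 94), (nat_lit 1)),
  ((nat_lit 94), (nat_lit 0)),
  ((nat_lit 219), (nat_lit 1)),
  ((nat_lit 219), (nat_lit 0)),
  ((nat_lit 20), (nat_lit 0)),
  ((nat_lit 52), (nat_lit 1)),
  ((nat_lit 86), (nat_lit 1)),
  ((nat_lit 86), (nat_lit 0)),
  ((nat_lit 72), (nat_lit 1)),
  ((nat_lit 72), (nat_lit 0)),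
  ((nat_lit 153), (nat_lit 1)),
  ((nat_lit 153), (nat_lit 0)),
  ((nat_lit 251), (nat_lit 1)),
  ((nat_lit 251), (nat_lit 0)),
  ((nat_lit 181), (nat_lit 1)),
  ((nat_lit 181), (nat_lit 0)),
  ((nat_lit 240), (nat_lit 1)),
  ((nat_lit 56), (nat_lit 0)),
  ((nat_lit 40), (nat_lit 0)),
  ((nat_lit 140), (nat_lit 1)),
  ((nat_lit 140), (nat_lit 0)),
  ((nat_lit 110), (nat_lit 1)),
  ((nat_lit 110), (nat_lit 0)),
  ((nat_lit 96), (nat_lit 1)),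
  ((nat_lit 96), (nat_lit 0)),
  ((nat_lit 28), (nat_lit 1)),
  ((nat_lit 28), (nat_lit 0)),
  ((nat_lit 60), (nat_lit 1)),
  ((nat_lit 144), (nat_lit 1)),
  ((nat_lit 144), (nat_lit 0)),
  ((nat_lit 36), (nat_lit 1)),
  ((nat_lit 36), (nat_lit 0)),
  ((nat_lit 24), (nat_lit 1)),
  ((nat_lit 24), (nat_lit 0))])

end CF.X8
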